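import Cfsg.Agent.R2.Spec.X4.H10.L3Row

/-!
# X4: `S = L₃(u)`, `U₃(u)` are impossible, end (helper10)

* `row_l3`, `row_u3`.
-/

set_option autoImplicit false
set_option linter.unusedSectionVars false
set_option linter.unusedVariables false

namespace Cfsg.Agent.R2.Spec.X4.H10

open Subgroup Cfsg
open Cfsg.Agent.H426.LieFam Cfsg.Agent.R2.Spec Cfsg.Agent.R2.Spec.P1 Cfsg.Agent.R2.Spec.F1
open Cfsg.Agent.H72

universe u

variable {p q k A k' B m i : ℕ} {W : ℕ → Prop} {S : Type u} [Group S] {t : Fam} {v f : ℕ} {U : ℤ} {c T1 T2 : ℕ}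

theorem C3.u_lt (C : C3 p q k A k' B m i W S t v f U c T1 T2) {X : ℕ} (hX : 2 * (X : ℤ) ≤ (q : ℤ) ^ 3 + 1)
    (hX0 : 0 < X) (hT : T1 ∣ X) (hq : q < 50) : v ^ f < 430 := by
  have h1 : (T1 : ℤ) ≤ X := by exact_mod_cast Nat.le_of_dvd hX0 hT
  have h2 := C.F.e1
  have h3 : (q : ℤ) ^ 3 ≤ 49 ^ 3 := pow_le_pow_left₀ (by omega) (by omega) 3
  have h4 : (c : ℤ) * T1 ≤ 3 * X := by
    rcases C.F.hc with h | h <;> rw [h] <;> push_cast <;> omega
  by_contra hcon
  have h5 : (430 : ℤ) ≤ ((v ^ f : ℕ) : ℤ) := by exact_mod_cast (by omega : 430 ≤ v ^ f)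
  rcases C.F.hU with h | h <;> rw [h] at h2 <;> nlinarith

theorem C3.u2 (C : C3 p q k A k' B m i W S t v f U c T1 T2) : 2 ≤ v ^ f :=
  C.hv.two_le.trans (Nat.le_self_pow (H4.is_f_ne C.cla C.hI) v)

/-- `T1 ∣ X1`, `T2 ∣ X2`, `κ ∣ T1` : only the family of solutions -/
theorem C3.fam (C : C3 p q k A k' B m i W S t v f U c T1 T2) (hq : 50 ≤ q) {κ X1 X2 : ℕ} {d : ℤ}
    (hκ : (q : ℤ) ^ 2 - q + 1 ≤ 3 * κ) (hκT : κ ∣ T1) (hT1 : T1 ∣ X1) (hT2 : T2 ∣ X2) (hX10 : 0 < X1)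
    (hd : d = 1 ∨ d = -1) (hX1 : 2 * (X1 : ℤ) = (q : ℤ) ^ 3 + d) (hX2 : 2 * (X2 : ℤ) = (q : ℤ) ^ 3 - d) :
    (3 : ℤ) * T2 = U ^ 2 - 1 ∧ ((0 < U ∧ 3 * (X2 : ℤ) = (U - 1) * (U ^ 2 - 1) ∧ d = -1) ∨
      (U < 0 ∧ 3 * (X2 : ℤ) = (1 - U) * (U ^ 2 - 1) ∧ d = 1)) := by
  obtain ⟨h1, hh1⟩ := hT1
  obtain ⟨h2, hh2⟩ := hT2
  have hT10 : 0 < T1 := by
    rcases Nat.eq_zero_or_pos T1 with h | h
    · rw [h, zero_mul] at hh1; omega
    · exact h
  have h10 : 0 < h1 := by
    rcases Nat.eq_zero_or_pos h1 with h | h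
    · rw [h, mul_zero] at hh1; omega
    · exact h
  have hκ' : (κ : ℤ) ≤ T1 := by exact_mod_cast Nat.le_of_dvd hT10 hκT
  have hcz : (c : ℤ) = 1 ∨ (c : ℤ) = 3 := by rcases C.F.hc with h | h <;> rw [h] <;> norm_num
  have e3 : (h1 : ℤ) * T1 = X1 := by rw [hh1]; push_cast; ring
  have e4 : (h2 : ℤ) * T2 = X2 := by rw [hh2]; push_cast; ring
  have hd1 : d ≤ 1 := by rcases hd with rfl | rfl <;> norm_num
  have key := n1core (q := q) (by exact_mod_cast hq) hcz C.F.e1 C.F.e2 e3 e4 (σ := d) (by omega) hd (by omega)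
    (by omega) (by exact_mod_cast h10)
  have e2 := C.F.e2
  obtain ⟨hc3, key⟩ := key
  rw [hc3] at e2
  refine ⟨e2, ?_⟩
  rcases key with ⟨a, -, b, hσ⟩ | ⟨a, -, b, hσ⟩
  · exact Or.inl ⟨a, by rw [← e4, b, ← e2]; ring, hσ⟩
  · exact Or.inr ⟨a, by rw [← e4, b, ← e2]; ring, hσ⟩

/-- the family, if the other primitive part divides `T2` -/
theorem C3.fam_kill (C : C3 p q k A k' B m i W S t v f U c T1 T2) (hq : 50 ≤ q) {X2 κ : ℕ} {d g : ℤ}
    (hf : (3 : ℤ) * T2 = U ^ 2 - 1 ∧ ((0 < U ∧ 3 * (X2 : ℤ) = (U - 1) * (U ^ 2 - 1) ∧ d = -1) ∨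
      (U < 0 ∧ 3 * (X2 : ℤ) = (1 - U) * (U ^ 2 - 1) ∧ d = 1)))
    (hX2 : 2 * (X2 : ℤ) = (q : ℤ) ^ 3 - d) (hg : g = 1 ∨ g = 3) (hgκ : g * κ = (q : ℤ) ^ 2 + d * q + 1)
    (hκ : κ ∣ T2) : False := by
  obtain ⟨h1, h2⟩ := hf
  have hq' : (50 : ℤ) ≤ q := by exact_mod_cast hq
  have h3 : g * (κ : ℤ) ∣ U ^ 2 - 1 := by
    rw [← h1]
    have h4 : (κ : ℤ) ∣ T2 := by exact_mod_cast hκ
    rcases hg with rfl | rfl
    · rw [one_mul]; exact h4.mul_left 3
    · exact mul_dvd_mul_left 3 h4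
  rw [hgκ] at h3
  have hU3 : U = 2 ∨ U = 1 ∨ U = -1 ∨ U = 0 ∨ 3 ≤ U ∨ U ≤ -3 := by have := C.F.hU2; omega
  have hbig : (50 : ℤ) ^ 3 ≤ (q : ℤ) ^ 3 := pow_le_pow_left₀ (by norm_num) hq' 3
  rcases h2 with ⟨a, b, hd⟩ | ⟨a, b, hd⟩
  · subst hd
    have hU : 3 ≤ U := by
      by_contra hcon
      have : U = 1 ∨ U = 2 := by omega
      rcases this with rfl | rfl <;> norm_num at b <;> omega
    refine spPos (u := U) (q := q) (by omega) hU (by linarith) ?_
    rwa [show (q : ℤ) ^ 2 - q + 1 = (q : ℤ) ^ 2 + -1 * q + 1 by ring]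
  · subst hd
    have hU : 3 ≤ -U := by
      by_contra hcon
      have : U = -1 := by omega
      subst this
      norm_num at b
      omega
    refine spNeg (u := -U) (q := q) (by omega) hU ?_ ?_
    · rw [neg_sq]
      linarith
    · rw [neg_sq]
      rwa [show (q : ℤ) ^ 2 + q + 1 = (q : ℤ) ^ 2 + 1 * q + 1 by ring]

/-- the family, if `v` divides `X2` -/
theorem C3.fam_kill_v (C : C3 p q k A k' B m i W S t v f U c T1 T2) {X2 : ℕ} {d : ℤ}
    (hf : (3 : ℤ) * T2 = U ^ 2 - 1 ∧ ((0 < U ∧ 3 * (X2 : ℤ) = (U - 1) * (U ^ 2 - 1) ∧ d = -1) ∨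
      (U < 0 ∧ 3 * (X2 : ℤ) = (1 - U) * (U ^ 2 - 1) ∧ d = 1))) (hv : v ∣ X2) : False := by
  have h1 : (v : ℤ) ∣ 3 * X2 := (Int.natCast_dvd_natCast.2 hv).mul_left 3
  have hv1 : ¬ (v : ℤ) ∣ 1 := by
    intro h
    have h2 := Int.le_of_dvd (by norm_num) h
    have := C.hv.two_le
    omega
  apply hv1
  rcases hf.2 with ⟨-, b, -⟩ | ⟨-, b, -⟩
  · rw [b] at h1
    have h2 := dvd_sub h1 (C.vU.mul_right (U ^ 2 - U - 1))
    rwa [show (U - 1) * (U ^ 2 - 1) - U * (U ^ 2 - U - 1) = 1 by ring] at h2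
  · rw [b] at h1
    have h2 := dvd_sub (C.vU.mul_right (-U ^ 2 + U + 1)) h1
    rwa [show U * (-U ^ 2 + U + 1) - (1 - U) * (U ^ 2 - 1) = 1 by ring] at h2

theorem C3.done (C : C3 p q k A k' B m i W S t v f U c T1 T2) : False := by
  have := C.h.fin
  have L := C.h.lw
  obtain ⟨d, g, g', n, hg, hg', hgk, hgk'⟩ := LW.nsc L
  have hq7 := L.q7
  have hA0 : 0 < A := L.pos _ L.WA
  have hB0 : 0 < B := L.pos _ L.WB
  have hd1 : d ≤ 1 ∧ -1 ≤ d := by rcases n.hd with h | h <;> omega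
  have hzz := L.side.z
  have hq2 : 7 * 7 ≤ q ^ 2 := by rw [sq]; exact Nat.mul_le_mul hq7 hq7
  obtain ⟨hWT1, hWT2⟩ := C.WT
  obtain ⟨e, hTe1, hTe2⟩ := C.hT
  have hu2 := C.u2
  obtain ⟨y1, hy1⟩ := C.F.ex1
  obtain ⟨y2, hy2⟩ := C.F.ex2
  obtain ⟨yk, hyk⟩ := C.h.kS C.hg
  obtain ⟨ν, hν, hνk⟩ := Nat.exists_prime_and_dvd L.k_pos.1.ne'
  obtain ⟨hν7, hνS, hνc⟩ := C.kp hν hνk
  have hfv : (v : ℤ) ∣ ((v ^ f : ℕ) : ℤ) := by
    exact_mod_cast dvd_pow_self v (H4.is_f_ne C.cla C.hI)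
  -- nonadjacency
  have naz : ∀ {r s : ℕ}, r.Prime → (r ∣ k ∨ r ∣ k') → s.Prime → (s ∣ (q ^ 2 + 1) / 2 ∨ s = p) → ∀ {N : ℕ}, W N →
      r ∣ N → s ∣ N → False := fun hr hk hs hz N hW h1 h2 => L.naz hr hk hs hz hW h1 h2
  -- alpha, beta
  have hα : (ν : ℤ) ∣ U ^ 2 + U + 1 → k ∣ T1 ∧ T1 ∣ A ∧ ν ∣ T1 := by
    intro h1
    have h2 := C.ub1 hν (by omega) h1 (y := yk) (by rw [hyk]; exact hνk)
    rw [hyk] at h2
    exact ⟨h2, L.uk ν hν hνk T1 hWT1 (hνk.trans h2), hνk.trans h2⟩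
  have hβ : (ν : ℤ) ∣ U + 1 → k ∣ T2 ∧ T2 ∣ A ∧ ν ∣ T2 := by
    intro h1
    have h2 := C.ub2 hν (by omega) h1 (y := yk) (by rw [hyk]; exact hνk)
    rw [hyk] at h2
    exact ⟨h2, L.uk ν hν hνk T2 hWT2 (hνk.trans h2), hνk.trans h2⟩
  rcases C.h.dich with h1 | ⟨⟨w, hw, hwk, hwB⟩, hgd⟩
  · -- state I
    obtain ⟨yk', hyk'⟩ := C.h.k'S h1
    have hcard : ∀ x : ℕ, x.Prime → x ∣ k' → x ∣ Nat.card S := fun x hx hxk =>
      C.h.dvd_card hx (C.h.W_prime hx (Or.inr (Or.inl hxk))) (h1 x hx hxk).1 (h1 x hx hxk).2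
    have h7 : ∀ x : ℕ, x.Prime → x ∣ k' → 7 ≤ x := fun x hx hxk => (L.side.prime L.q2 hx (Or.inr hxk)).1
    rcases hνc with hνc | ⟨hv2, hνc⟩
    · -- alpha
      obtain ⟨hkT, hTA, hνT⟩ := hα hνc
      have hnot3 : ∀ x : ℕ, x.Prime → x ∣ k' → ¬ (x : ℤ) ∣ U ^ 2 + U + 1 := by
        intro x hx hxk h2
        exact L.na hν hνk hx hxk hWT1 hνT ((C.dT1 hx (by have := h7 x hx hxk; omega)).2 h2)
      have hult : q < 50 → v ^ f < 430 := C.u_lt (by have := n.hA; omega) hA0 hTA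
      -- `T2 ∣ B` is impossible with one of the additional facts
      have hfin : T2 ∣ B → (k' ∣ T2 ∨ v ∣ B) → False := by
        intro hTB hor
        rcases lt_or_ge q 50 with hq50 | hq50
        · exact ((small3 L.side hq7 hq50 (e := e) hu2 (hult hq50)).1 (hTe1 ▸ hkT) (hTe1 ▸ hTA)).1 (hTe2 ▸ hTB)
        · have hf := C.fam hq50 n.hk3 hkT hTA hTB hA0 n.hd n.hA n.hB
          rcases hor with h2 | h2
          · exact C.fam_kill hq50 hf n.hB hg' hgk' h2
          · exact C.fam_kill_v hf h2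
      by_cases hp2 : ∃ s : ℕ, s.Prime ∧ s ∣ k' ∧ (s : ℤ) ∣ U + 1
      · obtain ⟨s, hs, hsk, hsU⟩ := hp2
        have h5 := h7 s hs hsk
        have h2 := C.ub2 hs (by omega) hsU (y := yk') (by rw [hyk']; exact hsk)
        rw [hyk'] at h2
        exact hfin (L.uk' s hs hsk T2 hWT2 (hsk.trans h2)) (Or.inl h2)
      · push Not at hp2
        by_cases hp1 : ∃ s : ℕ, s.Prime ∧ s ∣ k' ∧ (s : ℤ) ∣ U - 1 ∧ s ≠ v
        · obtain ⟨s, hs, hsk, hsU, hsv⟩ := hp1
          have h5 := h7 s hs hsk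
          have h2 : s ∣ T2 := (C.dT2 hs (by omega)).2 (Or.inl hsU)
          obtain ⟨y, hy⟩ := C.F.adjv s hs (by omega) hsv (by rwa [← Int.natCast_dvd])
          have h3 : W (s * v) := hy ▸ C.h.WS y
          have h4 := L.uk' s hs hsk _ h3 (dvd_mul_right _ _)
          exact hfin (L.uk' s hs hsk T2 hWT2 h2) (Or.inr ((dvd_mul_left _ _).trans h4))
        · push Not at hp1
          have hall : ∀ s : ℕ, s.Prime → s ∣ k' → s = v := by
            intro s hs hsk
            have h5 := h7 s hs hsk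
            rcases C.clas hs (by omega) (hcard s hs hsk) with h2 | h2 | h2 | h2
            · exact h2
            · exact hp1 s hs hsk h2
            · exact absurd h2 (hp2 s hs hsk)
            · exact absurd h2 (hnot3 s hs hsk)
          obtain ⟨s, hs, hsk⟩ := Nat.exists_prime_and_dvd L.k_pos.2.ne'
          have hsv := hall s hs hsk
          have hv7 : 7 ≤ v := hsv ▸ h7 s hs hsk
          have hka : k' = v ^ k'.primeFactorsList.length :=
            Nat.eq_prime_pow_of_unique_prime_dvd (by have := L.k_pos.2; omega) fun {s} hs hsk => hall s hs hsk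
          have hkv : k' = v := by
            rcases (by omega : k'.primeFactorsList.length = 0 ∨ k'.primeFactorsList.length = 1 ∨
              2 ≤ k'.primeFactorsList.length) with h2 | h2 | h2
            · rw [h2, pow_zero] at hka
              have := L.k_pos.2
              omega
            · rwa [h2, pow_one] at hka
            · exfalso
              apply C.F.unip (by omega)
              have h3 : v ^ 2 ∣ k' := by rw [hka]; exact pow_dvd_pow v h2
              obtain ⟨b, hb⟩ := h3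
              have hb0 : b ≠ 0 := by rintro rfl; rw [mul_zero] at hb; have := L.k_pos.2; omega
              refine ⟨yk' ^ b, ?_⟩
              rw [orderOf_pow_of_dvd hb0 (by rw [hyk', hb]; exact dvd_mul_left _ _), hyk', hb]
              exact Nat.mul_div_cancel _ (Nat.pos_of_ne_zero hb0)
          have hku : k' ∣ v ^ f := by rw [hkv]; exact dvd_pow_self v (H4.is_f_ne C.cla C.hI)
          rcases lt_or_ge q 50 with hq50 | hq50
          · exact ((small3 L.side hq7 hq50 (e := e) hu2 (hult hq50)).1 (hTe1 ▸ hkT) (hTe1 ▸ hTA)).2 hku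
          · have hcz : (c : ℤ) = 1 ∨ (c : ℤ) = 3 := by rcases C.F.hc with h | h <;> rw [h] <;> norm_num
            exact avKill (q := q) (u := ((v ^ f : ℕ) : ℤ)) (T1 := T1) (A := A) (κ := k') (by exact_mod_cast hq50)
              (by have := n.hA; omega) (by exact_mod_cast Nat.le_of_dvd hA0 hTA) hcz C.F.e1 C.F.hU n.hk3'
              (by exact_mod_cast Nat.le_of_dvd (by omega) hku)
    · -- beta
      obtain ⟨hkT, hTA, hνT⟩ := hβ hνc
      obtain ⟨s, hs, hsk⟩ := Nat.exists_prime_and_dvd L.k_pos.2.ne'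
      have h5 := h7 s hs hsk
      have hs3 : (s : ℤ) ∣ U ^ 2 + U + 1 := by
        have hno : ¬ s ∣ T2 := fun h2 => L.na hν hνk hs hsk hWT2 hνT h2
        rcases C.clas hs (by omega) (hcard s hs hsk) with h2 | h2 | h2 | h2
        · omega
        · exact absurd ((C.dT2 hs (by omega)).2 (Or.inl h2)) hno
        · exact absurd ((C.dT2 hs (by omega)).2 (Or.inr h2)) hno
        · exact h2
      have h2 := C.ub1 hs (by omega) hs3 (y := yk') (by rw [hyk']; exact hsk)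
      rw [hyk'] at h2
      have hTB := L.uk' s hs hsk T1 hWT1 (hsk.trans h2)
      have hult : q < 50 → v ^ f < 430 := C.u_lt (by have := n.hB; omega) hB0 hTB
      rcases lt_or_ge q 50 with hq50 | hq50
      · exact (small3 L.side hq7 hq50 (e := e) hu2 (hult hq50)).2 (hTe1 ▸ h2) (hTe1 ▸ hTB) (hTe2 ▸ hTA)
      · have hf := C.fam hq50 (d := -d) n.hk3' h2 hTB hTA hB0 (by have := n.hd; omega) (by rw [n.hB]; ring) (by rw [n.hA]; ring)
        exact C.fam_kill hq50 hf (by rw [n.hA]; ring) hg (by rw [hgk]; ring) hkT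
  · -- state II
    have hcard : ∀ x : ℕ, x.Prime → (x ∣ (q ^ 2 + 1) / 2 ∨ x = p) → x ∣ Nat.card S := fun x hx hxz =>
      C.h.dvd_card hx (C.h.W_prime hx (Or.inr (Or.inr hxz))) (hgd x hx hxz).1 (hgd x hx hxz).2
    have hw7 := L.side.prime L.q2 hw (Or.inr hwk)
    obtain ⟨x, hx, hxz⟩ := Nat.exists_prime_and_dvd (show (q ^ 2 + 1) / 2 ≠ 1 by omega)
    have hxp := L.side.z_prime L.q2 hx hxz
    have hxS := hcard x hx (Or.inl hxz)
    have hxw : x ≠ w := (L.ne_kz hw (Or.inr hwk) (Or.inl hxz)).symm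
    have hWxw : ¬ W (x * w) := fun hW => naz hw (Or.inr hwk) hx (Or.inl hxz) hW (dvd_mul_left _ _) (dvd_mul_right _ _)
    have hx1 : (ν : ℤ) ∣ U ^ 2 + U + 1 → ¬ (x : ℤ) ∣ U ^ 2 + U + 1 := by
      intro h2 h3
      exact naz hν (Or.inl hνk) hx (Or.inl hxz) hWT1 (hα h2).2.2 ((C.dT1 hx hxp.1).2 h3)
    have hwi' : ¬ w ∣ m → w ∣ i := fun h => (hw.dvd_mul.1 hwB).resolve_left h
    by_cases hwm : w ∣ m
    · by_cases hwv : w = v
      · -- `w = v`
        have hv7 : 7 ≤ v := hwv ▸ hw7.1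
        have hνc' : (ν : ℤ) ∣ U ^ 2 + U + 1 := by
          rcases hνc with h | ⟨h, -⟩
          · exact h
          · omega
        have hxv : x ≠ v := hwv ▸ hxw
        have hxU : (x : ℤ) ∣ U + 1 := by
          rcases C.clas hx hxp.1 hxS with h2 | h2 | h2 | h2
          · exact absurd h2 hxv
          · exfalso
            obtain ⟨y, hy⟩ := C.F.adjv x hx hxp.1 hxv (by rwa [← Int.natCast_dvd])
            apply hWxw
            rw [hwv, ← hy]
            exact C.h.WS y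
          · exact h2
          · exact absurd h2 (hx1 hνc')
        obtain ⟨y, hy⟩ := C.h.pzS hgd
        have hxpz : x ∣ p * ((q ^ 2 + 1) / 2) := hxz.mul_left p
        have h2 := C.ub2 hx hxp.1 hxU (y := y) (by rw [hy]; exact hxpz)
        rw [hy] at h2
        have h3 := L.upz x hx hxz T2 hWT2 (hxpz.trans h2) ((dvd_mul_right _ _).trans h2)
        have h4 : 4 ∣ p * (q ^ 2 + 1) := (C.eight (by omega)).trans h3
        have h5 : p * (q ^ 2 + 1) = 2 * (p * ((q ^ 2 + 1) / 2)) := by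
          rw [mul_left_comm, hzz.1]
        rw [h5] at h4
        have h6 : (p * ((q ^ 2 + 1) / 2)) % 2 = 1 := by
          have hpo : p % 2 = 1 := Nat.odd_iff.1 (L.pp.odd_of_ne_two L.p2)
          rw [Nat.mul_mod, hpo, hzz.2]
        omega
      · -- `w ≠ v`
        have hncyc : ∀ b : ℕ, x ^ b ∣ Nat.card S → (¬ ∃ y : S, orderOf y = x ^ b) → False := by
          intro b h2 h3
          exact hWxw (C.h.ncyc w x hw hx hwm hxw (by omega) (noncyclic_of hx h2 h3))
        rcases hνc with hνc | ⟨hv2, hνc⟩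
        · rcases H4.SX.kcase C.h C.cla C.hv C.hI hw hwm hwv hx (by omega) hxw hxS hWxw with h2 | ⟨h2, h3⟩ | ⟨h2, -⟩ |
            ⟨h2, h3⟩
          · subst h2
            exact hncyc 2 C.F.cardv (C.F.unip (by omega))
          · exact hx1 hνc (C.an hx h2 h3)
          · rcases C.ht with ⟨h3, -⟩ | ⟨h3, -⟩ <;> rw [h3] at h2 <;> simp at h2
          · have hU : U = -((v ^ f : ℕ) : ℤ) := by
              rcases C.ht with ⟨h4, -⟩ | ⟨-, h4⟩
              · rw [h4] at h2; simp at h2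
              · exact h4
            -- the `x`-part of `u + 1`
            have hxv : x ≠ v := by
              rintro rfl
              have h4 : x ∣ x ^ f := by exact_mod_cast hfv
              have h5 := (Nat.dvd_add_right h4).1 h3
              exact hx.one_lt.ne' (Nat.dvd_one.1 h5)
            set a := (v ^ f + 1).factorization x with ha
            have ha1 : 1 ≤ a := (hx.dvd_iff_one_le_factorization (by omega)).1 h3
            have hxa : x ^ a ∣ v ^ f + 1 := Nat.ordProj_dvd _ _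
            have hxa' : ∀ b : ℕ, x ^ b ∣ v ^ f + 1 → b ≤ a := fun b hb =>
              (hx.pow_dvd_iff_le_factorization (by omega)).1 hb
            refine hncyc (2 * a) (C.F.cardu hU x a hx hxp.1 hxa) ?_
            rintro ⟨y, hy⟩
            have hxU : (x : ℤ) ∣ U - 1 := by
              rw [hU]
              have h4 : (x : ℤ) ∣ ((v ^ f + 1 : ℕ) : ℤ) := by exact_mod_cast h3
              rw [show -((v ^ f : ℕ) : ℤ) - 1 = -((v ^ f + 1 : ℕ) : ℤ) by push_cast; ring]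
              exact (dvd_neg).2 h4
            have hxnU : ¬ (x : ℤ) ∣ U + 1 := fun h4 => ((C.disj hx hxp.1).2 h4).2 hxU
            have hN : (U - 1).natAbs = v ^ f + 1 := by
              rw [hU, show -((v ^ f : ℕ) : ℤ) - 1 = -((v ^ f + 1 : ℕ) : ℤ) by push_cast; ring, Int.natAbs_neg,
                Int.natAbs_natCast]
            have hxp' : Prime (x : ℤ) := Nat.prime_iff_prime_int.1 hx
            rcases C.F.cas y with h4 | h4 | h4
            · rw [hy] at h4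
              have h5 : x ∣ T1 := (dvd_pow_self x (by omega)).trans h4
              exact ((C.disj hx hxp.1).1 ((C.dT1 hx hxp.1).1 h5)).2.1 hxU
            · rw [hy] at h4
              have h5 : ((x ^ (2 * a) : ℕ) : ℤ) ∣ (U - 1) * (U + 1) := by
                rw [show (U - 1) * (U + 1) = U ^ 2 - 1 by ring, ← C.F.e2]
                exact (Int.natCast_dvd_natCast.2 h4).mul_left _
              have h6 : IsCoprime ((x ^ (2 * a) : ℕ) : ℤ) (U + 1) := by
                push_cast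
                exact IsCoprime.pow_left ((Prime.coprime_iff_not_dvd hxp').2 hxnU)
              have h7 : ((x ^ (2 * a) : ℕ) : ℤ) ∣ U - 1 := h6.dvd_of_dvd_mul_right h5
              rw [Int.natCast_dvd, hN] at h7
              have := hxa' _ h7
              omega
            · rw [hy, hN] at h4
              have h6 : Nat.Coprime (x ^ (2 * a)) (v ^ 2) :=
                Nat.Coprime.pow _ _ ((Nat.coprime_primes hx C.hv).2 hxv)
              have := hxa' _ (h6.dvd_of_dvd_mul_left h4)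
              omega
        · -- beta
          have hνw : ¬ W (ν * w) := fun hW => L.na hν hνk hw hwk hW (dvd_mul_right _ _) (dvd_mul_left _ _)
          have hνU := (C.disj hν (by omega)).2 hνc
          rcases H4.SX.kcase C.h C.cla C.hv C.hI hw hwm hwv hν (by omega) (L.ne_kk hν hνk hwk) hνS hνw with h2 |
            ⟨h2, h3⟩ | ⟨h2, -⟩ | ⟨h2, h3⟩
          · exact hνU.1 h2
          · exact ((C.disj hν (by omega)).1 (C.an hν h2 h3)).2.2 hνc
          · rcases C.ht with ⟨h3, -⟩ | ⟨h3, -⟩ <;> rw [h3] at h2 <;> simp at h2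
          · apply hνU.2
            have hU : U = -((v ^ f : ℕ) : ℤ) := by
              rcases C.ht with ⟨h4, -⟩ | ⟨-, h4⟩
              · rw [h4] at h2; simp at h2
              · exact h4
            rw [hU]
            have h4 : (ν : ℤ) ∣ ((v ^ f + 1 : ℕ) : ℤ) := by exact_mod_cast h3
            rw [show -((v ^ f : ℕ) : ℤ) - 1 = -((v ^ f + 1 : ℕ) : ℤ) by push_cast; ring]
            exact (dvd_neg).2 h4
    · -- `w ∣ i`
      have hdg : ¬ w ∣ dg t (v ^ f) := by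
        intro h2
        have h3 : w ∣ 3 := by
          rcases C.ht with ⟨h4, -⟩ | ⟨h4, -⟩ <;> rw [h4] at h2 <;> exact h2.trans (Nat.gcd_dvd_left _ _)
        have := Nat.le_of_dvd (by norm_num) h3
        omega
      refine LW.n1 L hw hwk fun s hs hsz => ?_
      have h3 := L.side.z_prime L.q2 hs hsz
      have hsw : s ≠ w := (L.ne_kz hw (Or.inr hwk) (Or.inl hsz)).symm
      exact (H4.SX.fcase C.h C.cla C.hv C.hI hw (by omega) (hwi' hwm) hdg hs h3.1 hsw (hcard s hs (Or.inl hsz))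
        fun hW => naz hw (Or.inr hwk) hs (Or.inl hsz) hW (dvd_mul_right _ _) (dvd_mul_left _ _)).2

/-- **`S` is not `L₃(u)`.** -/
theorem row_l3 (h : SX p q k A k' B m i W S) (hg : Good W m i) (hv : v.Prime) (hvp : v ≠ p)
    (hI : Fam.Is v f S (.psl 3)) : False :=
  C3.done ⟨h, hg, hv, hvp, Or.inl ⟨rfl, rfl⟩, hI, t3f_psl hv hI, ⟨true, rfl, rfl⟩⟩

/-- **`S` is not `U₃(u)`.** -/
theorem row_u3 (h : SX p q k A k' B m i W S) (hg : Good W m i) (hv : v.Prime) (hvp : v ≠ p)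
    (hI : Fam.Is v f S (.psu 3)) : False :=
  C3.done ⟨h, hg, hv, hvp, Or.inr ⟨rfl, rfl⟩, hI, t3f_psu hv hI, ⟨false, rfl, rfl⟩⟩

end Cfsg.Agent.R2.Spec.X4.H10
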