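import Cfsg.Agent.R2.Spec.X4.H10.RowSO

/-!
# X4: `S` symplectic or orthogonal is impossible, end (helper10)

* `row_spo`, `row_psp`, `row_oodd`, `row_oplus`, `row_ominus`.
-/

set_option autoImplicit false
set_option linter.unusedSectionVars false
set_option linter.unusedVariables false

namespace Cfsg.Agent.R2.Spec.X4.H10

open Subgroup Cfsg
open Cfsg.Agent.H426.LieFam Cfsg.Agent.R2.Spec Cfsg.Agent.R2.Spec.P1 Cfsg.Agent.R2.Spec.F1
open Cfsg.Agent.H72 Cfsg.Agent.H377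

universe u

variable {p q k A k' B m i : ℕ} {W : ℕ → Prop} {S : Type u} [Group S] {t : Fam} {v f : ℕ}

/-- primes of the same class are adjacent -/
theorem Cx.ne_class (C : Cx p q k A k' B m i W S t v f) {x y : ℕ} (hx : x.Prime) (hy : y.Prime) (hx2 : x ≠ 2)
    (hy2 : y ≠ 2) (hxy : x ≠ y) (hxv : x ≠ v) (hyv : y ≠ v) (hxS : x ∣ Nat.card S) (hyS : y ∣ Nat.card S)
    (hna : ¬ W (x * y)) : cls t (v ^ f) x ≠ cls t (v ^ f) y := fun hc =>
  H4.SX.notS C.h hna (adj_same' C.ht.cla C.hv C.hI hx hy hx2 hy2 hxy hxv hyv hxS hyS hc)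

theorem Cx.not_W (C : Cx p q k A k' B m i W S t v f) {r s : ℕ} (hr : r.Prime) (hk : r ∣ k ∨ r ∣ k') (hs : s.Prime)
    (hz : s ∣ (q ^ 2 + 1) / 2 ∨ s = p) : ¬ W (r * s) ∧ ¬ W (s * r) ∧ r ≠ s :=
  ⟨fun hW => C.h.lw.naz hr hk hs hz hW (dvd_mul_right _ _) (dvd_mul_left _ _),
    fun hW => C.h.lw.naz hr hk hs hz hW (dvd_mul_left _ _) (dvd_mul_right _ _), C.h.lw.ne_kz hr hk hz⟩

theorem Cx.not_Wk (C : Cx p q k A k' B m i W S t v f) {r s : ℕ} (hr : r.Prime) (hk : r ∣ k) (hs : s.Prime)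
    (hk' : s ∣ k') : ¬ W (r * s) ∧ ¬ W (s * r) ∧ r ≠ s :=
  ⟨fun hW => C.h.lw.na hr hk hs hk' hW (dvd_mul_right _ _) (dvd_mul_left _ _),
    fun hW => C.h.lw.na hr hk hs hk' hW (dvd_mul_left _ _) (dvd_mul_right _ _), C.h.lw.ne_kk hr hk hk'⟩

/-- the anisotropic class -/
theorem Cx.ank (C : Cx p q k A k' B m i W S t v f) {r x ν : ℕ} (hr : r.Prime) (hrm : r ∣ m) (hrv : r ≠ v)
    (hx : x.Prime) (hx2 : x ≠ 2) (hxr : x ≠ r) (hxv : x ≠ v) (hxS : x ∣ Nat.card S) (hna : ¬ W (x * r))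
    (hν : ν.Prime) (hνk : ν ∣ k) (hνr : ¬ W (ν * r)) (hne : ν ≠ r) (hνx : ¬ W (x * ν)) (hxν : x ≠ ν) : False := by
  have := C.h.fin
  obtain ⟨⟨h1, h2⟩, h3, h4, h5⟩ := C.k_big hν hνk
  have hsp : t ≠ .psl 2 ∧ t ≠ .psu 3 := ⟨C.ht.ne.1 2, C.ht.ne.2 3⟩
  have key : ∀ {y : ℕ}, y.Prime → y ≠ 2 → y ≠ r → y ≠ v → y ∣ Nat.card S → ¬ W (y * r) → An t (cls t (v ^ f) y) := by
    intro y hy hy2 hyr hyv hyS hyna
    rcases H4.SX.kcase C.h C.ht.cla C.hv C.hI hr hrm hrv hy hy2 hyr hyS hyna with h | ⟨-, h⟩ | ⟨h, -⟩ | ⟨h, -⟩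
    · exact absurd h hyv
    · exact h
    · exact absurd h hsp.1
    · exact absurd h hsp.2
  exact C.ne_class hx hν hx2 (by omega) hxν hxv h1 hxS h4 hνx
    (an_unique C.ht.cla (key hx hx2 hxr hxv hxS hna) (key hν (by omega) hne h1 h4 hνr))

theorem Cx.zS (C : Cx p q k A k' B m i W S t v f) (hz : ∃ x : S, orderOf x = (q ^ 2 + 1) / 2)
    (hb : ∀ r : ℕ, r.Prime → r ∣ (q ^ 2 + 1) / 2 → BG t v f r) : False := by
  have := C.h.fin
  obtain ⟨i0, hi, hs0, hk, hTA⟩ := C.iso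
  have h4 := C.h.lw.side.z
  have hq7 := C.h.lw.q7
  have hq2 : 7 * 7 ≤ q ^ 2 := by rw [sq]; exact Nat.mul_le_mul hq7 hq7
  obtain ⟨j, hj, hs, hd⟩ := dvd_tnum C.ht C.hv C.hI (by omega) h4.2 hz hb
  refine C.zkill hi hk hTA hj ?_ hd
  intro hji
  obtain ⟨r, hr, hrz⟩ := Nat.exists_prime_and_dvd (show (q ^ 2 + 1) / 2 ≠ 1 by omega)
  obtain ⟨ν, hν, hνk⟩ := Nat.exists_prime_and_dvd C.h.lw.k_pos.1.ne'
  have h5 := C.not_W hν (Or.inl hνk) hr (Or.inl hrz)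
  obtain ⟨⟨h1, h2⟩, h3, h4', h6⟩ := C.k_big hν hνk
  have h7 := C.h.lw.side.z_prime C.h.lw.q2 hr hrz
  have hrS : r ∣ Nat.card S := by
    obtain ⟨x, hx⟩ := hz
    exact (hx ▸ hrz).trans (orderOf_dvd_natCard x)
  exact C.ne_class hr hν (by omega) (by omega) h5.2.2.symm (hb r hr hrz).1 h1 hrS h4' h5.2.1
    (by rw [hs r hr hrz, hs0 ν hν hνk, hji])

theorem Cx.bS (C : Cx p q k A k' B m i W S t v f) (h1 : ∀ r : ℕ, r.Prime → r ∣ k' → ¬ r ∣ m ∧ ¬ r ∣ i)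
    (hb : ∀ r : ℕ, r.Prime → r ∣ k' → BG t v f r) : False := by
  have := C.h.fin
  obtain ⟨i0, hi, hs0, hk, hTA⟩ := C.iso
  obtain ⟨d, n⟩ := LW.ns C.h.lw
  have hk'S := C.h.k'S h1
  obtain ⟨j, hj, hs, hd⟩ := dvd_tnum C.ht C.hv C.hI C.h.lw.k_pos.2 (by have := n.k2'; omega) hk'S hb
  obtain ⟨r, hr, hrk⟩ := Nat.exists_prime_and_dvd C.h.lw.k_pos.2.ne'
  refine C.bkill hi hk hTA hj ?_ hd ?_
  · intro hji
    obtain ⟨ν, hν, hνk⟩ := Nat.exists_prime_and_dvd C.h.lw.k_pos.1.ne'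
    have h5 := C.not_Wk hν hνk hr hrk
    obtain ⟨⟨h1', h2⟩, h3, h4', h6⟩ := C.k_big hν hνk
    have h7 := C.h.lw.side.prime C.h.lw.q2 hr (Or.inr hrk)
    have hrS : r ∣ Nat.card S := C.h.dvd_card hr (C.h.W_prime hr (Or.inr (Or.inl hrk))) (h1 r hr hrk).1 (h1 r hr hrk).2
    exact C.ne_class hr hν (by omega) (by omega) h5.2.2.symm (hb r hr hrk).1 h1' hrS h4' h5.2.1
      (by rw [hs r hr hrk, hs0 ν hν hνk, hji])
  · intro htop
    have hT := top_facts_all C.ht.cla C.hv C.hI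
    obtain ⟨x, hx⟩ := hk'S
    have h2 := hb r hr hrk
    have h3 := hT.ub r hr (C.dvd_v hr h2.1) (by rw [hs r hr hrk]; exact htop) x (by rw [hx]; exact hrk)
    rw [hx, hs r hr hrk] at h3
    obtain ⟨y, hy⟩ := hT.elt j htop
    have h4 := C.h.uk' hr hrk y (by rw [hy]; exact hrk.trans h3)
    rwa [hy] at h4

/-- state I with `k'` a power of the characteristic -/
theorem Cx.chr (C : Cx p q k A k' B m i W S t v f) (hk'v : ∀ r : ℕ, r.Prime → r ∣ k' → r = v)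
    (hAn : ∀ r : ℕ, r.Prime → r ∣ k → An t (cls t (v ^ f) r)) : False := by
  obtain ⟨i0, hi, hs0, hk, hTA⟩ := C.iso
  obtain ⟨N, g, e1, H, hq, hN, he1, hg, hgu, hH, hE, hkz, hp1, hAn', hlow⟩ := C.data hi hk hTA
  obtain ⟨d, n⟩ := LW.ns C.h.lw
  obtain ⟨ν, hν, hνk⟩ := Nat.exists_prime_and_dvd C.h.lw.k_pos.1.ne'
  have h1 : e1 = 1 := hAn' (by rw [← hs0 ν hν hνk]; exact hAn ν hν hνk)
  subst h1
  obtain ⟨r, hr, hrk⟩ := Nat.exists_prime_and_dvd C.h.lw.k_pos.2.ne'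
  have h2 := hk'v r hr hrk
  subst h2
  have h3 := C.h.lw.side.prime C.h.lw.q2 hr (Or.inr hrk)
  obtain ⟨a, ha⟩ : ∃ a, k' = r ^ a := by
    refine ⟨_, Nat.eq_prime_pow_of_unique_prime_dvd (by have := C.h.lw.k_pos.2; omega) fun {s} hs hsk => hk'v s hs hsk⟩
  have hpow : (((r ^ f : ℕ) : ℤ)) ^ N = (r : ℤ) ^ (f * N) := by push_cast; rw [← pow_mul]
  rw [hpow] at hE hkz
  have hr2 : r % 2 = 1 := by
    rcases hr.eq_two_or_odd with h | h
    · omega
    · exact h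
  exact charB n.hd hq n.hA n.hB n.hk3 n.hk3' n.hful n.hk' n.hkB n.B2 (by omega) (by omega)
    (by rw [ha]; push_cast; rfl) hg hH hE hkz

theorem Cx.done (C : Cx p q k A k' B m i W S t v f) : False := by
  have := C.h.fin
  have hsp : ∀ n, t ≠ .psl n ∧ t ≠ .psu n := fun n => ⟨C.ht.ne.1 n, C.ht.ne.2 n⟩
  have hdg : ∀ r : ℕ, r.Prime → ¬ r ∣ dg t (v ^ f) := by
    intro r hr hd
    rw [C.ht.dg_eq, Nat.dvd_one] at hd
    exact hr.one_lt.ne' hd
  obtain ⟨ν, hν, hνk⟩ := Nat.exists_prime_and_dvd C.h.lw.k_pos.1.ne'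
  obtain ⟨⟨hνv, hνB⟩, -, hνS, hν7⟩ := C.k_big hν hνk
  have hmi : ∀ {r : ℕ}, r.Prime → r ∣ m * i → ¬ r ∣ m → r ∣ i := fun hr hd hm => (hr.dvd_mul.1 hd).resolve_left hm
  -- the characteristic divides `m`
  have hvc : v ∣ m → ∀ x : ℕ, x.Prime → x ≠ 2 → x ≠ v → x ∣ Nat.card S → ¬ W (v * x) → BG t v f x := by
    intro hvm x hx hx2 hxv hxS hna
    rcases H4.vcase C.ht.cla C.hv C.hI hx hx2 hxv hxS (H4.SX.notS C.h hna) with ⟨h3, h4⟩ | ⟨-, -, n, h5 | h5⟩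
    · exact ⟨hxv, big_of_nap C.ht C.hI h3 (mem_of_dvd C.ht C.hv C.hI hx hx2 hxv h3 hxS) h4⟩
    · exact absurd h5 (hsp n).1
    · exact absurd h5 (hsp n).2
  rcases C.h.dich with h1 | ⟨⟨w, hw, hwk, hwB⟩, hgd⟩
  · -- state I
    by_cases hall : ∀ r : ℕ, r.Prime → r ∣ k' → BG t v f r
    · exact C.bS h1 hall
    · push Not at hall
      obtain ⟨w, hw, hwk, hwn⟩ := hall
      have hcard : ∀ x : ℕ, x.Prime → x ∣ k' → x ∣ Nat.card S := fun x hx hxk =>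
        C.h.dvd_card hx (C.h.W_prime hx (Or.inr (Or.inl hxk))) (h1 x hx hxk).1 (h1 x hx hxk).2
      have hw7 := C.h.lw.side.prime C.h.lw.q2 hw (Or.inr hwk)
      by_cases hzg : ∀ r : ℕ, r.Prime → r ∣ (q ^ 2 + 1) / 2 → ¬ r ∣ m ∧ ¬ r ∣ i
      · refine C.zS (C.h.mem _ C.h.lw.Wz (Nat.Coprime.mul_right ?_ ?_)) ?_
        · exact Nat.coprime_of_dvd fun r hr hk hm => (hzg r hr hk).1 hm
        · exact Nat.coprime_of_dvd fun r hr hk hm => (hzg r hr hk).2 hm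
        · intro r hr hrz
          have h2 := C.not_W hw (Or.inr hwk) hr (Or.inl hrz)
          have h3 := C.h.lw.side.z_prime C.h.lw.q2 hr hrz
          have h4 := C.h.dvd_card hr (C.h.W_prime hr (Or.inr (Or.inr (Or.inl hrz)))) (hzg r hr hrz).1 (hzg r hr hrz).2
          rcases big_or C.ht C.hv C.hI hr hw (by omega) (by omega) h2.2.2.symm h4 (hcard w hw hwk)
            (H4.SX.notS C.h h2.2.1) with h5 | h5
          · exact h5
          · exact absurd h5 hwn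
      · push Not at hzg
        obtain ⟨r, hr, hrz, hrb⟩ := hzg
        have h3 := C.h.lw.side.z_prime C.h.lw.q2 hr hrz
        by_cases hrm : r ∣ m
        · by_cases hrv : r = v
          · have h2 := C.not_W hw (Or.inr hwk) hr (Or.inl hrz)
            subst hrv
            exact hwn (hvc hrm w hw (by omega) h2.2.2 (hcard w hw hwk) h2.2.1)
          · have h5 := C.not_W hν (Or.inl hνk) hr (Or.inl hrz)
            refine C.chr ?_ ?_
            · intro x hx hxk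
              by_contra hxv
              have h2 := C.not_W hx (Or.inr hxk) hr (Or.inl hrz)
              have h4 := C.not_Wk hν hνk hx hxk
              have h6 := C.h.lw.side.prime C.h.lw.q2 hx (Or.inr hxk)
              exact C.ank hr hrm hrv hx (by omega) h2.2.2 hxv (hcard x hx hxk) h2.1 hν hνk h5.1 h5.2.2 h4.2.1
                h4.2.2.symm
            · intro x hx hxk
              obtain ⟨⟨hxv, hxB⟩, -, hxS, hx7⟩ := C.k_big hx hxk
              have h6 := C.not_W hx (Or.inl hxk) hr (Or.inl hrz)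
              rcases H4.SX.kcase C.h C.ht.cla C.hv C.hI hr hrm hrv hx (by omega) h6.2.2 hxS h6.1 with
                h | ⟨-, h⟩ | ⟨h, -⟩ | ⟨h, -⟩
              · exact absurd h hxv
              · exact h
              · exact absurd h (hsp 2).1
              · exact absurd h (hsp 3).2
        · have hri := hrb hrm
          refine LW.n2 C.h.lw hr hrz fun x hx hxk => ?_
          have h2 := C.not_W hx hxk hr (Or.inl hrz)
          have h6 := C.h.lw.side.prime C.h.lw.q2 hx hxk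
          have hxS : x ∣ Nat.card S := by
            rcases hxk with hxk | hxk
            · exact (C.k_big hx hxk).2.2.1
            · exact hcard x hx hxk
          exact (H4.SX.fcase C.h C.ht.cla C.hv C.hI hr h3.1 hri (hdg r hr) hx (by omega) h2.2.2 hxS h2.2.1).2
  · -- state II
    have hz := exists_dvd (C.h.pzS hgd) (dvd_mul_left _ _)
    have hcard : ∀ x : ℕ, x.Prime → (x ∣ (q ^ 2 + 1) / 2 ∨ x = p) → x ∣ Nat.card S := fun x hx hxz =>
      C.h.dvd_card hx (C.h.W_prime hx (Or.inr (Or.inr hxz))) (hgd x hx hxz).1 (hgd x hx hxz).2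
    have hw7 := C.h.lw.side.prime C.h.lw.q2 hw (Or.inr hwk)
    by_cases hwm : w ∣ m
    · by_cases hwv : w = v
      · subst hwv
        refine C.zS hz fun x hx hxz => ?_
        have h2 := C.not_W hw (Or.inr hwk) hx (Or.inl hxz)
        have h3 := C.h.lw.side.z_prime C.h.lw.q2 hx hxz
        exact hvc hwm x hx (by omega) h2.2.2.symm (hcard x hx (Or.inl hxz)) h2.1
      · have h2 := C.not_W hw (Or.inr hwk) C.h.lw.pp (Or.inr rfl)
        have h4 := C.not_Wk hν hνk hw hwk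
        have h5 := C.not_W hν (Or.inl hνk) C.h.lw.pp (Or.inr rfl)
        exact C.ank hw hwm hwv C.h.lw.pp C.h.lw.p2 h2.2.2.symm (Ne.symm C.hvp) (hcard p C.h.lw.pp (Or.inr rfl)) h2.2.1
          hν hνk h4.1 h4.2.2 h5.2.1 h5.2.2.symm
    · have hwi := hmi hw hwB hwm
      refine LW.n1 C.h.lw hw hwk fun x hx hxz => ?_
      have h2 := C.not_W hw (Or.inr hwk) hx (Or.inl hxz)
      have h3 := C.h.lw.side.z_prime C.h.lw.q2 hx hxz
      exact (H4.SX.fcase C.h C.ht.cla C.hv C.hI hw (by omega) hwi (hdg w hw) hx h3.1 h2.2.2.symm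
        (hcard x hx (Or.inl hxz)) h2.1).2

theorem row_psp {n : ℕ} (h : SX p q k A k' B m i W S) (hg : Good W m i) (hv : v.Prime) (hvp : v ≠ p)
    (hI : Fam.Is v f S (.psp n)) : False :=
  Cx.done (t := .psp n) ⟨h, hg, hv, hvp, trivial, hI⟩

theorem row_oodd {n : ℕ} (h : SX p q k A k' B m i W S) (hg : Good W m i) (hv : v.Prime) (hvp : v ≠ p)
    (hI : Fam.Is v f S (.oodd n)) : False :=
  Cx.done (t := .oodd n) ⟨h, hg, hv, hvp, trivial, hI⟩

theorem row_oplus {n : ℕ} (h : SX p q k A k' B m i W S) (hg : Good W m i) (hv : v.Prime) (hvp : v ≠ p)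
    (hI : Fam.Is v f S (.oplus n)) : False :=
  Cx.done (t := .oplus n) ⟨h, hg, hv, hvp, trivial, hI⟩

theorem row_ominus {n : ℕ} (h : SX p q k A k' B m i W S) (hg : Good W m i) (hv : v.Prime) (hvp : v ≠ p)
    (hI : Fam.Is v f S (.ominus n)) : False :=
  Cx.done (t := .ominus n) ⟨h, hg, hv, hvp, trivial, hI⟩

end Cfsg.Agent.R2.Spec.X4.H10
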