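import Cfsg.Agent.R2.Spec.X4.H10.L2Row

/-!
# X4: `S = L₂(u)` is impossible, end (helper10)
-/

set_option autoImplicit false
set_option linter.unusedSectionVars false
set_option linter.unusedVariables false

namespace Cfsg.Agent.R2.Spec.X4.H10

open Subgroup Cfsg
open Cfsg.Agent.H426.LieFam Cfsg.Agent.R2.Spec Cfsg.Agent.R2.Spec.P1 Cfsg.Agent.R2.Spec.F1

universe u

variable {p q k A k' B m i : ℕ} {W : ℕ → Prop} {S : Type u} [Group S] {v f : ℕ}

/-- `k`, `k'` in `ω(S)` -/
theorem kstate (L : LW p q k A k' B W) {g : ℕ} (F : L2F S v (v ^ f) g) (hv : v.Prime) (hvp : v ≠ p) (hf : f ≠ 0)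
    (h4 : 4 ≤ v ^ f) (WS : ∀ x : S, W (orderOf x)) (hk : ∃ x : S, orderOf x = k) (hk' : ∃ x : S, orderOf x = k') :
    False := by
  obtain ⟨d, n⟩ := LW.ns L
  obtain ⟨c, c', δ, hc, hc', hcc, hδ, hck, hck', h11, h7⟩ := LW.cofz L
  have hq7 := L.q7
  have hq7z : (7 : ℤ) ≤ q := by exact_mod_cast hq7
  have hkp := L.k_pos
  have hg0 : g ≠ 0 := by rcases F.hg with ⟨h, -⟩ | ⟨h, -⟩ <;> omega
  obtain ⟨r, hr, hrk⟩ := Nat.exists_prime_and_dvd hkp.1.ne'
  obtain ⟨s, hs, hsk⟩ := Nat.exists_prime_and_dvd hkp.2.ne'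
  have hr7 := L.side.prime L.q2 hr (Or.inl hrk)
  have hs7 := L.side.prime L.q2 hs (Or.inr hsk)
  have hA0 : 0 < A := L.pos _ L.WA
  have hB0 : 0 < B := L.pos _ L.WB
  have hd1 : d ≤ 1 ∧ -1 ≤ d := by rcases n.hd with h | h <;> omega
  obtain ⟨x, hx⟩ := hk
  obtain ⟨y, hy⟩ := hk'
  have hq9 : q < 11 → q = 7 ∨ q = 9 := fun h => by have := L.q_odd; omega
  rcases F.cas x with ⟨e, T, he, hT, hxT⟩ | hxv
  · rw [hx] at hxT
    have hWT : W T := by
      obtain ⟨w, hw⟩ := hT.ex
      exact hw ▸ WS w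
    obtain ⟨h, hh⟩ := L.uk r hr hrk T hWT (hrk.trans hxT)
    rcases F.cas y with ⟨e', T', he', hT', hyT⟩ | hyv
    · rw [hy] at hyT
      have hWT' : W T' := by
        obtain ⟨w, hw⟩ := hT'.ex
        exact hw ▸ WS w
      obtain ⟨h', hh'⟩ := L.uk' s hs hsk T' hWT' (hsk.trans hyT)
      have hee : e' = -e := by
        by_contra hne
        have h3 : e' = e := by
          rcases he with rfl | rfl <;> rcases he' with rfl | rfl
          · rfl
          · exact absurd rfl hne
          · exact absurd (by norm_num) hne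
          · rfl
        subst h3
        have h4 := hT.uniq hT' hg0
        subst h4
        exact L.na hr hrk hs hsk hWT (hrk.trans hxT) (hsk.trans hyT)
      have hh0 : 0 < h := by
        rcases Nat.eq_zero_or_pos h with h0 | h0
        · rw [h0, mul_zero] at hh; omega
        · exact h0
      have hh0' : 0 < h' := by
        rcases Nat.eq_zero_or_pos h' with h0 | h0
        · rw [h0, mul_zero] at hh'; omega
        · exact h0
      have hT0 : 0 < T := L.pos _ hWT
      have hT0' : 0 < T' := L.pos _ hWT'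
      have e1 := hT.eq
      have e2 := hT'.eq
      rw [hee] at e2
      have hAz : (h : ℤ) * T = A := by rw [hh]; push_cast; ring
      have hBz : (h' : ℤ) * T' = B := by rw [hh']; push_cast; ring
      have hkT : (k : ℤ) ≤ T := by exact_mod_cast Nat.le_of_dvd hT0 hxT
      have hkT' : (k' : ℤ) ≤ T' := by exact_mod_cast Nat.le_of_dvd hT0' hyT
      rcases F.hg with ⟨hg1, hg2⟩ | ⟨hg1, hg2⟩
      · subst hg1
        rw [Nat.cast_one, one_mul] at e1 e2
        have hq17 : 17 ≤ (q : ℤ) := by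
          by_contra hcon
          have hv2 : v = 2 := by
            have h5 : 2 ∣ v ^ f := Nat.dvd_of_mod_eq_zero hg2
            exact ((Nat.prime_dvd_prime_iff_eq Nat.prime_two hv).1 (Nat.prime_two.dvd_of_dvd_pow h5)).symm
          have hf2 : 2 ≤ f := by
            by_contra hcon
            have : f = 1 := by omega
            rw [this, hv2] at h4
            omega
          refine small L (by omega) hv hvp (f := f) (N := 1) (by omega) he (by norm_num : (1 : ℤ) ∣ 4) (H := h) (by omega)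
            ?_ ?_
          · rw [pow_one, ← e1]
            exact_mod_cast hxT
          · rw [pow_one, ← e1, one_mul, hAz]
        have h5 := dKill (D := 2 * e) hq7z n.hd n.hA n.hB n.hk3 n.hk3' hkT hkT' (by omega) (by omega) hAz hBz
          (by linear_combination e1 - e2) (Or.inr ⟨by rcases he with rfl | rfl <;> norm_num, hq17⟩)
        have h6 := h5.1
        rcases he with rfl | rfl <;> norm_num at h6
      · subst hg1
        push_cast at e1 e2
        have h5 := dKill (D := e) hq7z n.hd n.hA n.hB n.hk3 n.hk3' hkT hkT' (by omega) (by omega) hAz hBz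
          (by omega) (Or.inl (by rcases he with rfl | rfl <;> norm_num))
        apply LW.ne_cube L hv hvp hf le_rfl
        rw [pow_one]
        have h6 := n.hA
        have h7 := n.hB
        have h8 := h5.2.1
        have h9 := h5.2.2
        push_cast
        omega
    · -- `k' = v`
      rw [hy] at hyv
      have hκv : k' = v := ((Nat.dvd_prime hv).1 hyv).resolve_left (by omega)
      have hsk' : s = v := (Nat.prime_dvd_prime_iff_eq hs hv).1 (hκv ▸ hsk)
      have hodd : v ^ f % 2 = 1 := by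
        rcases hv.eq_two_or_odd with h | h
        · omega
        · exact Nat.odd_iff.1 ((Nat.odd_iff.2 h).pow)
      have hg2 : g = 2 := by
        rcases F.hg with ⟨hg1, hg2⟩ | ⟨hg1, hg2⟩
        · omega
        · exact hg1
      subst hg2
      have e1 := hT.eq
      refine eKill (q := q) (κ := k') (κ' := k) (X := A) (e := e) (g := c') (g' := c) (δ := -δ) (T := T) (f := f) hq7z
        (by have := n.hA; omega) (by exact_mod_cast hA0) ⟨hc', hc⟩ (hcc.symm) (by rcases hδ with h | h <;> omega)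
        (by rw [hck']; ring) (by rw [hck]; ring) he (by omega) ?_ (by exact_mod_cast hxT)
        (by exact_mod_cast Dvd.intro _ hh.symm) ?_ ?_
      · rw [hκv]
        push_cast at e1
        exact e1
      · intro hq
        rcases h11 (by omega) with ⟨a, b, -, c0⟩ | ⟨a, b, c0⟩
        · omega
        · omega
      · intro hq
        rcases h11 (by omega) with ⟨a, b, -, c0⟩ | ⟨a, b, c0⟩
        · rcases hc with h1 | h1
          · exact Or.inl h1
          · right
            rw [h1] at hck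
            have e3 : (q : ℤ) ^ 2 = 49 := by rw [hq]; norm_num
            rcases b with b | b
            · omega
            · exfalso
              rw [b, e3] at hck
              rcases hδ with h | h <;> rw [h, hq] at hck <;> norm_num at hck
        · omega
  · -- `k = v`
    rw [hx] at hxv
    have hκv : k = v := ((Nat.dvd_prime hv).1 hxv).resolve_left (by omega)
    have hodd : v ^ f % 2 = 1 := by
      have hsk' : r = v := (Nat.prime_dvd_prime_iff_eq hr hv).1 (hκv ▸ hrk)
      rcases hv.eq_two_or_odd with h | h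
      · omega
      · exact Nat.odd_iff.1 ((Nat.odd_iff.2 h).pow)
    rcases F.cas y with ⟨e', T', he', hT', hyT⟩ | hyv
    · rw [hy] at hyT
      have hWT' : W T' := by
        obtain ⟨w, hw⟩ := hT'.ex
        exact hw ▸ WS w
      obtain ⟨h', hh'⟩ := L.uk' s hs hsk T' hWT' (hsk.trans hyT)
      have hg2 : g = 2 := by
        rcases F.hg with ⟨hg1, hg2⟩ | ⟨hg1, hg2⟩
        · omega
        · exact hg1
      subst hg2
      have e1 := hT'.eq
      refine eKill (q := q) (κ := k) (κ' := k') (X := B) (e := e') (g := c) (g' := c') (δ := δ) (T := T') (f := f) hq7z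
        (by have := n.hB; omega) (by exact_mod_cast hB0) ⟨hc, hc'⟩ hcc hδ hck hck' he' (by omega) ?_
        (by exact_mod_cast hyT) (by exact_mod_cast Dvd.intro _ hh'.symm) ?_ ?_
      · rw [hκv]
        push_cast at e1
        exact e1
      · intro hq
        rcases h11 (by omega) with ⟨a, b, -, c0⟩ | ⟨a, b, c0⟩
        · omega
        · omega
      · intro hq
        rcases h11 (by omega) with ⟨a, b, c1, c0⟩ | ⟨a, b, c0⟩
        · exact Or.inl c1
        · omega
    · rw [hy] at hyv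
      have hκv' : k' = v := ((Nat.dvd_prime hv).1 hyv).resolve_left (by omega)
      exact L.ne_kk hr hrk (by rw [hκv', ← hκv]; exact hrk) rfl

/-- **`S` is not `L₂(u)`.** -/
theorem row_l2 (h : SX p q k A k' B m i W S) (hv : v.Prime) (hvp : v ≠ p) (hI : Fam.Is v f S (.psl 2)) : False := by
  have L := h.lw
  have F := l2f hv hI
  have h4 : 4 ≤ v ^ f := hI.2.1 rfl
  have hf : f ≠ 0 := by
    rintro rfl
    rw [pow_zero] at h4
    omega
  obtain ⟨d, n⟩ := LW.ns L
  obtain ⟨c, c', δ, hc, hc', hcc, hδ, hck, hck', -, -⟩ := LW.cofz L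
  have hkp := L.k_pos
  have hzz := L.side.z
  have hq2 : 7 * 7 ≤ q ^ 2 := by rw [sq]; exact Nat.mul_le_mul L.q7 L.q7
  obtain ⟨r0, hr0, hrk0⟩ := Nat.exists_prime_and_dvd hkp.1.ne'
  obtain ⟨s0, hs0, hsk0⟩ := Nat.exists_prime_and_dvd hkp.2.ne'
  have hWk : ∀ {r : ℕ}, r.Prime → (r ∣ k ∨ r ∣ k' ∨ r ∣ (q ^ 2 + 1) / 2 ∨ r = p) → W r := fun hr hd => h.W_prime hr hd
  have nkk : ∀ {r s : ℕ}, r.Prime → r ∣ k → s.Prime → s ∣ k' → ¬ W (r * s) ∧ ¬ W (s * r) := fun hr hrk hs hsk =>
    ⟨fun hW => L.na hr hrk hs hsk hW (dvd_mul_right _ _) (dvd_mul_left _ _),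
      fun hW => L.na hr hrk hs hsk hW (dvd_mul_left _ _) (dvd_mul_right _ _)⟩
  have nkz : ∀ {r s : ℕ}, r.Prime → (r ∣ k ∨ r ∣ k') → s.Prime → (s ∣ (q ^ 2 + 1) / 2 ∨ s = p) →
      ¬ W (r * s) ∧ ¬ W (s * r) := fun hr hrk hs hsz =>
    ⟨fun hW => L.naz hr hrk hs hsz hW (dvd_mul_right _ _) (dvd_mul_left _ _),
      fun hW => L.naz hr hrk hs hsz hW (dvd_mul_left _ _) (dvd_mul_right _ _)⟩
  -- membership
  have hmem : ∀ N : ℕ, W N → (∀ r : ℕ, r.Prime → r ∣ N → ¬ r ∣ m * i) → ∃ x : S, orderOf x = N := by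
    intro N hN hr
    exact h.mem N hN (Nat.coprime_of_dvd hr)
  have hpzr : ∀ r : ℕ, r.Prime → r ∣ p * ((q ^ 2 + 1) / 2) → r ∣ (q ^ 2 + 1) / 2 ∨ r = p := by
    intro r hr hd
    rcases hr.dvd_mul.1 hd with hd | hd
    · exact Or.inr ((Nat.prime_dvd_prime_iff_eq hr L.pp).1 hd)
    · exact Or.inl hd
  have hA0 : 0 < A := L.pos _ L.WA
  have hB0 : 0 < B := L.pos _ L.WB
  by_cases hGk : ∀ r : ℕ, r.Prime → r ∣ k → ¬ r ∣ m * i
  · have hkS := hmem k L.Wk.1 hGk
    by_cases hGk' : ∀ r : ℕ, r.Prime → r ∣ k' → ¬ r ∣ m * i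
    · exact kstate L F hv hvp hf h4 h.WS hkS (hmem k' L.Wk.2 hGk')
    · push Not at hGk'
      obtain ⟨w, hw, hwk, hwB⟩ := hGk'
      have hpz := hmem _ L.Wpz fun r hr hd => by
        have h1 := hpzr r hr hd
        have h2 := nkk hr0 hrk0 hw hwk
        have h3 := nkz hr0 (Or.inl hrk0) hr h1
        have h5 := nkz hw (Or.inr hwk) hr h1
        exact h.one w r r0 hw hr hr0 (L.ne_kz hw (Or.inr hwk) h1) (L.ne_kk hr0 hrk0 hwk).symm
          (L.ne_kz hr0 (Or.inl hrk0) h1).symm (hWk hw (Or.inr (Or.inl hwk))) (hWk hr (Or.inr (Or.inr h1)))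
          (hWk hr0 (Or.inl hrk0)) h5.1 h2.2 h3.2 hwB
      exact zstate L F hv hvp hf h.WS hpz n.hA hA0 n.hd hkS (fun r hr hrk => ⟨Or.inl hrk, fun N hN hd =>
        L.uk r hr hrk N hN hd⟩) hkp.1 hc hδ hck
  · push Not at hGk
    obtain ⟨w, hw, hwk, hwB⟩ := hGk
    have hk'S := hmem k' L.Wk.2 fun r hr hrk => by
      obtain ⟨t, ht, htz⟩ := Nat.exists_prime_and_dvd (show (q ^ 2 + 1) / 2 ≠ 1 by omega)
      have h2 := nkk hw hwk hr hrk
      have h3 := nkz hw (Or.inl hwk) ht (Or.inl htz)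
      have h5 := nkz hr (Or.inr hrk) ht (Or.inl htz)
      exact h.one w r t hw hr ht (L.ne_kk hw hwk hrk) (L.ne_kz hw (Or.inl hwk) (Or.inl htz))
        (L.ne_kz hr (Or.inr hrk) (Or.inl htz)) (hWk hw (Or.inl hwk)) (hWk hr (Or.inr (Or.inl hrk)))
        (hWk ht (Or.inr (Or.inr (Or.inl htz)))) h2.1 h3.1 h5.1 hwB
    have hpz := hmem _ L.Wpz fun r hr hd => by
      have h1 := hpzr r hr hd
      have h2 := nkk hw hwk hs0 hsk0
      have h3 := nkz hs0 (Or.inr hsk0) hr h1
      have h5 := nkz hw (Or.inl hwk) hr h1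
      exact h.one w r s0 hw hr hs0 (L.ne_kz hw (Or.inl hwk) h1) (L.ne_kk hw hwk hsk0)
        (L.ne_kz hs0 (Or.inr hsk0) h1).symm (hWk hw (Or.inl hwk)) (hWk hr (Or.inr (Or.inr h1)))
        (hWk hs0 (Or.inr (Or.inl hsk0))) h5.1 h2.1 h3.2 hwB
    exact zstate L F hv hvp hf h.WS hpz (d' := -d) (δ := -δ) (by rw [n.hB]; ring) hB0
      (by rcases n.hd with h | h <;> omega) hk'S (fun r hr hrk => ⟨Or.inr hrk, fun N hN hd =>
      L.uk' r hr hrk N hN hd⟩) hkp.2 hc' (by rcases hδ with h | h <;> omega) (by rw [hck']; ring)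

end Cfsg.Agent.R2.Spec.X4.H10
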