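import Cfsg.Agent.R2.Spec.X4.H10.SO

/-!
# X4, the symplectic and orthogonal rows: the isolated tori in characteristic 2 (helper10)
-/

set_option autoImplicit false
set_option linter.unusedSectionVars false
set_option linter.unusedVariables false

namespace Cfsg.Agent.R2.Spec.X4.H10

open Subgroup Cfsg
open Cfsg.Agent.H426.LieFam Cfsg.Agent.R2.Spec Cfsg.Agent.R2.Spec.P1 Cfsg.Agent.R2.Spec.F1
open Cfsg.Agent.H72 Cfsg.Agent.H377

universe u

section num

variable {u k : ℕ}

theorem two_ne_zero_zmod {r : ℕ} (hr : r.Prime) (h : (2 : ZMod r) = 0) : r = 2 := by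
  have h1 : ((2 : ℕ) : ZMod r) = 0 := by exact_mod_cast h
  rw [ZMod.natCast_eq_zero_iff] at h1
  exact (Nat.prime_dvd_prime_iff_eq hr Nat.prime_two).1 h1

/-- `x = ± 1`, `x ^ k = - e` and `x ^ k = e` -/
theorem coprime_aux (hu : Even u) {M N : ℕ} {a b : ℤ} (ha : (M : ℤ) = u ^ k + a) (hb : (N : ℤ) = u + b)
    (hba : (-b) ^ k = a) (haa : a = 1 ∨ a = -1) (hbb : b = 1 ∨ b = -1) (hN : 0 < N) : Nat.Coprime M N := by
  refine Nat.coprime_of_dvd fun r hr h1 h2 => ?_
  have := Fact.mk hr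
  have e1 : ((M : ℕ) : ZMod r) = 0 := (ZMod.natCast_eq_zero_iff _ _).2 h1
  have e2 : ((N : ℕ) : ZMod r) = 0 := (ZMod.natCast_eq_zero_iff _ _).2 h2
  have e3 : (u : ZMod r) ^ k + (a : ZMod r) = 0 := by
    have := congrArg (fun z : ℤ => (z : ZMod r)) ha
    push_cast at this
    rw [← this, e1]
  have e4 : (u : ZMod r) = -(b : ZMod r) := by
    have := congrArg (fun z : ℤ => (z : ZMod r)) hb
    push_cast at this
    rw [e2] at this
    linear_combination this.symm
  have e5 : (-(b : ZMod r)) ^ k = (a : ZMod r) := by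
    have := congrArg (fun z : ℤ => (z : ZMod r)) hba
    push_cast at this
    exact this
  rw [e4, e5] at e3
  have e6 : (2 : ZMod r) = 0 := by
    rcases haa with rfl | rfl
    · push_cast at e3
      linear_combination e3
    · push_cast at e3
      linear_combination -e3
  have h3 := two_ne_zero_zmod hr e6
  subst h3
  obtain ⟨c, hc⟩ := hu
  obtain ⟨c', hc'⟩ := h2
  rcases hbb with rfl | rfl <;> omega

theorem gcd_two_odd {m : ℕ} (hm : m % 2 = 1) : Nat.gcd 2 m = 1 := by
  rcases (Nat.dvd_prime Nat.prime_two).1 (Nat.gcd_dvd_left 2 m) with h | h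
  · exact h
  · have : 2 ∣ m := by rw [← h]; exact Nat.gcd_dvd_right 2 m
    omega

theorem gcd_four_odd {m : ℕ} (hm : m % 2 = 1) : Nat.gcd 4 m = 1 := by
  have : Nat.Coprime 2 m := gcd_two_odd hm
  exact Nat.Coprime.pow_left 2 this

theorem pow_even (hu : Even u) (hk : 1 ≤ k) : u ^ k % 2 = 0 := by
  have := (Nat.even_pow' (m := u) (n := k) (by omega)).2 hu
  rw [Nat.even_iff] at this
  exact this

end num

section

variable {t : Fam} {f : ℕ} {S : Type u} [Group S]

/-- **The isolated tori, characteristic 2.** -/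
theorem elt_two (h : SpO t) (hI : Fam.Is 2 f S t) {i : ℕ} (hi : top t i) : ∃ x : S, orderOf x = ttor t (2 ^ f) i := by
  have hf := H4.is_f_ne h.cla hI
  have hq2 : 2 ≤ 2 ^ f := Nat.le_self_pow hf 2
  have hev : Even (2 ^ f) := (Nat.even_pow' hf).2 (by decide)
  have hev' : 2 ^ f % 2 = 0 := Nat.even_iff.1 hev
  have g2 : Nat.gcd 2 (2 ^ f - 1) = 1 := gcd_two_odd (by omega)
  have hpos : ∀ k : ℕ, 1 ≤ (2 ^ f) ^ k := fun k => Nat.one_le_pow _ _ (by omega)
  have hle : ∀ k : ℕ, 1 ≤ k → 2 ^ f ≤ (2 ^ f) ^ k := fun k hk => Nat.le_self_pow (by omega) _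
  have hpe : ∀ k : ℕ, 1 ≤ k → (2 ^ f) ^ k % 2 = 0 := fun k hk => pow_even hev hk
  have g4m : ∀ k : ℕ, 1 ≤ k → Nat.gcd 4 ((2 ^ f) ^ k - 1) = 1 := fun k hk => gcd_four_odd (by
    have := hpe k hk; have := hle k hk; omega)
  have g4p : ∀ k : ℕ, 1 ≤ k → Nat.gcd 4 ((2 ^ f) ^ k + 1) = 1 := fun k hk => gcd_four_odd (by
    have := hpe k hk; omega)
  have om : ∀ k : ℕ, 1 ≤ k → Odd ((2 ^ f) ^ k - 1) := fun k hk => Nat.odd_iff.2 (by
    have := hpe k hk; have := hle k hk; omega)
  have op : ∀ k : ℕ, 1 ≤ k → Odd ((2 ^ f) ^ k + 1) := fun k hk => Nat.odd_iff.2 (by have := hpe k hk; omega)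
  cases t with
  | psp n =>
    obtain ⟨hn, h4, F, _, _, hch, hF, ⟨e⟩⟩ := hI
    have hcF : Nat.card F = 2 ^ f := by rw [Nat.card_eq_fintype_card, hF]
    change i = 2 * n ∨ (i = n ∧ n % 2 = 1) at hi
    refine exists_congr_order e ?_
    rcases hi with rfl | ⟨rfl, hi⟩
    · rw [ttor, if_pos rfl, g2, Nat.div_one]
      exact AdjSp.of_elt (F := F) (by omega) (elt_tor_minus (F := F) (k := n) (by omega) (by rw [hcF]))
    · rw [ttor, if_neg (by omega), g2, Nat.div_one]
      exact AdjSp.of_elt (F := F) (by omega) (elt_tor_plus (F := F) (k := i) (by omega) (by rw [hcF]))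
  | oodd n =>
    exfalso
    obtain ⟨hn, ho, -⟩ := hI
    exact (Nat.not_even_iff_odd.2 ho) hev
  | oplus n =>
    obtain ⟨hn, F, _, _, hch, hF, ⟨e⟩⟩ := hI
    have hod := od_plus hn e
    have hcF : Nat.card F = 2 ^ f := by rw [Nat.card_eq_fintype_card, hF]
    change (i = n ∧ n % 2 = 1) ∨ i = 2 * (n - 1) ∨ (i = n - 1 ∧ n % 2 = 0) at hi
    rcases hi with ⟨rfl, hi⟩ | rfl | ⟨rfl, hi⟩
    · rw [ttor, if_pos rfl, g4m _ (by omega), Nat.div_one]
      exact hod.ex _ (Elt.two (by omega) (om _ (by omega)) (elt_tor_plus (F := F) (k := i) (by omega) (by rw [hcF])))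
    · rw [ttor, if_neg (by omega), if_neg (by omega)]
      by_cases hn2 : n % 2 = 0
      · rw [if_pos hn2, g2, Nat.div_one]
        exact hod.ex _ (Elt.two (by omega) (op _ (by omega)) (AdjOrth.elt_extend
          (elt_tor_minus (F := F) (k := n - 1) (by omega) (by rw [hcF])) (Or.inr rfl) hod.hδ (by omega)))
      · rw [if_neg hn2, g4m _ (by omega), Nat.div_one]
        have h1 := (elt_tor_minus (F := F) (k := n - 1) (N := (2 ^ f) ^ (n - 1) + 1) (by omega) (by rw [hcF])).prod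
          (elt_tor_minus (F := F) (k := 1) (N := 2 ^ f + 1) le_rfl (by rw [hcF, pow_one]))
        have hev1 : Even (n - 1) := Nat.even_iff.2 (by omega)
        have hco : Nat.Coprime ((2 ^ f) ^ (n - 1) + 1) (2 ^ f + 1) :=
          coprime_aux (u := 2 ^ f) (k := n - 1) (a := 1) (b := 1) hev (by push_cast; ring) (by push_cast; ring)
            hev1.neg_one_pow (Or.inl rfl) (Or.inl rfl) (by omega)
        rw [hco.lcm_eq_mul, show n - 1 + 1 = n by omega] at h1
        have o1 : Odd (2 ^ f + 1) := Nat.odd_iff.2 (by omega)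
        exact hod.ex _ (Elt.two (by omega) ((op _ (by omega)).mul o1) h1)
    · rw [ttor, if_neg (by omega), if_pos rfl, g2, Nat.div_one]
      exact hod.ex _ (Elt.two (by omega) (om _ (by omega)) (AdjOrth.elt_extend
        (elt_tor_plus (F := F) (k := n - 1) (by omega) (by rw [hcF])) (Or.inl rfl) hod.hδ (by omega)))
  | ominus n =>
    obtain ⟨hn, F, _, _, hch, a, b, hF, hab, ⟨e⟩⟩ := hI
    have hod := od_minus hn hab e
    have hcF : Nat.card F = 2 ^ f := by rw [Nat.card_eq_fintype_card, hF]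
    change i = 2 * n ∨ i = 2 * (n - 1) ∨ (i = n - 1 ∧ n % 2 = 0) at hi
    have o1 : Odd (2 ^ f + 1) := Nat.odd_iff.2 (by omega)
    have o2 : Odd (2 ^ f - 1) := Nat.odd_iff.2 (by omega)
    rcases hi with rfl | rfl | ⟨rfl, hi⟩
    · rw [ttor, if_pos rfl, g4p _ (by omega), Nat.div_one]
      exact hod.ex _ (Elt.two (by omega) (op _ (by omega)) (elt_tor_minus (F := F) (k := n) (by omega) (by rw [hcF])))
    · rw [ttor, if_neg (by omega), if_neg (by omega), g4p _ (by omega), Nat.div_one]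
      have h1 := (elt_tor_minus (F := F) (k := n - 1) (N := (2 ^ f) ^ (n - 1) + 1) (by omega) (by rw [hcF])).prod
        (elt_tor_plus (F := F) (k := 1) (N := 2 ^ f - 1) le_rfl (by rw [hcF, pow_one]))
      have hco : Nat.Coprime ((2 ^ f) ^ (n - 1) + 1) (2 ^ f - 1) :=
        coprime_aux (u := 2 ^ f) (k := n - 1) (a := 1) (b := -1) hev (by push_cast; ring)
          (by push_cast [Nat.cast_sub (show 1 ≤ 2 ^ f by omega)]; ring) (by rw [neg_neg, one_pow])
          (Or.inl rfl) (Or.inr rfl) (by omega)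
      rw [hco.lcm_eq_mul, show n - 1 + 1 = n by omega, mul_one] at h1
      exact hod.ex _ (Elt.two (by omega) ((op _ (by omega)).mul o2) h1)
    · rw [ttor, if_neg (by omega), if_pos rfl, g4p _ (by omega), Nat.div_one]
      have h1 := (elt_tor_plus (F := F) (k := n - 1) (N := (2 ^ f) ^ (n - 1) - 1) (by omega) (by rw [hcF])).prod
        (elt_tor_minus (F := F) (k := 1) (N := 2 ^ f + 1) le_rfl (by rw [hcF, pow_one]))
      have hodd1 : Odd (n - 1) := Nat.odd_iff.2 (by omega)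
      have hco : Nat.Coprime ((2 ^ f) ^ (n - 1) - 1) (2 ^ f + 1) :=
        coprime_aux (u := 2 ^ f) (k := n - 1) (a := -1) (b := 1) hev
          (by push_cast [Nat.cast_sub (hpos (n - 1))]; ring) (by push_cast; ring)
          hodd1.neg_one_pow (Or.inr rfl) (Or.inl rfl) (by omega)
      rw [hco.lcm_eq_mul, show n - 1 + 1 = n by omega, one_mul] at h1
      exact hod.ex _ (Elt.two (by omega) ((om _ (by omega)).mul o1) h1)
  | _ => exact h.elim

end

end Cfsg.Agent.R2.Spec.X4.H10
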