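import Cfsg.Agent.R2.Spec.X4.Base
import Cfsg.Agent.R2.Spec.F1.Few
import Cfsg.Agent.R2.Spec.F1.Num

/-!
# X4: the congruence kills of helper4 (`Row.n1`, `n2`, `n3`), stated on `LW` (helper10)
-/

set_option autoImplicit false
set_option linter.unusedSectionVars false
set_option linter.unusedVariables false

namespace Cfsg.Agent.R2.Spec.X4.H10

open Subgroup Cfsg
open Cfsg.Agent.H426.LieFam Cfsg.Agent.R2.Spec Cfsg.Agent.R2.Spec.P1 Cfsg.Agent.R2.Spec.F1
open Cfsg.Agent.H72 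
open Cfsg.Agent.H376.Six

variable {p q k A k' B : ℕ} {W : ℕ → Prop}

/-! ### congruences -/

theorem cast_one {N r : ℕ} (hr : 1 < r) (hN : N ≠ 0) (h : ∀ y : ℕ, y.Prime → y ∣ N → y % r = 1) :
    ((N : ℕ) : ZMod r) = 1 := F1.cast_eq_one hr hN h

/-- `z ≡ 1 mod w` for a prime `w` of `k'` is impossible -/
theorem LW.n1 (L : LW p q k A k' B W) {w : ℕ} (hw : w.Prime) (hk : w ∣ k')
    (h : ∀ x : ℕ, x.Prime → x ∣ (q ^ 2 + 1) / 2 → x % w = 1) : False := by
  have h1 := cast_one hw.one_lt (by have := L.side.z; omega) h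
  have h2 := L.side.prime L.q2 hw (Or.inr hk)
  apply h2.2.2.2
  have h3 := L.side.z.1
  have h4 : ((q : ℕ) : ZMod w) ^ 2 = 1 := by
    have h5 : ((2 * ((q ^ 2 + 1) / 2) : ℕ) : ZMod w) = ((q ^ 2 + 1 : ℕ) : ZMod w) := by rw [h3]
    push_cast at h5
    have h6 : (((q ^ 2 + 1) / 2 : ℕ) : ZMod w) = 1 := h1
    rw [h6] at h5
    linear_combination -h5
  rw [← ZMod.natCast_eq_zero_iff, Nat.cast_sub (Nat.one_le_pow _ _ (by have := L.q2; omega))]
  push_cast
  linear_combination (((q : ℕ) : ZMod w) ^ 2 + 1) * h4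

theorem two_ne {r : ℕ} (hr : r.Prime) (h : 5 ≤ r) : ((2 : ℕ) : ZMod r) ≠ 0 := by
  intro h1
  rw [ZMod.natCast_eq_zero_iff] at h1
  have := Nat.le_of_dvd (by norm_num) h1
  omega

/-- `k ≡ k' ≡ 1 mod r` for a prime `r` of `z` is impossible -/
theorem LW.n2 (L : LW p q k A k' B W) {r : ℕ} (hr : r.Prime) (hz : r ∣ (q ^ 2 + 1) / 2)
    (h : ∀ x : ℕ, x.Prime → (x ∣ k ∨ x ∣ k') → x % r = 1) : False := by
  have hfr := Fact.mk hr
  obtain ⟨k0, k0'⟩ := L.k_pos
  have h1 : ((k : ℕ) : ZMod r) = 1 := cast_one hr.one_lt (by omega) fun x hx hd => h x hx (Or.inl hd)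
  have h2 : ((k' : ℕ) : ZMod r) = 1 := cast_one hr.one_lt (by omega) fun x hx hd => h x hx (Or.inr hd)
  have h5 := (L.side.z_prime L.q2 hr hz).1
  have hq : ((q : ℕ) : ZMod r) ^ 2 = -1 := by
    have h3 : r ∣ q ^ 2 + 1 := by rw [← L.side.z.1]; exact hz.mul_left 2
    rw [← ZMod.natCast_eq_zero_iff] at h3
    push_cast at h3
    linear_combination h3
  have hqq : q ≤ q ^ 2 := Nat.le_self_pow two_ne_zero q
  have key : ∀ a b : ℕ, ((a : ℕ) : ZMod r) = 1 → ((b : ℕ) : ZMod r) = 1 →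
      (a = q ^ 2 + q + 1 ∨ 3 * a = q ^ 2 + q + 1 ∧ q % 3 = 1) →
      (b = q ^ 2 - q + 1 ∨ 3 * b = q ^ 2 - q + 1 ∧ q % 3 = 2) → False := by
    intro a b ha hb h3 h4
    have e1 : ∃ g : ℕ, (g = 1 ∨ (g = 3 ∧ q % 3 = 1)) ∧ (g : ZMod r) = (q : ZMod r) := by
      rcases h3 with h3 | ⟨h3, h3'⟩
      · refine ⟨1, Or.inl rfl, ?_⟩
        have := congrArg (fun x : ℕ => (x : ZMod r)) h3
        push_cast at this ⊢
        rw [ha] at this
        linear_combination this + hq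
      · refine ⟨3, Or.inr ⟨rfl, h3'⟩, ?_⟩
        have := congrArg (fun x : ℕ => (x : ZMod r)) h3
        push_cast at this ⊢
        rw [ha] at this
        linear_combination this + hq
    have e2 : ∃ g : ℕ, (g = 1 ∨ (g = 3 ∧ q % 3 = 2)) ∧ (g : ZMod r) = -(q : ZMod r) := by
      rcases h4 with h4 | ⟨h4, h4'⟩
      · refine ⟨1, Or.inl rfl, ?_⟩
        have := congrArg (fun x : ℕ => (x : ZMod r)) h4
        push_cast [Nat.cast_sub hqq] at this ⊢
        rw [hb] at this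
        linear_combination this + hq
      · refine ⟨3, Or.inr ⟨rfl, h4'⟩, ?_⟩
        have := congrArg (fun x : ℕ => (x : ZMod r)) h4
        push_cast [Nat.cast_sub hqq] at this ⊢
        rw [hb] at this
        linear_combination this + hq
    obtain ⟨g, hg, hg'⟩ := e1
    obtain ⟨g₂, hg₂, hg₂'⟩ := e2
    have e3 : ((g + g₂ : ℕ) : ZMod r) = 0 := by
      push_cast
      rw [hg', hg₂']
      ring
    rw [ZMod.natCast_eq_zero_iff] at e3
    rcases hg with rfl | ⟨rfl, hg⟩ <;> rcases hg₂ with rfl | ⟨rfl, hg₂⟩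
    · have := Nat.le_of_dvd (by norm_num) e3; omega
    · have := Nat.le_of_dvd (by norm_num) e3; omega
    · have := Nat.le_of_dvd (by norm_num) e3; omega
    · omega
  rcases L.side.cof L.q2 with ⟨-, a, b⟩ | ⟨-, a, b⟩
  · exact key _ _ h1 h2 a b
  · exact key _ _ h2 h1 a b

/-- `k ≡ k' ≡ 1 mod p` is impossible for `p ≥ 5` -/
theorem LW.n3 (L : LW p q k A k' B W) (hp5 : 5 ≤ p)
    (h : ∀ x : ℕ, x.Prime → (x ∣ k ∨ x ∣ k') → x % p = 1) : False := by
  have hfr := Fact.mk L.pp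
  obtain ⟨k0, k0'⟩ := L.k_pos
  have h1 : ((k : ℕ) : ZMod p) = 1 := cast_one L.pp.one_lt (by omega) fun x hx hd => h x hx (Or.inl hd)
  have h2 : ((k' : ℕ) : ZMod p) = 1 := cast_one L.pp.one_lt (by omega) fun x hx hd => h x hx (Or.inr hd)
  have hq0 : ((q : ℕ) : ZMod p) = 0 := (ZMod.natCast_eq_zero_iff q p).2 L.p_dvd
  have hqq : q ≤ q ^ 2 := Nat.le_self_pow two_ne_zero q
  have hq2 := L.q2
  have key : ((ap q : ℕ) : ZMod p) = 1 → ((am q : ℕ) : ZMod p) = 1 → False := by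
    intro ha hb
    have e1 := (ap_spec hq2).1
    have e2 := (am_spec hq2).1
    have f1 : ((Nat.gcd 3 (q - 1) : ℕ) : ZMod p) = 1 := by
      have := congrArg (fun x : ℕ => (x : ZMod p)) e1
      push_cast at this
      rw [ha, hq0] at this
      linear_combination this
    have f2 : ((Nat.gcd 3 (q + 1) : ℕ) : ZMod p) = 1 := by
      have := congrArg (fun x : ℕ => (x : ZMod p)) e2
      push_cast [Nat.cast_sub hqq] at this
      rw [hb, hq0] at this
      linear_combination this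
    have three : ((3 : ℕ) : ZMod p) ≠ 1 := by
      intro h3
      apply two_ne L.pp hp5
      push_cast at h3 ⊢
      linear_combination h3
    have h3q : q % 3 ≠ 0 := by
      intro h3
      obtain ⟨e, he⟩ := L.qp
      have h4 : 3 ∣ p := Nat.prime_three.dvd_of_dvd_pow (he ▸ Nat.dvd_of_mod_eq_zero h3)
      have := (Nat.prime_dvd_prime_iff_eq Nat.prime_three L.pp).1 h4
      omega
    rcases (by omega : q % 3 = 1 ∨ q % 3 = 2) with h4 | h4
    · apply three
      rw [← f1, Nat.gcd_eq_left (by omega : 3 ∣ q - 1)]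
    · apply three
      rw [← f2, Nat.gcd_eq_left (by omega : 3 ∣ q + 1)]
  rcases L.side with ⟨-, rfl, -, rfl, -⟩ | ⟨-, rfl, -, rfl, -⟩
  · exact key h1 h2
  · exact key h2 h1

/-! ### the two kills -/

end Cfsg.Agent.R2.Spec.X4.H10
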