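import Cfsg.Agent.R2.Spec.X4.H10.Num
import Cfsg.Agent.R2.Spec.X4.Base

/-!
# X4, the symplectic and orthogonal rows: the numeric core, II (helper10)

* `small` : `q ≤ 13`;
* `charB` : `k'` a power of the characteristic;
* `coreP` : the two-factor tori, `b`-case;
* `coreQ` : the two-factor tori, `4`-case.
-/

set_option autoImplicit false

namespace Cfsg.Agent.R2.Spec.X4.H10

/-! ### small `q` -/

def chk (w j k A : ℕ) : Bool :=
  ((w ^ j + 1) % k == 0 && 4 * A % (w ^ j + 1) == 0) || ((w ^ j - 1) % k == 0 && 4 * A % (w ^ j - 1) == 0)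

def chkAll : Bool :=
  (List.range 67).all fun w => (List.range 13).all fun j =>
    !(2 ≤ w && 2 ≤ j) || ((!chk w j 19 171 || w == 7) && (!chk w j 73 365 || w == 3 || w == 9 || w == 27) &&
      (!chk w j 133 665 || w == 11) && (!chk w j 157 1099 || w == 13))

theorem chkAll_true : chkAll = true := by decide +kernel

theorem chk_all {w j : ℕ} (hw : w < 67) (hj : j < 13) (hw2 : 2 ≤ w) (hj2 : 2 ≤ j) :
    ((chk w j 19 171 = true → w = 7) ∧ (chk w j 73 365 = true → w = 3 ∨ w = 9 ∨ w = 27) ∧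
      (chk w j 133 665 = true → w = 11) ∧ (chk w j 157 1099 = true → w = 13)) := by
  have h := List.all_eq_true.1 chkAll_true w (List.mem_range.2 hw)
  have h2 := List.all_eq_true.1 h j (List.mem_range.2 hj)
  simp only [Bool.or_eq_true, Bool.and_eq_true, Bool.not_eq_true', beq_iff_eq, Bool.and_eq_false_iff,
    decide_eq_false_iff_not] at h2
  rcases h2 with h2 | ⟨⟨⟨h3, h4⟩, h5⟩, h6⟩
  · omega
  · refine ⟨fun h => ?_, fun h => ?_, fun h => ?_, fun h => ?_⟩
    · rcases h3 with h3 | h3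
      · rw [h] at h3; exact Bool.noConfusion h3
      · exact h3
    · rcases h4 with ((h4 | h4) | h4) | h4
      · rw [h] at h4; exact Bool.noConfusion h4
      · exact Or.inl h4
      · exact Or.inr (Or.inl h4)
      · exact Or.inr (Or.inr h4)
    · rcases h5 with h3 | h3
      · rw [h] at h3; exact Bool.noConfusion h3
      · exact h3
    · rcases h6 with h3 | h3
      · rw [h] at h3; exact Bool.noConfusion h3
      · exact h3

theorem chk_of {w j k A : ℕ} {e : ℤ} (hw : 2 ≤ w) (he : e = 1 ∨ e = -1) (hk : (k : ℤ) ∣ (w : ℤ) ^ j + e)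
    (hA : (w : ℤ) ^ j + e ∣ 4 * A) : chk w j k A = true := by
  have h1 : 1 ≤ w ^ j := Nat.one_le_pow _ _ (by omega)
  rw [chk, Bool.or_eq_true, Bool.and_eq_true, Bool.and_eq_true, beq_iff_eq, beq_iff_eq, beq_iff_eq, beq_iff_eq]
  rcases he with rfl | rfl
  · left
    constructor
    · exact Nat.mod_eq_zero_of_dvd (by exact_mod_cast hk)
    · exact Nat.mod_eq_zero_of_dvd (by exact_mod_cast hA)
  · right
    have h2 : ((w ^ j - 1 : ℕ) : ℤ) = (w : ℤ) ^ j + -1 := by push_cast [Nat.cast_sub h1]; ring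
    rw [← h2] at hk hA
    constructor
    · exact Nat.mod_eq_zero_of_dvd (by exact_mod_cast hk)
    · exact Nat.mod_eq_zero_of_dvd (by exact_mod_cast hA)

/-- bounds for the solutions of `w ^ j ≤ 4397` -/
theorem pow_bound {w j : ℕ} (hw : 2 ≤ w) (hj : 2 ≤ j) (h : w ^ j ≤ 4397) : w < 67 ∧ j < 13 := by
  constructor
  · by_contra hcon
    have h1 : 67 ^ 2 ≤ w ^ j := (Nat.pow_le_pow_left (by omega : 67 ≤ w) 2).trans
      (Nat.pow_le_pow_right (by omega) hj)
    omega
  · by_contra hcon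
    have h1 : 2 ^ 13 ≤ w ^ j := (Nat.pow_le_pow_right (by omega) (by omega : 13 ≤ j)).trans
      (Nat.pow_le_pow_left hw j)
    omega

open Cfsg.Agent.H376.Six (ap am)

/-- **Small `q`.** -/
theorem small {p q k A k' B : ℕ} {W : ℕ → Prop} (L : LW p q k A k' B W) (hq : q < 17) {v f N : ℕ} (hv : v.Prime)
    (hvp : v ≠ p) (hN : 2 ≤ f * N) {e g H : ℤ} (he : e = 1 ∨ e = -1) (hg : g ∣ 4) (hH : 0 < H)
    (hk : (k : ℤ) ∣ ((v ^ f : ℕ) : ℤ) ^ N + e) (hE : H * (((v ^ f : ℕ) : ℤ) ^ N + e) = g * A) : False := by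
  have h1 := L.side.odd_q
  have h7 := L.q7
  have hX : (((v ^ f : ℕ) : ℤ) ^ N + e) ∣ 4 * A := by
    obtain ⟨c, hc⟩ := hg
    refine ⟨c * H, ?_⟩
    have : (4 : ℤ) * A = c * (g * A) := by rw [hc]; ring
    rw [this, ← hE]
    ring
  have hpow : (((v ^ f : ℕ) : ℤ) ^ N) = ((v : ℕ) : ℤ) ^ (f * N) := by push_cast; rw [pow_mul]
  rw [hpow] at hk hX hE
  have hp3 := L.p3
  have hpq := L.pq
  have hpd := L.p_dvd
  obtain ⟨j, hj⟩ := L.qp
  have hA0 : (0 : ℤ) < 4 * A := by
    have := L.pos A L.WA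
    omega
  have hle := Int.le_of_dvd hA0 hX
  have key : A ≤ 1099 → v < 67 ∧ f * N < 13 ∧ chk v (f * N) k A = true := by
    intro hA
    have h2 : (((v ^ (f * N) : ℕ)) : ℤ) ≤ 4397 := by
      push_cast
      rcases he with rfl | rfl <;> omega
    have h3 := pow_bound hv.two_le hN (by exact_mod_cast h2)
    exact ⟨h3.1, h3.2, chk_of hv.two_le he hk hX⟩
  have hcases : q = 7 ∨ q = 9 ∨ q = 11 ∨ q = 13 ∨ q = 15 := by omega
  have h15 : q ≠ 15 := by
    rintro rfl
    have h2 : p ∣ 3 ∨ p ∣ 5 := by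
      rw [show 15 = 3 * 5 by norm_num] at hpd
      exact L.pp.dvd_mul.1 hpd
    rcases h2 with h2 | h2
    · have h3 := (Nat.prime_dvd_prime_iff_eq L.pp Nat.prime_three).1 h2
      have h4 : 5 ∣ p ^ j := by rw [← hj]; norm_num
      have := Nat.prime_five.dvd_of_dvd_pow h4
      omega
    · have h3 := (Nat.prime_dvd_prime_iff_eq L.pp Nat.prime_five).1 h2
      have h4 : 3 ∣ p ^ j := by rw [← hj]; norm_num
      have := Nat.prime_three.dvd_of_dvd_pow h4
      omega
  have hself : ∀ {c : ℕ}, c.Prime → q = c → p = c := by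
    intro c hc hqc
    rw [hqc] at hpd
    exact (Nat.prime_dvd_prime_iff_eq L.pp hc).1 hpd
  have cop7 : Nat.gcd 3 (7 - 1) = 3 ∧ Nat.gcd 3 (7 + 1) = 1 := by decide
  rcases hcases with rfl | rfl | rfl | rfl | rfl
  · have hp := hself (by norm_num : Nat.Prime 7) rfl
    obtain ⟨hA, hkk⟩ : A = 171 ∧ k = 19 := by
      rcases L.side with ⟨h2, h3, h4, -, -⟩ | ⟨h2, -, -, -, -⟩
      · refine ⟨by rw [h4]; norm_num, ?_⟩
        have h5 := L.side.cof L.q2
        rcases h5 with ⟨-, h6 | ⟨h6, -⟩, -⟩ | ⟨h6, -, -⟩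
        · exfalso
          have h8 := (H376.Six.ap_spec (q := 7) (by norm_num)).1
          rw [cop7.1] at h8
          rw [h3] at h6
          omega
        · omega
        · omega
      · omega
    subst hA hkk
    obtain ⟨h2, h3, h4⟩ := key (by norm_num)
    have := (chk_all h2 h3 hv.two_le hN).1 h4
    omega
  · have hp : p = 3 := by
      have : p ∣ 3 ^ 2 := by norm_num; exact hpd
      exact (Nat.prime_dvd_prime_iff_eq L.pp Nat.prime_three).1 (L.pp.dvd_of_dvd_pow this)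
    obtain ⟨hA, hkk⟩ : A = 365 ∧ k = 73 := by
      rcases L.side with ⟨h2, -⟩ | ⟨h2, h3, h4, -, -⟩
      · omega
      · refine ⟨by rw [h4]; norm_num, ?_⟩
        have h5 := L.side.cof L.q2
        rcases h5 with ⟨h6, -, -⟩ | ⟨-, -, h6 | ⟨h6, h6'⟩⟩
        · omega
        · omega
        · omega
    subst hA hkk
    obtain ⟨h2, h3, h4⟩ := key (by norm_num)
    have h5 := (chk_all h2 h3 hv.two_le hN).2.1 h4
    rcases h5 with h5 | h5 | h5
    · omega
    · rw [h5] at hv; revert hv; norm_num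
    · rw [h5] at hv; revert hv; norm_num
  · have hp := hself (by norm_num : Nat.Prime 11) rfl
    obtain ⟨hA, hkk⟩ : A = 665 ∧ k = 133 := by
      rcases L.side with ⟨h2, h3, h4, -, -⟩ | ⟨h2, -, -, -, -⟩
      · refine ⟨by rw [h4]; norm_num, ?_⟩
        have h5 := L.side.cof L.q2
        rcases h5 with ⟨-, h6 | ⟨h6, h6'⟩, -⟩ | ⟨h6, -, -⟩
        · omega
        · omega
        · omega
      · omega
    subst hA hkk
    obtain ⟨h2, h3, h4⟩ := key (by norm_num)
    have := (chk_all h2 h3 hv.two_le hN).2.2.1 h4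
    omega
  · have hp := hself (by norm_num : Nat.Prime 13) rfl
    obtain ⟨hA, hkk⟩ : A = 1099 ∧ k = 157 := by
      rcases L.side with ⟨h2, -⟩ | ⟨h2, h3, h4, -, -⟩
      · omega
      · refine ⟨by rw [h4]; norm_num, ?_⟩
        have h5 := L.side.cof L.q2
        rcases h5 with ⟨h6, -, -⟩ | ⟨-, -, h6 | ⟨h6, h6'⟩⟩
        · omega
        · omega
        · omega
    subst hA hkk
    obtain ⟨h2, h3, h4⟩ := key (by norm_num)
    have := (chk_all h2 h3 hv.two_le hN).2.2.2 h4
    omega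
  · exact h15 rfl

end Cfsg.Agent.R2.Spec.X4.H10
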