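import Cfsg.Agent.R2.Spec.X4.H10.Kill

/-!
# X4: the numbers of `L`, over the integers (helper10)
-/

set_option autoImplicit false
set_option linter.unusedSectionVars false
set_option linter.unusedVariables false

namespace Cfsg.Agent.R2.Spec.X4.H10

open Cfsg.Agent.H376.Six

variable {p q k A k' B : ℕ} {W : ℕ → Prop}

/-- the numbers of `L` -/
structure NS (q k A k' B : ℕ) (d : ℤ) : Prop where
  hd : d = 1 ∨ d = -1
  hqd : (q : ℤ) % 4 = d % 4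
  hA : 2 * (A : ℤ) = (q : ℤ) ^ 3 + d
  hB : 2 * (B : ℤ) = (q : ℤ) ^ 3 - d
  hk3 : (q : ℤ) ^ 2 - q + 1 ≤ 3 * k
  hk3' : (q : ℤ) ^ 2 - q + 1 ≤ 3 * k'
  hful : (q : ℤ) ^ 2 - q + 1 ≤ k ∨ (q : ℤ) ^ 2 - q + 1 ≤ k'
  hk' : (k' : ℤ) ≤ (q : ℤ) ^ 2 + q + 1
  hz : 2 * (((q ^ 2 + 1) / 2 : ℕ) : ℤ) = (q : ℤ) ^ 2 + 1
  hkA : (k : ℤ) ∣ (A : ℤ)
  hkB : (k' : ℤ) ∣ (B : ℤ)
  A2 : (A : ℤ) % 2 = 1
  B2 : (B : ℤ) % 2 = 0
  k2 : (k : ℤ) % 2 = 1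
  k2' : (k' : ℤ) % 2 = 1
  z2 : (((q ^ 2 + 1) / 2 : ℕ) : ℤ) % 2 = 1

theorem odd_of_primes {N : ℕ} (hN : ∀ r : ℕ, r.Prime → r ∣ N → r ≠ 2) (h1 : N ≠ 0) : N % 2 = 1 := by
  by_contra hcon
  exact hN 2 Nat.prime_two (by omega) rfl

theorem LW.ns (L : LW p q k A k' B W) : ∃ d : ℤ, NS q k A k' B d := by
  have hq2 := L.q2
  have h1 := L.side.two_mul
  have h2 := L.side.k_ge hq2
  have h3 := L.side.k_le hq2
  have h4 := L.side.z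
  have h5 := L.side.kA hq2
  have h6 := L.side.kB hq2
  have h7 := L.side.cof hq2
  have h8 := L.side.A_odd
  have h9 := L.side.B_even
  have h10 := L.k_pos
  have hqq : q ≤ q ^ 2 := Nat.le_self_pow two_ne_zero q
  have k2 : k % 2 = 1 := odd_of_primes (fun r hr hd => by
    have := L.side.prime hq2 hr (Or.inl hd); omega) (by omega)
  have k2' : k' % 2 = 1 := odd_of_primes (fun r hr hd => by
    have := L.side.prime hq2 hr (Or.inr hd); omega) (by omega)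
  have e1 : ((q ^ 2 - q + 1 : ℕ) : ℤ) = (q : ℤ) ^ 2 - q + 1 := by
    push_cast [Nat.cast_sub hqq]; ring
  have e2 : ((q ^ 2 + q + 1 : ℕ) : ℤ) = (q : ℤ) ^ 2 + q + 1 := by push_cast; ring
  have e3 : ((q ^ 3 : ℕ) : ℤ) = (q : ℤ) ^ 3 := by push_cast; ring
  have e4 : ((q ^ 2 + 1 : ℕ) : ℤ) = (q : ℤ) ^ 2 + 1 := by push_cast; ring
  have e5 : ((2 * ((q ^ 2 + 1) / 2) : ℕ) : ℤ) = (q : ℤ) ^ 2 + 1 := by rw [h4.1, e4]
  have base : ∀ d : ℤ, (d = 1 ∧ q % 4 = 1 ∧ 2 * A = q ^ 3 + 1 ∧ 2 * B + 1 = q ^ 3 ∨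
      d = -1 ∧ q % 4 = 3 ∧ 2 * A + 1 = q ^ 3 ∧ 2 * B = q ^ 3 + 1) → NS q k A k' B d := by
    intro d hd
    refine ⟨?_, ?_, ?_, ?_, ?_, ?_, ?_, ?_, ?_, ?_, ?_, ?_, ?_, ?_, ?_, ?_⟩
    · rcases hd with ⟨h, -⟩ | ⟨h, -⟩
      · exact Or.inl h
      · exact Or.inr h
    · rcases hd with ⟨h, h', -⟩ | ⟨h, h', -⟩
      · rw [h]; omega
      · rw [h]; omega
    · rw [← e3]; rcases hd with ⟨h, h', h'', -⟩ | ⟨h, h', h'', -⟩ <;> omega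
    · rw [← e3]; rcases hd with ⟨h, h', h'', h'''⟩ | ⟨h, h', h'', h'''⟩ <;> omega
    · rw [← e1]; exact_mod_cast h2.1
    · rw [← e1]; exact_mod_cast h2.2
    · rw [← e1]
      rcases h7 with ⟨-, a, b⟩ | ⟨-, a, b⟩ <;> omega
    · rw [← e2]; exact_mod_cast h3.2
    · push_cast at e5 ⊢; exact e5
    · exact_mod_cast h5
    · exact_mod_cast h6
    · omega
    · omega
    · omega
    · omega
    · have := h4.2; omega
  rcases h1 with ⟨a, b, c, -⟩ | ⟨a, b, c, -⟩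
  · exact ⟨-1, base _ (Or.inr ⟨rfl, a, b, c⟩)⟩
  · exact ⟨1, base _ (Or.inl ⟨rfl, a, b, c⟩)⟩

/-- the field orders -/
theorem LW.ne_cube (L : LW p q k A k' B W) {v f s : ℕ} (hv : v.Prime) (hvp : v ≠ p) (hf : f ≠ 0) (hs : 1 ≤ s) :
    ((v ^ f : ℕ) : ℤ) ^ s ≠ (q : ℤ) ^ 3 := by
  intro he
  have h1 : (v ^ f) ^ s = q ^ 3 := by exact_mod_cast he
  have h2 : v ∣ q ^ 3 := by
    rw [← h1]
    exact (dvd_pow_self v hf).trans (dvd_pow_self _ (by omega))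
  obtain ⟨e, he⟩ := L.qp
  rw [he] at h2
  exact hvp ((Nat.prime_dvd_prime_iff_eq hv L.pp).1 (hv.dvd_of_dvd_pow (hv.dvd_of_dvd_pow h2)))

theorem LW.cop (L : LW p q k A k' B W) {v f : ℕ} (hv : v.Prime) (hvp : v ≠ p) :
    IsCoprime ((v ^ f : ℕ) : ℤ) (q : ℤ) := by
  rw [Nat.isCoprime_iff_coprime]
  obtain ⟨e, he⟩ := L.qp
  rw [he]
  exact Nat.Coprime.pow _ _ ((Nat.coprime_primes hv L.pp).2 hvp)

theorem LW.seven (L : LW p q k A k' B W) (h : (7 : ℤ) ∣ (q : ℤ)) : (q : ℤ) % 8 = 7 ∨ (q : ℤ) % 8 = 1 := by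
  have h1 : 7 ∣ q := by exact_mod_cast h
  obtain ⟨e, he⟩ := L.qp
  have h2 : 7 ∣ p := (by norm_num : Nat.Prime 7).dvd_of_dvd_pow (he ▸ h1)
  have h3 := (Nat.prime_dvd_prime_iff_eq (by norm_num : Nat.Prime 7) L.pp).1 h2
  subst h3
  have h4 : ∀ e : ℕ, 7 ^ e % 8 = 7 ∨ 7 ^ e % 8 = 1 := by
    intro e
    induction e with
    | zero => right; rfl
    | succ e ih => rw [pow_succ, Nat.mul_mod]; omega
  have := h4 e
  rw [← he] at this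
  omega

/-- an even field order is a power of two -/
theorem even_field {v f : ℕ} (hv : v.Prime) (hf : f ≠ 0) (h : ((v ^ f : ℕ) : ℤ) % 2 = 0) :
    ((v ^ f : ℕ) : ℤ) = 2 ∨ ((v ^ f : ℕ) : ℤ) = 4 ∨ ((v ^ f : ℕ) : ℤ) = 8 ∨ 16 ≤ ((v ^ f : ℕ) : ℤ) := by
  have h1 : 2 ∣ v ^ f := by omega
  have h2 := (Nat.prime_dvd_prime_iff_eq Nat.prime_two hv).1 (Nat.prime_two.dvd_of_dvd_pow h1)
  subst h2
  rcases (by omega : f = 1 ∨ f = 2 ∨ f = 3 ∨ 4 ≤ f) with rfl | rfl | rfl | h3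
  · left; norm_num
  · right; left; norm_num
  · right; right; left; norm_num
  · right; right; right
    have : 2 ^ 4 ≤ 2 ^ f := Nat.pow_le_pow_right (by norm_num) h3
    exact_mod_cast this

end Cfsg.Agent.R2.Spec.X4.H10
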