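import Cfsg.Agent.R2.Spec.X4.H10.L2Num
import Cfsg.Agent.R2.Spec.X4.H10.Nums
import Cfsg.Agent.R2.Spec.X4.H10.Num2
import Cfsg.Agent.H363.PSL2Spec

/-!
# X4: `S = L₂(u)` is impossible, `(u, q) = 1` (helper10)

* `row_l2` : no hypothesis `Good`, `u` even or odd.
-/

set_option autoImplicit false
set_option linter.unusedSectionVars false
set_option linter.unusedVariables false

namespace Cfsg.Agent.R2.Spec.X4.H10

open Subgroup Cfsg
open Cfsg.Agent.H426.LieFam Cfsg.Agent.R2.Spec Cfsg.Agent.R2.Spec.P1 Cfsg.Agent.R2.Spec.F1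

universe u

variable {p q k A k' B m i : ℕ} {W : ℕ → Prop} {S : Type u} [Group S] {v f : ℕ}

/-- a torus of `L₂(u)` -/
structure Tor (S : Type u) [Group S] (u g : ℕ) (e : ℤ) (T : ℕ) : Prop where
  eq : (g : ℤ) * (T : ℤ) = (u : ℤ) + e
  ex : ∃ x : S, orderOf x = T

/-- the element orders of `L₂(u)` -/
structure L2F (S : Type u) [Group S] (v u g : ℕ) : Prop where
  hg : (g = 1 ∧ u % 2 = 0) ∨ (g = 2 ∧ u % 2 = 1)
  cas : ∀ x : S, (∃ (e : ℤ) (T : ℕ), (e = 1 ∨ e = -1) ∧ Tor S u g e T ∧ orderOf x ∣ T) ∨ orderOf x ∣ v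

theorem l2f (hv : v.Prime) (hI : Fam.Is v f S (.psl 2)) : L2F S v (v ^ f) (Nat.gcd 2 (v ^ f - 1)) := by
  obtain ⟨hn, h4, F, _, _, hch, hF, ⟨e⟩⟩ := hI
  have := Fact.mk hv
  have h4' := h4 rfl
  set u := v ^ f with hu
  have hgc : (Nat.gcd 2 (u - 1) = 1 ∧ u % 2 = 0) ∨ (Nat.gcd 2 (u - 1) = 2 ∧ u % 2 = 1) := by
    rcases (Nat.dvd_prime Nat.prime_two).1 (Nat.gcd_dvd_left 2 (u - 1)) with h | h
    · left
      refine ⟨h, ?_⟩
      by_contra hcon
      have : 2 ∣ Nat.gcd 2 (u - 1) := Nat.dvd_gcd dvd_rfl (by omega)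
      rw [h] at this
      omega
    · right
      refine ⟨h, ?_⟩
      have : 2 ∣ u - 1 := by rw [← h]; exact Nat.gcd_dvd_right 2 (u - 1)
      omega
  have hT1 : Tor S u (Nat.gcd 2 (u - 1)) 1 ((u + 1) / Nat.gcd 2 (u - 1)) := by
    refine ⟨?_, ?_⟩
    · rcases hgc with ⟨h1, h2⟩ | ⟨h1, h2⟩ <;> rw [h1] <;> omega
    · obtain ⟨g, hg⟩ := Cfsg.Agent.H363.PSL2Spec.exists_nonsplit hF
      exact ⟨e.symm g, by rw [MulEquiv.orderOf_eq]; exact hg⟩
  have hT2 : Tor S u (Nat.gcd 2 (u - 1)) (-1) ((u - 1) / Nat.gcd 2 (u - 1)) := by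
    refine ⟨?_, ?_⟩
    · rcases hgc with ⟨h1, h2⟩ | ⟨h1, h2⟩ <;> rw [h1] <;> omega
    · obtain ⟨g, hg⟩ := Cfsg.Agent.H363.PSL2Spec.exists_split hF
      exact ⟨e.symm g, by rw [MulEquiv.orderOf_eq]; exact hg⟩
  refine ⟨hgc, fun x => ?_⟩
  have h1 := Cfsg.Agent.H363.PSL2Spec.orderOf_cases hF v (e x)
  rw [MulEquiv.orderOf_eq] at h1
  rcases h1 with h1 | h1 | h1
  · exact Or.inl ⟨1, _, Or.inl rfl, hT1, h1⟩
  · exact Or.inl ⟨-1, _, Or.inr rfl, hT2, h1⟩
  · exact Or.inr h1

theorem Tor.uniq {u g : ℕ} {e : ℤ} {T T' : ℕ} (h : Tor S u g e T) (h' : Tor S u g e T') (hg : g ≠ 0) : T = T' := by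
  have h1 := h.eq.trans h'.eq.symm
  have h2 : (T : ℤ) = T' := mul_left_cancel₀ (by exact_mod_cast hg) h1
  exact_mod_cast h2

/-- the cofactors of the primitive parts -/
theorem LW.cofz (L : LW p q k A k' B W) : ∃ g g' δ : ℤ, (g = 1 ∨ g = 3) ∧ (g' = 1 ∨ g' = 3) ∧ (g = 1 ∨ g' = 1) ∧
    (δ = 1 ∨ δ = -1) ∧ g * k = (q : ℤ) ^ 2 + δ * q + 1 ∧ g' * k' = (q : ℤ) ^ 2 - δ * q + 1 ∧
    (q < 11 → (q = 7 ∧ (k = 19 ∨ k = 57) ∧ g' = 1 ∧ k' = 43) ∨ (q = 9 ∧ k = 73 ∧ k' = 91)) ∧
    (q = 7 → g = 1 → k = 57) := by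
  have hq2 := L.q2
  have hq7 := L.q7
  have h1 := L.side.cof hq2
  have hodd := L.side.odd_q
  have hqq : q ≤ q ^ 2 := Nat.le_self_pow two_ne_zero q
  have e1 : ((q ^ 2 - q + 1 : ℕ) : ℤ) = (q : ℤ) ^ 2 - q + 1 := by push_cast [Nat.cast_sub hqq]; ring
  have e2 : ((q ^ 2 + q + 1 : ℕ) : ℤ) = (q : ℤ) ^ 2 + q + 1 := by push_cast; ring
  rcases h1 with ⟨h4, ha, hb⟩ | ⟨h4, ha, hb⟩
  · -- `k = ap`, `k' = am`
    rcases ha with ha | ⟨ha, ha3⟩ <;> rcases hb with hb | ⟨hb, hb3⟩
    · refine ⟨1, 1, 1, by norm_num, by norm_num, by norm_num, by norm_num, ?_, ?_, ?_, ?_⟩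
      · rw [ha, e2]; ring
      · rw [hb, e1]; ring
      · intro hq
        have : q = 7 ∨ q = 9 := by omega
        rcases this with rfl | rfl
        · left; norm_num at ha hb ⊢; omega
        · omega
      · intro hq _; subst hq; omega
    · refine ⟨1, 3, 1, by norm_num, by norm_num, by norm_num, by norm_num, ?_, ?_, ?_, ?_⟩
      · rw [ha, e2]; ring
      · have := congrArg (Nat.cast : ℕ → ℤ) hb
        rw [e1] at this
        push_cast at this
        rw [this]; ring
      · intro hq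
        have : q = 7 ∨ q = 9 := by omega
        rcases this with rfl | rfl <;> omega
      · intro hq _; subst hq; omega
    · refine ⟨3, 1, 1, by norm_num, by norm_num, by norm_num, by norm_num, ?_, ?_, ?_, ?_⟩
      · have := congrArg (Nat.cast : ℕ → ℤ) ha
        rw [e2] at this
        push_cast at this
        rw [this]; ring
      · rw [hb, e1]; ring
      · intro hq
        have : q = 7 ∨ q = 9 := by omega
        rcases this with rfl | rfl
        · left; norm_num at ha hb ⊢; omega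
        · omega
      · intro hq h; norm_num at h
    · omega
  · -- `k = am`, `k' = ap`
    rcases ha with ha | ⟨ha, ha3⟩ <;> rcases hb with hb | ⟨hb, hb3⟩
    · refine ⟨1, 1, -1, by norm_num, by norm_num, by norm_num, by norm_num, ?_, ?_, ?_, ?_⟩
      · rw [hb, e1]; ring
      · rw [ha, e2]; ring
      · intro hq
        have : q = 7 ∨ q = 9 := by omega
        rcases this with rfl | rfl
        · omega
        · right; norm_num at ha hb ⊢; omega
      · intro hq _; subst hq; omega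
    · refine ⟨3, 1, -1, by norm_num, by norm_num, by norm_num, by norm_num, ?_, ?_, ?_, ?_⟩
      · have := congrArg (Nat.cast : ℕ → ℤ) hb
        rw [e1] at this
        push_cast at this
        rw [this]; ring
      · rw [ha, e2]; ring
      · intro hq
        have : q = 7 ∨ q = 9 := by omega
        rcases this with rfl | rfl <;> omega
      · intro hq h; norm_num at h
    · refine ⟨1, 3, -1, by norm_num, by norm_num, by norm_num, by norm_num, ?_, ?_, ?_, ?_⟩
      · rw [hb, e1]; ring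
      · have := congrArg (Nat.cast : ℕ → ℤ) ha
        rw [e2] at this
        push_cast at this
        rw [this]; ring
      · intro hq
        have : q = 7 ∨ q = 9 := by omega
        rcases this with rfl | rfl <;> omega
      · intro hq _; subst hq; omega
    · omega

/-- `p z` and one of `k`, `k'` in `ω(S)` -/
theorem zstate (L : LW p q k A k' B W) {g : ℕ} (F : L2F S v (v ^ f) g) (hv : v.Prime) (hvp : v ≠ p) (hf : f ≠ 0)
    (WS : ∀ x : S, W (orderOf x)) (hpz : ∃ x : S, orderOf x = p * ((q ^ 2 + 1) / 2)) {κ X : ℕ} {d' δ g' : ℤ}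
    (hX : 2 * (X : ℤ) = (q : ℤ) ^ 3 + d') (hX0 : 0 < X) (hd' : d' = 1 ∨ d' = -1) (hκ : ∃ x : S, orderOf x = κ)
    (hk : ∀ r : ℕ, r.Prime → r ∣ κ → (r ∣ k ∨ r ∣ k') ∧ ∀ n : ℕ, W n → r ∣ n → n ∣ X) (κ1 : 1 < κ)
    (hg' : g' = 1 ∨ g' = 3) (hδ : δ = 1 ∨ δ = -1) (hgκ : g' * κ = (q : ℤ) ^ 2 + δ * q + 1) : False := by
  obtain ⟨r, hr, hrκ⟩ := Nat.exists_prime_and_dvd κ1.ne'
  have hzz := L.side.z
  have hq7 := L.q7
  have hq2 : 7 * 7 ≤ q ^ 2 := by rw [sq]; exact Nat.mul_le_mul hq7 hq7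
  obtain ⟨t, ht, htz⟩ := Nat.exists_prime_and_dvd (show (q ^ 2 + 1) / 2 ≠ 1 by omega)
  have hr7 := L.side.prime L.q2 hr (hk r hr hrκ).1
  have hg0 : g ≠ 0 := by rcases F.hg with ⟨h, -⟩ | ⟨h, -⟩ <;> omega
  obtain ⟨x, hx⟩ := hpz
  have hzc : (((q ^ 2 + 1) / 2 : ℕ) : ℤ) * 2 = (q : ℤ) ^ 2 + 1 := by
    have := congrArg (Nat.cast : ℕ → ℤ) hzz.1
    push_cast at this ⊢
    linarith
  set z := (q ^ 2 + 1) / 2 with hz
  rcases F.cas x with ⟨e, T, he, hT, hxT⟩ | hxv
  · rw [hx] at hxT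
    obtain ⟨xT, hxT'⟩ := hT.ex
    have hWT : W T := hxT' ▸ WS xT
    have h1 : T ∣ p * (q ^ 2 + 1) :=
      L.upz t ht htz T hWT ((htz.mul_left p).trans hxT) ((dvd_mul_right p z).trans hxT)
    obtain ⟨c, hc⟩ := hxT
    have hpz0 : 0 < p * z := Nat.mul_pos (by have := L.p3; omega) (by omega)
    have h2 : c ∣ 2 := by
      have h3 : p * z * c ∣ p * z * 2 := by
        rw [← hc, mul_assoc p z 2, mul_comm z 2, hzz.1]; exact h1
      exact Nat.dvd_of_mul_dvd_mul_left hpz0 h3
    have hcc : c = 1 ∨ c = 2 := (Nat.dvd_prime Nat.prime_two).1 h2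
    have hTz : 2 * (T : ℤ) = c * (p * ((q : ℤ) ^ 2 + 1)) := by
      rw [hc]; push_cast; rw [← hzc]; ring
    obtain ⟨y, hy⟩ := hκ
    rcases F.cas y with ⟨e', T', he', hT', hyT⟩ | hyv
    · rw [hy] at hyT
      have hWT' : W T' := by
        obtain ⟨w, hw⟩ := hT'.ex
        exact hw ▸ WS w
      have hee : e' = -e := by
        by_contra hne
        have h3 : e' = e := by
          rcases he with rfl | rfl <;> rcases he' with rfl | rfl
          · rfl
          · exact absurd rfl hne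
          · exact absurd (by norm_num) hne
          · rfl
        subst h3
        have h4 := hT.uniq hT' hg0
        subst h4
        exact L.naz hr (hk r hr hrκ).1 L.pp (Or.inr rfl) hWT (hrκ.trans hyT) ((dvd_mul_right p z).trans (Dvd.intro c hc.symm))
      obtain ⟨h', hh'⟩ := (hk r hr hrκ).2 T' hWT' (hrκ.trans hyT)
      have hh0 : 0 < h' := by
        rcases Nat.eq_zero_or_pos h' with h0 | h0
        · rw [h0, mul_zero] at hh'; omega
        · exact h0
      have hXh : (X : ℤ) = (T' : ℤ) * (h' : ℤ) := by rw [hh']; push_cast; rfl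
      have e1 := hT.eq
      have e2 := hT'.eq
      rw [hee] at e2
      have hq7z : (7 : ℤ) ≤ q := by exact_mod_cast hq7
      have hp3z : (3 : ℤ) ≤ p := by exact_mod_cast L.p3
      rcases F.hg with ⟨hg1, hg2⟩ | ⟨hg1, hg2⟩
      · subst hg1
        rw [Nat.cast_one, one_mul] at e1 e2
        have hc1 : c = 1 := by
          rcases hcc with h | h
          · exact h
          · exfalso
            have h5 : (T : ℤ) % 2 = 0 := by rw [hc, h]; push_cast; omega
            have h6 : ((v ^ f : ℕ) : ℤ) % 2 = 0 := by exact_mod_cast hg2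
            rcases he with rfl | rfl <;> omega
        subst hc1
        refine pKill (H := h') (b := 4) (e := e) hq7z hp3z hd' he (by norm_num) (by omega) ?_
        have e3 : 2 * (T' : ℤ) = p * ((q : ℤ) ^ 2 + 1) - 4 * e := by
          push_cast at hTz
          linear_combination 2 * e2 - 2 * e1 + hTz
        rw [← e3, ← hX, hXh]
        ring
      · subst hg1
        rcases hcc with h | h
        · subst h
          refine pKill (H := h') (b := 2) (e := e) hq7z hp3z hd' he (by norm_num) (by omega) ?_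
          have e3 : 2 * (T' : ℤ) = p * ((q : ℤ) ^ 2 + 1) - 2 * e := by
            push_cast at hTz e1 e2
            linear_combination e2 - e1 + hTz
          rw [← e3, ← hX, hXh]
          ring
        · subst h
          refine pKill (H := 2 * h') (b := 1) (e := e) hq7z hp3z hd' he (by norm_num) (by omega) ?_
          have e3 : 2 * (T' : ℤ) = 2 * (p * ((q : ℤ) ^ 2 + 1) - 1 * e) := by
            push_cast at hTz e1 e2
            linear_combination e2 - e1 + hTz
          have e4 : (T' : ℤ) = p * ((q : ℤ) ^ 2 + 1) - 1 * e := by omega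
          rw [← e4, ← hX, hXh]
          ring
    · rw [hy] at hyv
      have hκv : κ = v := ((Nat.dvd_prime hv).1 hyv).resolve_left (by omega)
      subst hκv
      have hrk : r = κ := (Nat.prime_dvd_prime_iff_eq hr hv).1 hrκ
      have hodd : κ ^ f % 2 = 1 := by
        rcases hv.eq_two_or_odd with h | h
        · omega
        · exact Nat.odd_iff.1 ((Nat.odd_iff.2 h).pow)
      rcases F.hg with ⟨hg1, hg2⟩ | ⟨hg1, hg2⟩
      · omega
      · subst hg1
        refine vKill (q := q) (p := p) (κ := κ) (e := e) (c := c) (g := g') (δ := δ) (f := f)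
          (by exact_mod_cast hq7) (by exact_mod_cast L.p3) (by exact_mod_cast L.p_dvd) hg' hδ hgκ he (by omega) (by omega) ?_
        have := hT.eq
        push_cast at this
        linarith
  · rw [hx] at hxv
    have h1 : p ∣ v := (dvd_mul_right p z).trans hxv
    exact hvp ((Nat.prime_dvd_prime_iff_eq L.pp hv).1 h1).symm

end Cfsg.Agent.R2.Spec.X4.H10
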