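import Cfsg.Agent.R2.Spec.X4.H10.L3Ord
import Cfsg.Agent.R2.Spec.X4.H4.Bad
import Cfsg.Agent.S2476
import Cfsg.Agent.S2366
import Cfsg.Agent.H277.ClsPsu
import Cfsg.Agent.H363.PslThree
import Cfsg.Agent.R2.Spec.F1.Low

/-!
# X4, `S = L₃(u)`, `U₃(u)` : the facts about the element orders (helper10)
-/

set_option autoImplicit false
set_option linter.unusedSectionVars false
set_option linter.unusedVariables false

namespace Cfsg.Agent.R2.Spec.X4.H10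

open Subgroup Cfsg
open Cfsg.Agent.H426.LieFam Cfsg.Agent.R2.Spec Cfsg.Agent.R2.Spec.P1 Cfsg.Agent.R2.Spec.F1

universe u

/-- the facts about `L₃(u)`, `U₃(u)`; `U = u`, `-u` -/
structure T3F (S : Type u) [Group S] (v u : ℕ) (U : ℤ) (c T1 T2 : ℕ) : Prop where
  hU : U = u ∨ U = -u
  hU2 : U ≠ -2
  hc : c = 1 ∨ c = 3
  e1 : (c : ℤ) * T1 = U ^ 2 + U + 1
  e2 : (c : ℤ) * T2 = U ^ 2 - 1
  cas : ∀ x : S, orderOf x ∣ T1 ∨ orderOf x ∣ T2 ∨ orderOf x ∣ v ^ 2 * (U - 1).natAbs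
  ex1 : ∃ x : S, orderOf x = T1
  ex2 : ∃ x : S, orderOf x = T2
  unip : v ≠ 2 → ¬ ∃ x : S, orderOf x = v ^ 2
  adjv : ∀ w : ℕ, w.Prime → 5 ≤ w → w ≠ v → w ∣ (U - 1).natAbs → ∃ x : S, orderOf x = w * v
  adj2 : v ≠ 2 → ∃ x : S, orderOf x = 2 * v
  cardv : v ^ 2 ∣ Nat.card S
  cardu : U = -u → ∀ w a : ℕ, w.Prime → 5 ≤ w → w ^ a ∣ u + 1 → w ^ (2 * a) ∣ Nat.card S

theorem gcd3_cases (m : ℕ) : Nat.gcd 3 m = 1 ∨ Nat.gcd 3 m = 3 :=
  (Nat.dvd_prime Nat.prime_three).1 (Nat.gcd_dvd_left 3 m)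

theorem t3f_psl {v f : ℕ} {S : Type u} [Group S] (hv : v.Prime) (hI : Fam.Is v f S (.psl 3)) :
    T3F S v (v ^ f) ((v ^ f : ℕ) : ℤ) (Nat.gcd 3 (v ^ f - 1)) (((v ^ f) ^ 2 + v ^ f + 1) / Nat.gcd 3 (v ^ f - 1))
      (((v ^ f) ^ 2 - 1) / Nat.gcd 3 (v ^ f - 1)) := by
  have hf : f ≠ 0 := H4.is_f_ne (t := .psl 3) trivial hI
  obtain ⟨-, -, F, _, _, hch, hF, ⟨e⟩⟩ := hI
  have := Fact.mk hv
  have hspec := S2476.result (F := F) v
  rw [hF] at hspec
  have hu2 : 2 ≤ v ^ f := hv.two_le.trans (Nat.le_self_pow hf v)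
  have hvu : v ∣ v ^ f := dvd_pow_self v hf
  set q := v ^ f with hq
  set d := Nat.gcd 3 (q - 1) with hd
  have hd3 : d ∣ 3 := Nat.gcd_dvd_left _ _
  have hdq : d ∣ q - 1 := Nat.gcd_dvd_right _ _
  have hd13 := gcd3_cases (q - 1)
  rw [← hd] at hd13
  have hq21 : q ^ 2 - 1 = (q - 1) * (q + 1) := by
    obtain ⟨k, hk⟩ : ∃ k, q = k + 1 := ⟨q - 1, by omega⟩
    rw [hk, Nat.add_sub_cancel, show (k + 1) ^ 2 = k * (k + 1 + 1) + 1 by ring, Nat.add_sub_cancel]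
  have hd1 : d ∣ q ^ 2 + q + 1 := by
    obtain ⟨k, hk⟩ : ∃ k, q = k + 1 := ⟨q - 1, by omega⟩
    rw [hk, Nat.add_sub_cancel] at hdq
    rw [hk, show (k + 1) ^ 2 + (k + 1) + 1 = k * (k + 3) + 3 by ring]
    exact dvd_add (hdq.mul_right _) hd3
  have hd2 : d ∣ q ^ 2 - 1 := by rw [hq21]; exact hdq.mul_right _
  have mem : ∀ m : ℕ, (∃ x : S, orderOf x = m) ↔
      (m ∣ (q ^ 2 + q + 1) / d ∨ m ∣ (q ^ 2 - 1) / d ∨ m ∣ q - 1 ∨ m ∣ v * (q - 1) / d ∨ (v = 2 ∧ m ∣ 4)) := fun m => by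
    have h1 := Set.ext_iff.1 hspec m
    constructor
    · rintro ⟨x, hx⟩
      exact h1.1 ⟨e x, by rw [MulEquiv.orderOf_eq, hx]⟩
    · intro h2
      obtain ⟨y, hy⟩ := h1.2 h2
      exact ⟨e.symm y, by rw [MulEquiv.orderOf_eq, hy]⟩
  have hN : ((q : ℤ) - 1).natAbs = q - 1 := by
    rw [show ((q : ℤ) - 1) = ((q - 1 : ℕ) : ℤ) by rw [Nat.cast_sub (by omega)]; rfl, Int.natAbs_natCast]
  have hdpos : 0 < d := by omega
  have hvq : ¬ v ∣ q - 1 := by
    intro h1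
    have h2 : v ∣ 1 := by
      have h3 := Nat.dvd_sub hvu h1
      rwa [show q - (q - 1) = 1 by omega] at h3
    exact hv.one_lt.ne' (Nat.dvd_one.1 h2)
  have hpd : v * (q - 1) / d = v * ((q - 1) / d) := Nat.mul_div_assoc _ hdq
  refine ⟨Or.inl rfl, by omega, hd13, ?_, ?_, ?_, ?_, ?_, ?_, ?_, ?_, ?_, ?_⟩
  · have h1 := Nat.mul_div_cancel' hd1
    exact_mod_cast h1
  · have h1 := Nat.mul_div_cancel' hd2
    have h2 : ((q ^ 2 - 1 : ℕ) : ℤ) = (q : ℤ) ^ 2 - 1 := by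
      rw [Nat.cast_sub (Nat.one_le_pow _ _ (by omega))]; push_cast; rfl
    rw [← h2]
    exact_mod_cast h1
  · intro x
    rw [hN]
    rcases (mem (orderOf x)).1 ⟨x, rfl⟩ with h | h | h | h | h
    · exact Or.inl h
    · exact Or.inr (Or.inl h)
    · exact Or.inr (Or.inr (h.mul_left _))
    · right; right
      rw [hpd] at h
      exact h.trans (mul_dvd_mul (dvd_pow_self v (by norm_num)) (Nat.div_dvd_of_dvd hdq))
    · right; right
      rw [h.1]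
      exact (h.2.trans (by norm_num)).mul_right _
  · exact (mem _).2 (Or.inl dvd_rfl)
  · exact (mem _).2 (Or.inr (Or.inl dvd_rfl))
  · intro hv2 hx
    have hvv : v ∣ v ^ 2 := dvd_pow_self v (by norm_num)
    have hv3 : v ≠ 3 → ¬ v ∣ 3 := fun h h' => h ((Nat.prime_dvd_prime_iff_eq hv Nat.prime_three).1 h')
    have hno : ¬ v ∣ q ^ 2 + q + 1 := by
      intro h1
      have h2 : v ∣ 1 := (Nat.dvd_add_right (dvd_add (hvu.trans (dvd_pow_self q (by norm_num))) hvu)).1 h1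
      exact hv.one_lt.ne' (Nat.dvd_one.1 h2)
    have hno2 : ¬ v ∣ q ^ 2 - 1 := by
      intro h1
      have h3 : v ∣ q ^ 2 := hvu.trans (dvd_pow_self q (by norm_num))
      have h4 := Nat.dvd_sub h3 h1
      have h5 : 1 ≤ q ^ 2 := Nat.one_le_pow _ _ (by omega)
      rw [show q ^ 2 - (q ^ 2 - 1) = 1 by omega] at h4
      exact hv.one_lt.ne' (Nat.dvd_one.1 h4)
    rcases (mem _).1 hx with h | h | h | h | h
    · exact hno ((hvv.trans h).trans (Nat.div_dvd_of_dvd hd1))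
    · exact hno2 ((hvv.trans h).trans (Nat.div_dvd_of_dvd hd2))
    · exact hvq (hvv.trans h)
    · rw [hpd, sq] at h
      exact hvq ((Nat.dvd_of_mul_dvd_mul_left hv.pos h).trans (Nat.div_dvd_of_dvd hdq))
    · exact hv2 h.1
  · intro w hw hw5 hwv hwq
    rw [hN] at hwq
    refine (mem _).2 (Or.inr (Or.inr (Or.inr (Or.inl ?_))))
    rw [hpd, mul_comm]
    refine Nat.mul_dvd_mul_left v ?_
    have h1 : w ∣ d * ((q - 1) / d) := by rw [Nat.mul_div_cancel' hdq]; exact hwq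
    rcases hw.dvd_mul.1 h1 with h2 | h2
    · have := Nat.le_of_dvd hdpos h2
      omega
    · exact h2
  · intro hv2
    refine (mem _).2 (Or.inr (Or.inr (Or.inr (Or.inl ?_))))
    rw [hpd, mul_comm]
    refine Nat.mul_dvd_mul_left v ?_
    have hodd : q % 2 = 1 := Nat.odd_iff.1 ((hv.odd_of_ne_two hv2).pow)
    have h1 : 2 ∣ d * ((q - 1) / d) := by rw [Nat.mul_div_cancel' hdq]; omega
    rcases Nat.prime_two.dvd_mul.1 h1 with h2 | h2
    · omega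
    · exact h2
  · have h1 := Cfsg.Agent.H363.PslThree.card_psl_three (F := F)
    rw [hF, ← Nat.card_congr e.toEquiv, ← hd] at h1
    have h2 : v ^ 3 ∣ d * Nat.card S := by
      rw [h1]; exact (pow_dvd_pow_of_dvd hvu 3).mul_right _
    have h3 : Nat.Coprime (v ^ 3) d := by
      apply Nat.Coprime.pow_left
      rw [hv.coprime_iff_not_dvd]
      intro h4
      exact hvq (h4.trans hdq)
    exact (pow_dvd_pow v (by norm_num)).trans (h3.dvd_of_dvd_mul_left h2)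
  · intro h1
    omega

theorem t3f_psu {v f : ℕ} {S : Type u} [Group S] (hv : v.Prime) (hI : Fam.Is v f S (.psu 3)) :
    T3F S v (v ^ f) (-((v ^ f : ℕ) : ℤ)) (Nat.gcd 3 (v ^ f + 1)) (((v ^ f) ^ 2 - v ^ f + 1) / Nat.gcd 3 (v ^ f + 1))
      (((v ^ f) ^ 2 - 1) / Nat.gcd 3 (v ^ f + 1)) := by
  have hf : f ≠ 0 := H4.is_f_ne (t := .psu 3) trivial hI
  obtain ⟨-, hne2, F, _, _, hch, hF, ⟨e⟩⟩ := hI
  have := Fact.mk hv
  have hup := fun g => order_dvd_sq (F := F) v (v ^ f) hF g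
  have hex1 := Cfsg.Agent.H127.PSUThreeEx.ex_one hF
  have hex2 := Cfsg.Agent.H127.PSUThreeEx.ex_two v hF
  have hex3 := Cfsg.Agent.H127.PSUThreeEx.ex_three hF
  have hex4 := Cfsg.Agent.H127.PSUThreeEx.ex_four v hF
  have hspec := fun hp => S2366.result (F := F) v hp (v ^ f) hF
  have hu2 : 2 ≤ v ^ f := hv.two_le.trans (Nat.le_self_pow hf v)
  have hvu : v ∣ v ^ f := dvd_pow_self v hf
  have hcardF := Cfsg.Agent.H277.ClsPsu.card_psu hF (n := 3) le_rfl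
  rw [← Nat.card_congr e.toEquiv] at hcardF
  set q := v ^ f with hq
  set d := Nat.gcd 3 (q + 1) with hd
  have hd3 : d ∣ 3 := Nat.gcd_dvd_left _ _
  have hdq : d ∣ q + 1 := Nat.gcd_dvd_right _ _
  have hd13 := gcd3_cases (q + 1)
  rw [← hd] at hd13
  have hq21 : q ^ 2 - 1 = (q + 1) * (q - 1) := by
    obtain ⟨k, hk⟩ : ∃ k, q = k + 1 := ⟨q - 1, by omega⟩
    rw [hk, Nat.add_sub_cancel, show (k + 1) ^ 2 = (k + 1 + 1) * k + 1 by ring, Nat.add_sub_cancel]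
  have hd1 : d ∣ q ^ 2 - q + 1 := by
    obtain ⟨k, hk⟩ : ∃ k, q = k + 2 := ⟨q - 2, by omega⟩
    rw [hk] at hdq
    have h1 : q ^ 2 - q + 1 = (k + 2 + 1) * k + 3 := by
      rw [hk, show (k + 2) ^ 2 = (k + 2) + ((k + 2 + 1) * k + 2) by ring, Nat.add_sub_cancel_left]
    rw [h1]
    exact dvd_add (hdq.mul_right _) hd3
  have hd2 : d ∣ q ^ 2 - 1 := by rw [hq21]; exact hdq.mul_right _
  have exS : ∀ {m : ℕ}, (∃ z : Cfsg.PSU 3 F q, orderOf z = m) → ∃ x : S, orderOf x = m := by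
    rintro m ⟨z, hz⟩
    exact ⟨e.symm z, by rw [MulEquiv.orderOf_eq, hz]⟩
  have hN : (-(q : ℤ) - 1).natAbs = q + 1 := by
    rw [show (-(q : ℤ) - 1) = -((q + 1 : ℕ) : ℤ) by push_cast; ring, Int.natAbs_neg, Int.natAbs_natCast]
  have hdpos : 0 < d := by omega
  have hvq : ¬ v ∣ q + 1 := by
    intro h1
    have h2 : v ∣ 1 := (Nat.dvd_add_right hvu).1 h1
    exact hv.one_lt.ne' (Nat.dvd_one.1 h2)
  have hpd : v * (q + 1) / d = v * ((q + 1) / d) := Nat.mul_div_assoc _ hdq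
  have hqq : q ≤ q ^ 2 := Nat.le_self_pow two_ne_zero q
  have c1 : ((q ^ 2 - 1 : ℕ) : ℤ) = (q : ℤ) ^ 2 - 1 := by
    rw [Nat.cast_sub (Nat.one_le_pow _ _ (by omega))]; push_cast; rfl
  have c2 : ((q ^ 2 - q + 1 : ℕ) : ℤ) = (q : ℤ) ^ 2 - q + 1 := by
    push_cast [Nat.cast_sub hqq]; ring
  have hno : ¬ v ∣ q ^ 2 - q + 1 := by
    intro h1
    have h2 : v ∣ q ^ 2 - q := Nat.dvd_sub (hvu.trans (dvd_pow_self q (by norm_num))) hvu
    have h3 : v ∣ 1 := (Nat.dvd_add_right h2).1 h1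
    exact hv.one_lt.ne' (Nat.dvd_one.1 h3)
  have hno2 : ¬ v ∣ q ^ 2 - 1 := by
    intro h1
    have h3 : v ∣ q ^ 2 := hvu.trans (dvd_pow_self q (by norm_num))
    have h4 := Nat.dvd_sub h3 h1
    have h5 : 1 ≤ q ^ 2 := Nat.one_le_pow _ _ (by omega)
    rw [show q ^ 2 - (q ^ 2 - 1) = 1 by omega] at h4
    exact hv.one_lt.ne' (Nat.dvd_one.1 h4)
  refine ⟨Or.inr rfl, ?_, hd13, ?_, ?_, ?_, ?_, ?_, ?_, ?_, ?_, ?_, ?_⟩
  · intro h1
    exact hne2 ⟨rfl, by omega⟩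
  · have h1 := Nat.mul_div_cancel' hd1
    have h2 : ((d * ((q ^ 2 - q + 1) / d) : ℕ) : ℤ) = ((q ^ 2 - q + 1 : ℕ) : ℤ) := by rw [h1]
    rw [c2] at h2
    push_cast at h2 ⊢
    linarith [h2]
  · have h1 := Nat.mul_div_cancel' hd2
    have h2 : ((d * ((q ^ 2 - 1) / d) : ℕ) : ℤ) = ((q ^ 2 - 1 : ℕ) : ℤ) := by rw [h1]
    rw [c1] at h2
    rw [neg_sq, ← h2]
    exact (Nat.cast_mul d ((q ^ 2 - 1) / d)).symm
  · intro x
    rw [hN]
    obtain ⟨g, hg⟩ := QuotientGroup.mk_surjective (e x)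
    have h1 := hup g
    have h2 : orderOf (QuotientGroup.mk g : Cfsg.PSU 3 F q) = orderOf x := by
      rw [hg]; exact MulEquiv.orderOf_eq e x
    rw [h2] at h1
    rcases h1 with h | h | h | h
    · exact Or.inr (Or.inr (h.mul_left _))
    · right; right
      rw [mul_comm]
      exact h.trans (mul_dvd_mul (Nat.div_dvd_of_dvd hdq) dvd_rfl)
    · exact Or.inr (Or.inl h)
    · exact Or.inl h
  · exact exS (hex4 _ dvd_rfl)
  · exact exS (hex3 _ dvd_rfl)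
  · rintro hv2 ⟨x, hx⟩
    have hvv : v ∣ v ^ 2 := dvd_pow_self v (by norm_num)
    have h1 := Set.ext_iff.1 (hspec hv2) (v ^ 2)
    have h2 := h1.1 ⟨e x, by rw [MulEquiv.orderOf_eq, hx]⟩
    simp only [Set.mem_union, Set.mem_setOf_eq] at h2
    rcases h2 with ((h | h) | h) | h
    · exact hvq (hvv.trans h)
    · rw [hpd, sq] at h
      exact hvq ((Nat.dvd_of_mul_dvd_mul_left hv.pos h).trans (Nat.div_dvd_of_dvd hdq))
    · exact hno2 ((hvv.trans h).trans (Nat.div_dvd_of_dvd hd2))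
    · exact hno ((hvv.trans h).trans (Nat.div_dvd_of_dvd hd1))
  · intro w hw hw5 hwv hwq
    rw [hN] at hwq
    refine exS (hex2 _ ?_)
    rw [hpd, mul_comm]
    refine Nat.mul_dvd_mul_left v ?_
    have h1 : w ∣ d * ((q + 1) / d) := by rw [Nat.mul_div_cancel' hdq]; exact hwq
    rcases hw.dvd_mul.1 h1 with h2 | h2
    · have := Nat.le_of_dvd hdpos h2
      omega
    · exact h2
  · intro hv2
    refine exS (hex2 _ ?_)
    rw [hpd, mul_comm]
    refine Nat.mul_dvd_mul_left v ?_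
    have hodd : q % 2 = 1 := Nat.odd_iff.1 ((hv.odd_of_ne_two hv2).pow)
    have h1 : 2 ∣ d * ((q + 1) / d) := by rw [Nat.mul_div_cancel' hdq]; omega
    rcases Nat.prime_two.dvd_mul.1 h1 with h2 | h2
    · omega
    · exact h2
  · have h2 : v ^ 3 ∣ d * Nat.card S := by
      rw [hcardF]; exact (pow_dvd_pow_of_dvd hvu 3).mul_right _
    have h3 : Nat.Coprime (v ^ 3) d := by
      apply Nat.Coprime.pow_left
      rw [hv.coprime_iff_not_dvd]
      intro h4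
      exact hvq (h4.trans hdq)
    exact (pow_dvd_pow v (by norm_num)).trans (h3.dvd_of_dvd_mul_left h2)
  · intro _ w a hw hw5 hwa
    have h2 : w ^ (2 * a) ∣ d * Nat.card S := by
      rw [hcardF, Finset.prod_range_succ, Finset.prod_range_succ, Finset.prod_range_zero, if_pos (by decide),
        if_neg (by decide), one_mul]
      refine Dvd.dvd.mul_left ?_ _
      rw [two_mul, pow_add]
      refine mul_dvd_mul (hwa.trans ?_) (hwa.trans ?_)
      · rw [zero_add, hq21]; exact dvd_mul_right _ _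
      · have h4 : q ^ (1 + 2) + 1 = (q + 1) * (q ^ 2 - q + 1) := by
          zify [hqq]
          ring
        rw [h4]; exact dvd_mul_right _ _
    have h3 : Nat.Coprime (w ^ (2 * a)) d := by
      apply Nat.Coprime.pow_left
      rw [hw.coprime_iff_not_dvd]
      intro h4
      have := Nat.le_of_dvd hdpos h4
      omega
    exact h3.dvd_of_dvd_mul_left h2

end Cfsg.Agent.R2.Spec.X4.H10
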