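import Cfsg.Agent.R2.Spec.X4.H10.Num
import Cfsg.Agent.R2.Spec.X4.H4.Small

/-!
# X4, `S = L₃(u)`, `U₃(u)` : numbers (helper10)
-/

set_option autoImplicit false
set_option linter.unusedVariables false

namespace Cfsg.Agent.R2.Spec.X4.H10

/-- the Singer torus -/
def t1 (e : Bool) (u : ℕ) : ℕ :=
  if e then (u ^ 2 + u + 1) / Nat.gcd 3 (u - 1) else (u ^ 2 - u + 1) / Nat.gcd 3 (u + 1)

/-- the other torus -/
def t2 (e : Bool) (u : ℕ) : ℕ := if e then (u ^ 2 - 1) / Nat.gcd 3 (u - 1) else (u ^ 2 - 1) / Nat.gcd 3 (u + 1)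

/-- the check for one `u` -/
def ok3 (e : Bool) (A B k k' u : ℕ) : Bool :=
  (!(t1 e u % k == 0) || !(A % t1 e u == 0) || (!(B % t2 e u == 0) && !(u % k' == 0))) &&
  (!(t1 e u % k' == 0) || !(B % t1 e u == 0) || !(A % t2 e u == 0))

/-- the check -/
def chk3 : Bool :=
  H4.tab.all fun x => (List.range 430).all fun u => u < 2 ||
    (ok3 true x.2.1 x.2.2.1 x.2.2.2.1 x.2.2.2.2 u && ok3 false x.2.1 x.2.2.1 x.2.2.2.1 x.2.2.2.2 u)

theorem chk3_true : chk3 = true := by decide +kernel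

theorem small3 {q k A k' B : ℕ} (h : Side q k A k' B) (hq : 7 ≤ q) (hq' : q < 50) {e : Bool} {u : ℕ} (hu : 2 ≤ u)
    (hu' : u < 430) : (k ∣ t1 e u → t1 e u ∣ A → ¬ t2 e u ∣ B ∧ ¬ k' ∣ u) ∧
      (k' ∣ t1 e u → t1 e u ∣ B → ¬ t2 e u ∣ A) := by
  have hc := chk3_true
  rw [chk3, List.all_eq_true] at hc
  have h1 := hc _ (H4.mem_tab h hq hq')
  rw [List.all_eq_true] at h1
  have h2 := h1 u (List.mem_range.2 hu')
  simp only [Bool.or_eq_true, decide_eq_true_eq, Bool.and_eq_true] at h2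
  rcases h2 with h2 | ⟨h2, h3⟩
  · omega
  · have h4 : ok3 e A B k k' u = true := by cases e <;> assumption
    rw [ok3] at h4
    simp only [Bool.and_eq_true, Bool.or_eq_true, Bool.not_eq_true', beq_eq_false_iff_ne, ne_eq,
      ← Nat.dvd_iff_mod_eq_zero] at h4
    obtain ⟨h5, h6⟩ := h4
    refine ⟨fun a b => ?_, fun a b => ?_⟩
    · rcases h5 with (h5 | h5) | h5
      · exact absurd a h5
      · exact absurd b h5
      · exact h5
    · rcases h6 with (h6 | h6) | h6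
      · exact absurd a h6
      · exact absurd b h6
      · exact h6

theorem n1core {U q c T1 T2 h1 h2 X1 X2 σ : ℤ} (hq : 50 ≤ q) (hc : c = 1 ∨ c = 3) (e1 : c * T1 = U ^ 2 + U + 1)
    (e2 : c * T2 = U ^ 2 - 1) (hX1 : h1 * T1 = X1) (hX2 : h2 * T2 = X2) (hσ : X1 - X2 = σ) (hσ' : σ = 1 ∨ σ = -1)
    (hT : q ^ 2 - q + 1 ≤ 3 * T1) (hb : 2 * X1 ≤ q ^ 3 + 1) (h10 : 0 < h1) :
    c = 3 ∧ ((0 < U ∧ h1 = U - 2 ∧ h2 = U - 1 ∧ σ = -1) ∨ (U < 0 ∧ h1 = 2 - U ∧ h2 = 1 - U ∧ σ = 1)) := by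
  obtain ⟨c', hc'⟩ : ∃ c', c' = h2 - h1 := ⟨_, rfl⟩
  obtain ⟨w, hw⟩ : ∃ w, w = h1 - c' * (U - 2) := ⟨_, rfl⟩
  have hT1 : 817 ≤ T1 := by nlinarith
  have hcT : T1 ≤ c * T1 := by rcases hc with rfl | rfl <;> omega
  have hdiff : h1 * (U ^ 2 + U + 1) - h2 * (U ^ 2 - 1) = c * σ := by
    rw [← e1, ← e2, ← hσ, ← hX1, ← hX2]; ring
  have eq1 : c' * (U ^ 2 - 1) = h1 * (U + 2) - σ * c := by
    rw [hc']; linear_combination -hdiff
  have eq2 : 3 * c' + σ * c = (U + 2) * w := by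
    rw [hw]; linear_combination eq1
  -- bounds
  obtain ⟨n, hn⟩ : ∃ n, n = |U| := ⟨_, rfl⟩
  have hn0 : 0 ≤ n := by rw [hn]; exact abs_nonneg _
  have hn2 : n ^ 2 = U ^ 2 := by rw [hn, sq_abs]
  have hUn : U ≤ n := by rw [hn]; exact le_abs_self _
  have hUn' : -n ≤ U := by rw [hn]; exact neg_abs_le _
  have hn28 : 28 ≤ n := by
    by_contra hcon
    have h3 : n ≤ 27 := by omega
    have h4 : n ^ 2 ≤ 27 ^ 2 := pow_le_pow_left₀ hn0 h3 2
    omega
  have hqn : q ≤ 2 * n + 1 := by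
    by_contra hcon
    have h3 : 2 * n + 2 ≤ q := by omega
    have h4 : (2 * n + 2) * (2 * n + 1) ≤ q * (q - 1) := mul_le_mul h3 (by omega) (by omega) (by omega)
    nlinarith
  have hh1 : 2 * h1 ≤ 3 * (q + 1) := by
    by_contra hcon
    rw [not_le] at hcon
    have h3 : h1 * (q ^ 2 - q + 1) ≤ h1 * (3 * T1) := mul_le_mul_of_nonneg_left hT h10.le
    have h4 : (3 * (q + 1) + 1) * (q ^ 2 - q + 1) ≤ 2 * h1 * (q ^ 2 - q + 1) :=
      mul_le_mul_of_nonneg_right (by omega) (by nlinarith)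
    nlinarith
  have hh1' : h1 ≤ 3 * n + 3 := by omega
  have hc3 : 1 ≤ c ∧ c ≤ 3 := by rcases hc with rfl | rfl <;> norm_num
  have hσc : |σ * c| ≤ 3 := by
    rw [abs_mul]
    have : |σ| = 1 := by rcases hσ' with rfl | rfl <;> norm_num
    rw [this, one_mul, abs_of_pos (by omega)]
    exact hc3.2
  have hU2 : |U + 2| ≤ n + 2 := by
    rw [hn]
    calc |U + 2| ≤ |U| + |2| := abs_add_le _ _
      _ = _ := by norm_num
  have hU2' : n - 2 ≤ |U + 2| := by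
    have h3 : |U| ≤ |U + 2| + |(-2 : ℤ)| := by
      calc |U| = |(U + 2) + (-2)| := by ring_nf
        _ ≤ _ := abs_add_le _ _
    rw [← hn] at h3
    norm_num at h3
    omega
  by_cases hw0 : w = 0
  · rw [hw0, mul_zero] at eq2
    rw [hw0] at hw
    have h3 : h1 = c' * (U - 2) := by omega
    rcases hc with rfl | rfl
    · exfalso
      rcases hσ' with rfl | rfl <;> omega
    · refine ⟨rfl, ?_⟩
      have h4 : c' = -σ := by omega
      rw [h4] at h3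
      rcases hσ' with rfl | rfl
      · right
        refine ⟨?_, by omega, by omega, rfl⟩
        by_contra hcon
        rw [hn, abs_of_nonneg (by omega)] at hn28
        omega
      · left
        refine ⟨?_, by omega, by omega, rfl⟩
        by_contra hcon
        omega
  · exfalso
    have h3 : |U + 2| ≤ 3 * |c'| + 3 := by
      have h4 : 1 ≤ |w| := Int.one_le_abs hw0
      have h5 : |U + 2| * |w| = |3 * c' + σ * c| := by rw [← abs_mul, eq2]
      have h6 : |3 * c' + σ * c| ≤ |3 * c'| + |σ * c| := abs_add_le _ _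
      have h7 : |3 * c'| = 3 * |c'| := by rw [abs_mul]; norm_num
      have h8 : |U + 2| ≤ |U + 2| * |w| := le_mul_of_one_le_right (abs_nonneg _) h4
      omega
    have h4 : |c'| * (n ^ 2 - 1) ≤ (3 * n + 3) * (n + 2) + 3 := by
      have h5 : |c'| * (n ^ 2 - 1) = |c' * (U ^ 2 - 1)| := by
        rw [abs_mul, hn2, abs_of_nonneg (a := U ^ 2 - 1) (by nlinarith)]
      rw [h5, eq1]
      calc |h1 * (U + 2) - σ * c| ≤ |h1 * (U + 2)| + |σ * c| := abs_sub _ _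
        _ ≤ _ := by
          rw [abs_mul, abs_of_pos h10]
          have : h1 * |U + 2| ≤ (3 * n + 3) * (n + 2) := mul_le_mul hh1' hU2 (abs_nonneg _) (by omega)
          omega
    have h5 : |c'| ≤ 3 := by
      by_contra hcon
      rw [not_le] at hcon
      have h6 : 4 * (n ^ 2 - 1) ≤ |c'| * (n ^ 2 - 1) := mul_le_mul_of_nonneg_right (by omega) (by nlinarith)
      nlinarith
    omega

theorem spPos {u q : ℤ} (hq : 7 ≤ q) (hu : 3 ≤ u) (hE : 2 * ((u - 1) * (u ^ 2 - 1)) = 3 * (q ^ 3 + 1))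
    (hκ : (q ^ 2 - q + 1) ∣ u ^ 2 - 1) : False := by
  obtain ⟨c, hc⟩ := hκ
  have hw : 0 < q ^ 2 - q + 1 := by nlinarith
  have h1 : 2 * (u - 1) * c = 3 * (q + 1) := by
    have h2 : (q ^ 2 - q + 1) * (2 * (u - 1) * c) = (q ^ 2 - q + 1) * (3 * (q + 1)) := by
      rw [hc] at hE
      linear_combination hE
    exact mul_left_cancel₀ hw.ne' h2
  have hc0 : 0 < c := by
    by_contra hcon
    have : 2 * (u - 1) * c ≤ 0 := mul_nonpos_of_nonneg_of_nonpos (by omega) (by omega)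
    omega
  rcases (by omega : c = 1 ∨ 2 ≤ c) with rfl | h2
  · have h3 : u = 1 + 3 * (q + 1) / 2 := by omega
    nlinarith
  · have h3 : 4 * (u - 1) ≤ 3 * (q + 1) := by nlinarith
    have h4 : 2 * (q ^ 2 - q + 1) ≤ u ^ 2 - 1 := by rw [hc, mul_comm]; exact mul_le_mul_of_nonneg_left h2 hw.le
    nlinarith

theorem spNeg {u q : ℤ} (hq : 7 ≤ q) (hu : 3 ≤ u) (hE : 2 * ((u + 1) * (u ^ 2 - 1)) = 3 * (q ^ 3 - 1))
    (hκ : (q ^ 2 + q + 1) ∣ u ^ 2 - 1) : False := by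
  obtain ⟨c, hc⟩ := hκ
  have hw : 0 < q ^ 2 + q + 1 := by nlinarith
  have h1 : 2 * (u + 1) * c = 3 * (q - 1) := by
    have h2 : (q ^ 2 + q + 1) * (2 * (u + 1) * c) = (q ^ 2 + q + 1) * (3 * (q - 1)) := by
      rw [hc] at hE
      linear_combination hE
    exact mul_left_cancel₀ hw.ne' h2
  have hc0 : 0 < c := by
    by_contra hcon
    have : 2 * (u + 1) * c ≤ 0 := mul_nonpos_of_nonneg_of_nonpos (by omega) (by omega)
    omega
  rcases (by omega : c = 1 ∨ 2 ≤ c) with rfl | h2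
  · have h3 : 2 * (u + 1) = 3 * (q - 1) := by omega
    nlinarith
  · have h3 : 4 * (u + 1) ≤ 3 * (q - 1) := by nlinarith
    have h4 : 2 * (q ^ 2 + q + 1) ≤ u ^ 2 - 1 := by rw [hc, mul_comm]; exact mul_le_mul_of_nonneg_left h2 hw.le
    nlinarith

theorem avKill {q u T1 A κ c U : ℤ} (hq : 50 ≤ q) (hA : 2 * A ≤ q ^ 3 + 1) (hT : T1 ≤ A) (hc : c = 1 ∨ c = 3)
    (e1 : c * T1 = U ^ 2 + U + 1) (hU : U = u ∨ U = -u) (hκ : q ^ 2 - q + 1 ≤ 3 * κ) (hκu : κ ≤ u) : False := by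
  have hw : 0 < q ^ 2 - q + 1 := by nlinarith
  have hu : 0 < u := by omega
  have h1 : u ^ 2 - u + 1 ≤ 3 * A := by
    have h2 : u ^ 2 - u + 1 ≤ U ^ 2 + U + 1 := by rcases hU with rfl | rfl <;> nlinarith
    have h3 : c * T1 ≤ 3 * A := by
      rcases hc with rfl | rfl
      · nlinarith
      · omega
    omega
  have h2 : q ^ 3 + 1 = (q + 1) * (q ^ 2 - q + 1) := by ring
  have h3 : (q + 1) * (q ^ 2 - q + 1) ≤ (q + 1) * (3 * u) := mul_le_mul_of_nonneg_left (by omega) (by omega)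
  have h4 : 2 * (u ^ 2 - u + 1) ≤ 9 * (q + 1) * u := by nlinarith
  have h5 : 2 * (u - 1) < 9 * (q + 1) := by
    by_contra hcon
    rw [not_lt] at hcon
    have : 9 * (q + 1) * u ≤ 2 * (u - 1) * u := mul_le_mul_of_nonneg_right hcon hu.le
    nlinarith
  nlinarith

end Cfsg.Agent.R2.Spec.X4.H10
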