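import Cfsg.Agent.H127.PSUThree
import Cfsg.Agent.H127.PSUThreeEx

/-!
# The element orders of `PSU₃(q)`, every characteristic: a weak upper bound (helper10)

The proof of `H127.PSUThree.order_dvd`, with `p ^ 2` in place of `p`.
-/

set_option autoImplicit false

namespace Cfsg.Agent.R2.Spec.X4.H10

open Matrix Polynomial Cfsg.Agent.H127.UnitRoots Cfsg.Agent.H127.PSUThree

section three

variable {K : Type*} [Field K]

/-- if the `k`-th powers of the eigenvalues coincide, then the `k p²`-th power is scalar -/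
theorem pow_scalar_sq (p : ℕ) [Fact p.Prime] [CharP K p] {N : Matrix (Fin 3) (Fin 3) K} {a b c : K}
    (h : N.charpoly = (X - C a) * (X - C b) * (X - C c)) {k : ℕ} (h1 : a ^ k = b ^ k) (h2 : b ^ k = c ^ k) :
    N ^ (k * p ^ 2) = ((c ^ k) ^ p ^ 2) • (1 : Matrix (Fin 3) (Fin 3) K) := by
  have hdvd : ∀ x : K, x ^ k = c ^ k → (X - C x) ∣ (X ^ k - C (c ^ k) : K[X]) := by
    intro x hx
    rw [dvd_iff_isRoot, IsRoot.def, eval_sub, eval_pow, eval_X, eval_C, hx, sub_self]
  have h3 : N.charpoly ∣ (X ^ k - C (c ^ k)) * (X ^ k - C (c ^ k)) * (X ^ k - C (c ^ k)) := by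
    rw [h]
    exact mul_dvd_mul (mul_dvd_mul (hdvd a (h1.trans h2)) (hdvd b h2)) (hdvd c rfl)
  obtain ⟨g, hg⟩ := h3
  have h4 : (N ^ k - (c ^ k) • 1) ^ 3 = 0 := by
    have h5 : aeval N ((X ^ k - C (c ^ k)) * (X ^ k - C (c ^ k)) * (X ^ k - C (c ^ k)) : K[X]) = 0 := by
      rw [hg, map_mul, Matrix.aeval_self_charpoly, zero_mul]
    rw [map_mul, map_mul, map_sub, map_pow, aeval_X, aeval_C, Algebra.algebraMap_eq_smul_one] at h5
    rw [pow_succ, pow_two]
    exact h5
  have hp3 : 3 ≤ p ^ 2 := by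
    have := (Fact.out : p.Prime).two_le
    nlinarith
  have h6 : (N ^ k - (c ^ k) • 1) ^ p ^ 2 = 0 := pow_eq_zero_of_le hp3 h4
  have hcomm : Commute (N ^ k) ((c ^ k) • (1 : Matrix (Fin 3) (Fin 3) K)) := by
    rw [Commute, SemiconjBy, Matrix.mul_smul, Matrix.smul_mul, mul_one, one_mul]
  have : CharP (Matrix (Fin 3) (Fin 3) K) p := Matrix.charP p
  rw [sub_pow_char_pow_of_commute p 2 hcomm, sub_eq_zero, _root_.smul_pow, one_pow, ← pow_mul] at h6
  exact h6

end three

/-- **upper bound for the element orders of `PSU₃(q)`** -/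
theorem order_dvd_sq {F : Type*} [Field F] [Fintype F] (p : ℕ) [Fact p.Prime] [CharP F p] (q : ℕ)
    (hF : Fintype.card F = q ^ 2) (g : Cfsg.SU 3 F q) :
    orderOf (QuotientGroup.mk g : Cfsg.PSU 3 F q) ∣ q + 1 ∨
      orderOf (QuotientGroup.mk g : Cfsg.PSU 3 F q) ∣ (q + 1) / Nat.gcd 3 (q + 1) * p ^ 2 ∨
      orderOf (QuotientGroup.mk g : Cfsg.PSU 3 F q) ∣ (q ^ 2 - 1) / Nat.gcd 3 (q + 1) ∨
      orderOf (QuotientGroup.mk g : Cfsg.PSU 3 F q) ∣ (q ^ 2 - q + 1) / Nat.gcd 3 (q + 1) := by
  classical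
  have hq2 : 2 ≤ q := Cfsg.Agent.ClassicalGeometry.GUBasic.two_le hF
  let K := AlgebraicClosure F
  have : CharP K p := charP_of_injective_algebraMap (algebraMap F K).injective p
  obtain ⟨σ, hσ⟩ := exists_pow_hom hF K
  set d := Nat.gcd 3 (q + 1) with hd
  have hd0 : 0 < d := Nat.gcd_pos_of_pos_left _ (by norm_num)
  have hd1 : d ∣ q + 1 := Nat.gcd_dvd_right _ _
  have hd3 : d ∣ 3 := Nat.gcd_dvd_left _ _
  have hd2 : d ∣ q - 2 := by
    have h1 : q + 1 = (q - 2) + 3 := by omega
    rw [h1] at hd1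
    exact (Nat.dvd_add_left hd3).1 hd1
  have hdk1 : d * ((q ^ 2 - 1) / d) = q ^ 2 - 1 := by
    apply Nat.mul_div_cancel'
    have h1 : q ^ 2 - 1 = (q + 1) * (q - 1) := by
      have := Nat.sq_sub_sq q 1
      simpa using this
    rw [h1]
    exact Dvd.dvd.mul_right hd1 _
  have hdk2 : d * ((q ^ 2 - q + 1) / d) = q ^ 2 - q + 1 := by
    apply Nat.mul_div_cancel'
    have h1 : q ^ 2 - q + 1 = (q + 1) * (q - 2) + 3 := by
      obtain ⟨r, rfl⟩ : ∃ r, q = r + 2 := ⟨q - 2, by omega⟩
      simp only [Nat.add_sub_cancel]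
      have h2 : (r + 2) ^ 2 = (r + 2) + (r + 2) * (r + 1) := by ring
      rw [h2, Nat.add_sub_cancel_left]
      ring
    rw [h1]
    exact (Nat.dvd_add_right (Dvd.dvd.mul_right hd1 _)).2 hd3
  obtain ⟨s, hs⟩ := hd3
  have hdk3 : 3 * ((q + 1) / d) = (q + 1) * s := by
    conv_lhs => rw [hs]
    rw [show d * s * ((q + 1) / d) = (d * ((q + 1) / d)) * s by ring, Nat.mul_div_cancel' hd1]
  set N := (mat g).map (algebraMap F K) with hN
  obtain ⟨a, b, c, hchar⟩ := exists_roots N
  have hdet : a * b * c = 1 := by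
    rw [← det_eq hchar, hN]
    have h1 : ((mat g).map (algebraMap F K)).det = algebraMap F K (mat g).det := by
      rw [← RingHom.mapMatrix_apply, ← RingHom.map_det]
    rw [h1, mat_det, map_one]
  have hroot : ∀ x, N.charpoly.eval x = 0 ↔ x = a ∨ x = b ∨ x = c := by
    intro x
    rw [hchar]
    simp only [eval_mul, eval_sub, eval_X, eval_C, mul_eq_zero, sub_eq_zero]
    tauto
  have hinv : ∀ x, (x = a ∨ x = b ∨ x = c) → x ≠ 0 ∧ (x ^ q * a = 1 ∨ x ^ q * b = 1 ∨ x ^ q * c = 1) := by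
    intro x hx
    obtain ⟨h1, h2⟩ := root_inv hF (mat_unit g (by omega)) ((hroot x).2 hx)
    refine ⟨h1, ?_⟩
    have h3 : ∀ y, (x ^ q)⁻¹ = y → x ^ q * y = 1 := by
      rintro y rfl
      exact mul_inv_cancel₀ (pow_ne_zero _ h1)
    rcases (hroot _).1 h2 with h | h | h
    · exact Or.inl (h3 _ h)
    · exact Or.inr (Or.inl (h3 _ h))
    · exact Or.inr (Or.inr (h3 _ h))
  obtain ⟨ha0, ha⟩ := hinv a (Or.inl rfl)
  obtain ⟨hb0, hb⟩ := hinv b (Or.inr (Or.inl rfl))
  obtain ⟨hc0, hc⟩ := hinv c (Or.inr (Or.inr rfl))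
  -- descent
  have hfin : ∀ (k : ℕ) (e : K), N ^ k = e • 1 → orderOf (QuotientGroup.mk g : Cfsg.PSU 3 F q) ∣ k := by
    intro k e he
    apply orderOf_dvd_of_pow_eq_one
    apply psu_pow_eq_one
    apply scalar_descend (K := K) (e := e)
    rw [← he, hN, ← RingHom.mapMatrix_apply, ← RingHom.mapMatrix_apply, map_pow]
  -- injectivity of the power map
  have hinj : ∀ {x y z : K}, x ^ q * z = 1 → y ^ q * z = 1 → x = y := by
    intro x y z h1 h2
    apply σ.injective
    rw [hσ, hσ, eq_inv_of_mul_eq_one_left h1, eq_inv_of_mul_eq_one_left h2]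
  have hchar2 : N.charpoly = (X - C b) * (X - C c) * (X - C a) := by rw [hchar]; ring
  have hchar3 : N.charpoly = (X - C a) * (X - C c) * (X - C b) := by rw [hchar]; ring
  by_cases hab : a = b
  · subst hab
    right; left
    have h1 := case_repeated σ hσ ha0 hdk3 hdet (by tauto) (by tauto)
    exact hfin _ _ (pow_scalar_sq p hchar rfl h1)
  by_cases hbc : b = c
  · subst hbc
    right; left
    have h1 := case_repeated (a := b) (c := a) σ hσ hb0 hdk3 (by rw [← hdet]; ring) (by tauto) (by tauto)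
    exact hfin _ _ (pow_scalar_sq p hchar2 rfl h1)
  by_cases hac : a = c
  · subst hac
    right; left
    have h1 := case_repeated (a := a) (c := b) σ hσ ha0 hdk3 (by rw [← hdet]; ring) (by tauto) (by tauto)
    exact hfin _ _ (pow_scalar_sq p hchar3 rfl h1)
  -- distinct eigenvalues
  have hD := fun k h1 h2 => pow_scalar_of_distinct (k := k) hchar hab hbc hac h1 h2
  rcases ha with ha | ha | ha
  · rcases hb with hb | hb | hb
    · exact absurd (hinj ha hb) hab
    · rcases hc with hc | hc | hc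
      · exact absurd (hinj ha hc) hac
      · exact absurd (hinj hb hc) hbc
      · -- all of norm one
        left
        apply hfin _ (c ^ (q + 1))
        apply hD
        · rw [pow_succ, ha, pow_succ, hb]
        · rw [pow_succ, hb, pow_succ, hc]
    · rcases hc with hc | hc | hc
      · exact absurd (hinj ha hc) hac
      · -- `(b c)`
        right; right; left
        obtain ⟨h1, h2⟩ := case_transp (a := b) (b := c) (c := a) hb0 hq2 hdk1 hd1 hd2 (by rw [← hdet]; ring) hb hc
        exact hfin _ _ (hD _ (h1.trans h2).symm h1)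
      · exact absurd (hinj hb hc) hbc
  · rcases hb with hb | hb | hb
    · rcases hc with hc | hc | hc
      · exact absurd (hinj hb hc) hbc
      · exact absurd (hinj ha hc) hac
      · -- `(a b)`
        right; right; left
        obtain ⟨h1, h2⟩ := case_transp (a := a) (b := b) (c := c) ha0 hq2 hdk1 hd1 hd2 hdet ha hb
        exact hfin _ _ (hD _ h1 h2)
    · exact absurd (hinj ha hb) hab
    · rcases hc with hc | hc | hc
      · -- `a → b → c → a`
        right; right; right
        obtain ⟨h1, h2⟩ := case_cycle (a := a) (b := b) (c := c) ha0 hq2 hdk2 hd1 hdet ha hb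
        exact hfin _ _ (hD _ h1 h2)
      · exact absurd (hinj ha hc) hac
      · exact absurd (hinj hb hc) hbc
  · rcases hb with hb | hb | hb
    · rcases hc with hc | hc | hc
      · exact absurd (hinj hb hc) hbc
      · -- `a → c → b → a`
        right; right; right
        obtain ⟨h1, h2⟩ := case_cycle (a := a) (b := c) (c := b) ha0 hq2 hdk2 hd1 (by rw [← hdet]; ring) ha hc
        exact hfin _ _ (hD _ (h1.trans h2) h2.symm)
      · exact absurd (hinj ha hc) hac
    · rcases hc with hc | hc | hc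
      · -- `(a c)`
        right; right; left
        obtain ⟨h1, h2⟩ := case_transp (a := a) (b := c) (c := b) ha0 hq2 hdk1 hd1 hd2 (by rw [← hdet]; ring) ha hc
        exact hfin _ _ (hD _ (h1.trans h2) h2.symm)
      · exact absurd (hinj hb hc) hbc
      · exact absurd (hinj ha hc) hac
    · exact absurd (hinj ha hb) hab

end Cfsg.Agent.R2.Spec.X4.H10
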