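import Cfsg.Agent.R2.Spec.X4.H10.L3Num
import Cfsg.Agent.R2.Spec.X4.H10.L3Fac
import Cfsg.Agent.R2.Spec.X4.H10.Nums

/-!
# X4: `S = L₃(u)`, `U₃(u)` are impossible, `(u, q) = 1` (helper10)
-/

set_option autoImplicit false
set_option linter.unusedSectionVars false
set_option linter.unusedVariables false

namespace Cfsg.Agent.R2.Spec.X4.H10

open Subgroup Cfsg
open Cfsg.Agent.H426.LieFam Cfsg.Agent.R2.Spec Cfsg.Agent.R2.Spec.P1 Cfsg.Agent.R2.Spec.F1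
open Cfsg.Agent.H72

universe u

variable {p q k A k' B m i : ℕ} {W : ℕ → Prop} {S : Type u} [Group S] {t : Fam} {v f : ℕ} {U : ℤ} {c T1 T2 : ℕ}

/-- the numbers of `L` with the cofactors -/
theorem LW.nsc (L : LW p q k A k' B W) : ∃ d g g' : ℤ, NS q k A k' B d ∧ (g = 1 ∨ g = 3) ∧ (g' = 1 ∨ g' = 3) ∧
    g * k = (q : ℤ) ^ 2 - d * q + 1 ∧ g' * k' = (q : ℤ) ^ 2 + d * q + 1 := by
  obtain ⟨d, n⟩ := LW.ns L
  have hq2 := L.q2
  have h1 := L.side.cof hq2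
  have hqq : q ≤ q ^ 2 := Nat.le_self_pow two_ne_zero q
  have e1 : ((q ^ 2 - q + 1 : ℕ) : ℤ) = (q : ℤ) ^ 2 - q + 1 := by push_cast [Nat.cast_sub hqq]; ring
  have e2 : ((q ^ 2 + q + 1 : ℕ) : ℤ) = (q : ℤ) ^ 2 + q + 1 := by push_cast; ring
  have key1 : ∀ a : ℕ, (a = q ^ 2 + q + 1 ∨ 3 * a = q ^ 2 + q + 1 ∧ q % 3 = 1) → ∃ g : ℤ, (g = 1 ∨ g = 3) ∧
      g * a = (q : ℤ) ^ 2 + q + 1 := by
    rintro a (h | ⟨h, -⟩)
    · exact ⟨1, by norm_num, by rw [h, e2]; ring⟩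
    · refine ⟨3, by norm_num, ?_⟩
      rw [← e2, ← h]; push_cast; ring
  have key2 : ∀ a : ℕ, (a = q ^ 2 - q + 1 ∨ 3 * a = q ^ 2 - q + 1 ∧ q % 3 = 2) → ∃ g : ℤ, (g = 1 ∨ g = 3) ∧
      g * a = (q : ℤ) ^ 2 - q + 1 := by
    rintro a (h | ⟨h, -⟩)
    · exact ⟨1, by norm_num, by rw [h, e1]; ring⟩
    · refine ⟨3, by norm_num, ?_⟩
      rw [← e1, ← h]; push_cast; ring
  have hqd := n.hqd
  rcases h1 with ⟨h4, ha, hb⟩ | ⟨h4, ha, hb⟩
  · have hd : d = -1 := by rcases n.hd with rfl | rfl <;> omega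
    obtain ⟨g, hg, hg2⟩ := key1 k ha
    obtain ⟨g', hg', hg2'⟩ := key2 k' hb
    exact ⟨d, g, g', n, hg, hg', by rw [hg2, hd]; ring, by rw [hg2', hd]; ring⟩
  · have hd : d = 1 := by rcases n.hd with rfl | rfl <;> omega
    obtain ⟨g', hg', hg2'⟩ := key1 k' ha
    obtain ⟨g, hg, hg2⟩ := key2 k hb
    exact ⟨d, g, g', n, hg, hg', by rw [hg2, hd]; ring, by rw [hg2', hd]; ring⟩

/-- a noncyclic `x`-subgroup -/
theorem noncyclic_of {X : Type u} [Group X] [Finite X] {x b : ℕ} (hx : x.Prime) (hd : x ^ b ∣ Nat.card X)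
    (hno : ¬ ∃ y : X, orderOf y = x ^ b) : ∃ P : Subgroup X, IsPGroup x P ∧ ¬ IsCyclic P := by
  have := Fact.mk hx
  obtain ⟨P⟩ := (inferInstance : Nonempty (Sylow x X))
  refine ⟨P, P.isPGroup', fun hc => hno ?_⟩
  have h1 : x ^ b ∣ Nat.card P := P.pow_dvd_card_of_pow_dvd_card hd
  obtain ⟨g, hg⟩ := hc.exists_ofOrder_eq_natCard
  obtain ⟨n, hn⟩ := h1
  have hn0 : n ≠ 0 := by
    rintro rfl
    rw [mul_zero] at hn
    exact (Nat.card_pos (α := P)).ne' hn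
  refine ⟨((g ^ n : P) : X), ?_⟩
  rw [Subgroup.orderOf_coe, orderOf_pow_of_dvd hn0 (by rw [hg, hn]; exact dvd_mul_left _ _), hg, hn]
  exact Nat.mul_div_cancel _ (Nat.pos_of_ne_zero hn0)

/-- the context -/
structure C3 (p q k A k' B m i : ℕ) (W : ℕ → Prop) (S : Type u) [Group S] (t : Fam) (v f : ℕ) (U : ℤ)
    (c T1 T2 : ℕ) : Prop where
  h : SX p q k A k' B m i W S
  hg : Good W m i
  hv : v.Prime
  hvp : v ≠ p
  ht : (t = .psl 3 ∧ U = ((v ^ f : ℕ) : ℤ)) ∨ (t = .psu 3 ∧ U = -((v ^ f : ℕ) : ℤ))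
  hI : Fam.Is v f S t
  F : T3F S v (v ^ f) U c T1 T2
  hT : ∃ e : Bool, T1 = t1 e (v ^ f) ∧ T2 = t2 e (v ^ f)

theorem C3.cla (C : C3 p q k A k' B m i W S t v f U c T1 T2) : Classical t := by
  rcases C.ht with ⟨rfl, -⟩ | ⟨rfl, -⟩ <;> trivial

theorem C3.vU (C : C3 p q k A k' B m i W S t v f U c T1 T2) : (v : ℤ) ∣ U := by
  have hf := H4.is_f_ne C.cla C.hI
  have h1 : (v : ℤ) ∣ ((v ^ f : ℕ) : ℤ) := by exact_mod_cast dvd_pow_self v hf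
  rcases C.F.hU with h | h
  · rw [h]; exact h1
  · rw [h]; exact (dvd_neg).2 h1

theorem not_dvd_small {x : ℕ} (hx : x.Prime) (h5 : 5 ≤ x) : ¬ (x : ℤ) ∣ 1 ∧ ¬ (x : ℤ) ∣ 2 ∧ ¬ (x : ℤ) ∣ 3 := by
  refine ⟨fun h => ?_, fun h => ?_, fun h => ?_⟩ <;>
  · have := Int.le_of_dvd (by norm_num) h
    omega

theorem C3.c_not (C : C3 p q k A k' B m i W S t v f U c T1 T2) {x : ℕ} (hx : x.Prime) (h5 : 5 ≤ x) : ¬ x ∣ c := by
  intro h
  rcases C.F.hc with h1 | h1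
  · rw [h1] at h; have := Nat.le_of_dvd (by norm_num) h; omega
  · rw [h1] at h; have := Nat.le_of_dvd (by norm_num) h; omega

theorem C3.dT1 (C : C3 p q k A k' B m i W S t v f U c T1 T2) {x : ℕ} (hx : x.Prime) (h5 : 5 ≤ x) :
    x ∣ T1 ↔ (x : ℤ) ∣ U ^ 2 + U + 1 := by
  rw [← C.F.e1]
  constructor
  · intro h
    exact (Int.natCast_dvd_natCast.2 h).mul_left _
  · intro h
    have h1 : x ∣ c * T1 := by exact_mod_cast h
    exact (hx.dvd_mul.1 h1).resolve_left (C.c_not hx h5)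

theorem C3.dT2 (C : C3 p q k A k' B m i W S t v f U c T1 T2) {x : ℕ} (hx : x.Prime) (h5 : 5 ≤ x) :
    x ∣ T2 ↔ (x : ℤ) ∣ U - 1 ∨ (x : ℤ) ∣ U + 1 := by
  have hxp : Prime (x : ℤ) := Nat.prime_iff_prime_int.1 hx
  have h2 : (x : ℤ) ∣ U - 1 ∨ (x : ℤ) ∣ U + 1 ↔ (x : ℤ) ∣ U ^ 2 - 1 := by
    rw [show U ^ 2 - 1 = (U - 1) * (U + 1) by ring, hxp.dvd_mul]
  rw [h2, ← C.F.e2]
  constructor
  · intro h
    exact (Int.natCast_dvd_natCast.2 h).mul_left _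
  · intro h
    have h1 : x ∣ c * T2 := by exact_mod_cast h
    exact (hx.dvd_mul.1 h1).resolve_left (C.c_not hx h5)

theorem C3.dT3 (C : C3 p q k A k' B m i W S t v f U c T1 T2) {x : ℕ} (hx : x.Prime) :
    x ∣ v ^ 2 * (U - 1).natAbs ↔ x = v ∨ (x : ℤ) ∣ U - 1 := by
  rw [hx.dvd_mul, ← Int.natCast_dvd]
  constructor
  · rintro (h | h)
    · exact Or.inl ((Nat.prime_dvd_prime_iff_eq hx C.hv).1 (hx.dvd_of_dvd_pow h))
    · exact Or.inr h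
  · rintro (h | h)
    · left; rw [h]; exact dvd_pow_self v (by norm_num)
    · exact Or.inr h

/-- the classes are disjoint -/
theorem C3.disj (C : C3 p q k A k' B m i W S t v f U c T1 T2) {x : ℕ} (hx : x.Prime) (h5 : 5 ≤ x) :
    ((x : ℤ) ∣ U ^ 2 + U + 1 → x ≠ v ∧ ¬ (x : ℤ) ∣ U - 1 ∧ ¬ (x : ℤ) ∣ U + 1) ∧
      ((x : ℤ) ∣ U + 1 → x ≠ v ∧ ¬ (x : ℤ) ∣ U - 1) := by
  obtain ⟨n1, n2, n3⟩ := not_dvd_small hx h5
  refine ⟨fun h => ⟨?_, fun h1 => ?_, fun h1 => ?_⟩, fun h => ⟨?_, fun h1 => ?_⟩⟩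
  · rintro rfl
    apply n1
    have h2 := dvd_sub h (C.vU.mul_right (U + 1))
    rwa [show U ^ 2 + U + 1 - U * (U + 1) = 1 by ring] at h2
  · apply n3
    have h2 := dvd_sub h (h1.mul_right (U + 2))
    rwa [show U ^ 2 + U + 1 - (U - 1) * (U + 2) = 3 by ring] at h2
  · apply n1
    have h2 := dvd_sub h (h1.mul_right U)
    rwa [show U ^ 2 + U + 1 - (U + 1) * U = 1 by ring] at h2
  · rintro rfl
    apply n1
    have h2 := dvd_sub h C.vU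
    rwa [show U + 1 - U = 1 by ring] at h2
  · apply n2
    have h2 := dvd_sub h h1
    rwa [show U + 1 - (U - 1) = 2 by ring] at h2

theorem C3.ub1 (C : C3 p q k A k' B m i W S t v f U c T1 T2) {x : ℕ} (hx : x.Prime) (h5 : 5 ≤ x)
    (h : (x : ℤ) ∣ U ^ 2 + U + 1) {y : S} (hy : x ∣ orderOf y) : orderOf y ∣ T1 := by
  have hd := (C.disj hx h5).1 h
  rcases C.F.cas y with h1 | h1 | h1
  · exact h1
  · rcases (C.dT2 hx h5).1 (hy.trans h1) with h2 | h2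
    · exact absurd h2 hd.2.1
    · exact absurd h2 hd.2.2
  · rcases (C.dT3 hx).1 (hy.trans h1) with h2 | h2
    · exact absurd h2 hd.1
    · exact absurd h2 hd.2.1

theorem C3.ub2 (C : C3 p q k A k' B m i W S t v f U c T1 T2) {x : ℕ} (hx : x.Prime) (h5 : 5 ≤ x)
    (h : (x : ℤ) ∣ U + 1) {y : S} (hy : x ∣ orderOf y) : orderOf y ∣ T2 := by
  have hd := (C.disj hx h5).2 h
  rcases C.F.cas y with h1 | h1 | h1
  · exact absurd h ((C.disj hx h5).1 ((C.dT1 hx h5).1 (hy.trans h1))).2.2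
  · exact h1
  · rcases (C.dT3 hx).1 (hy.trans h1) with h2 | h2
    · exact absurd h2 hd.1
    · exact absurd h2 hd.2

theorem C3.clas (C : C3 p q k A k' B m i W S t v f U c T1 T2) {x : ℕ} (hx : x.Prime) (h5 : 5 ≤ x)
    (hxS : x ∣ Nat.card S) : x = v ∨ (x : ℤ) ∣ U - 1 ∨ (x : ℤ) ∣ U + 1 ∨ (x : ℤ) ∣ U ^ 2 + U + 1 := by
  have := C.h.fin
  have := Fact.mk hx
  obtain ⟨y, hy⟩ := exists_prime_orderOf_dvd_card' x hxS
  rcases C.F.cas y with h | h | h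
  · exact Or.inr (Or.inr (Or.inr ((C.dT1 hx h5).1 (hy ▸ h))))
  · rcases (C.dT2 hx h5).1 (hy ▸ h) with h1 | h1
    · exact Or.inr (Or.inl h1)
    · exact Or.inr (Or.inr (Or.inl h1))
  · rcases (C.dT3 hx).1 (hy ▸ h) with h1 | h1
    · exact Or.inl h1
    · exact Or.inr (Or.inl h1)

theorem C3.WT (C : C3 p q k A k' B m i W S t v f U c T1 T2) : W T1 ∧ W T2 := by
  obtain ⟨x, hx⟩ := C.F.ex1
  obtain ⟨y, hy⟩ := C.F.ex2
  exact ⟨hx ▸ C.h.WS x, hy ▸ C.h.WS y⟩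

/-- the anisotropic class -/
theorem C3.an (C : C3 p q k A k' B m i W S t v f U c T1 T2) {x : ℕ} (hx : x.Prime)
    (h3 : 3 ≤ cls t (v ^ f) x) (hAn : An t (cls t (v ^ f) x)) : (x : ℤ) ∣ U ^ 2 + U + 1 := by
  have hc : cls t (v ^ f) x = 3 := by
    rcases C.ht with ⟨rfl, -⟩ | ⟨rfl, -⟩
    · exact hAn
    · change _ % 2 = 1 ∧ (_ = 3 ∨ _ + 1 = 3) at hAn
      omega
  have hs : sg t (v ^ f) = U := by
    rcases C.ht with ⟨rfl, h⟩ | ⟨rfl, h⟩ <;> rw [h] <;> rfl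
  rw [R2.Spec.cls, hs] at hc
  have := Fact.mk hx
  have h1 : ((U : ℤ) : ZMod x) ^ 3 = 1 := by rw [← hc]; exact pow_orderOf_eq_one _
  have h2 : ((U : ℤ) : ZMod x) ≠ 1 := by
    intro h2
    rw [h2, orderOf_one] at hc
    omega
  rw [← ZMod.intCast_zmod_eq_zero_iff_dvd]
  push_cast
  have h3 : (((U : ℤ) : ZMod x) - 1) * (((U : ℤ) : ZMod x) ^ 2 + (U : ZMod x) + 1) = 0 := by
    linear_combination h1
  rcases mul_eq_zero.1 h3 with h4 | h4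
  · exact absurd (sub_eq_zero.1 h4) h2
  · exact h4

/-- `T2` is divisible by `8` in odd characteristic -/
theorem C3.eight (C : C3 p q k A k' B m i W S t v f U c T1 T2) (hv2 : v ≠ 2) : 4 ∣ T2 := by
  have hodd : U % 2 = 1 := by
    have h1 : (v ^ f) % 2 = 1 := Nat.odd_iff.1 ((C.hv.odd_of_ne_two hv2).pow)
    rcases C.F.hU with h | h <;> omega
  have h2 : U ^ 2 % 8 = 1 := by
    have : U % 8 = 1 ∨ U % 8 = 3 ∨ U % 8 = 5 ∨ U % 8 = 7 := by omega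
    rcases this with h | h | h | h <;> rw [pow_two, Int.mul_emod, h] <;> norm_num
  have h3 := C.F.e2
  rcases C.F.hc with h | h <;> rw [h] at h3 <;> push_cast at h3 <;> omega

/-- the primes of `k` -/
theorem C3.kp (C : C3 p q k A k' B m i W S t v f U c T1 T2) {ν : ℕ} (hν : ν.Prime) (hνk : ν ∣ k) :
    7 ≤ ν ∧ ν ∣ Nat.card S ∧ ((ν : ℤ) ∣ U ^ 2 + U + 1 ∨ (v = 2 ∧ (ν : ℤ) ∣ U + 1)) := by
  have := C.h.fin
  have h1 := C.h.lw.side.prime C.h.lw.q2 hν (Or.inl hνk)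
  have h2 := C.h.good_k C.hg hν hνk
  have h3 := C.h.dvd_card hν (C.h.W_prime hν (Or.inl hνk)) h2.1 h2.2
  have h4 := C.h.twoS hν hνk
  refine ⟨h1.1, h3, ?_⟩
  have key : v ≠ 2 → ν ∣ T2 → False := by
    intro hv2 hd
    apply h4
    have h5 : 2 * ν ∣ T2 := Nat.Coprime.mul_dvd_of_dvd_of_dvd ((Nat.coprime_primes Nat.prime_two hν).2 (by omega))
      ((show 2 ∣ 4 by norm_num).trans (C.eight hv2)) hd
    obtain ⟨y, hy⟩ := C.F.ex2
    obtain ⟨n, hn⟩ := h5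
    have h0 : 0 < orderOf y := orderOf_pos y
    have hn0 : n ≠ 0 := by rintro rfl; rw [hy, hn] at h0; omega
    refine ⟨y ^ n, ?_⟩
    rw [orderOf_pow_of_dvd hn0 (by rw [hy, hn]; exact dvd_mul_left _ _), hy, hn]
    exact Nat.mul_div_cancel _ (Nat.pos_of_ne_zero hn0)
  rcases C.clas hν (by omega) h3 with h | h | h | h
  · exfalso
    exact h4 (h ▸ C.F.adj2 (by omega))
  · exfalso
    by_cases hv2 : v = 2
    · apply h4
      obtain ⟨y, hy⟩ := C.F.adjv ν hν (by omega) (by omega) (by rwa [← Int.natCast_dvd])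
      exact ⟨y, by rw [hy, hv2, mul_comm]⟩
    · exact key hv2 ((C.dT2 hν (by omega)).2 (Or.inl h))
  · by_cases hv2 : v = 2
    · exact Or.inr ⟨hv2, h⟩
    · exact (key hv2 ((C.dT2 hν (by omega)).2 (Or.inr h))).elim
  · exact Or.inl h

end Cfsg.Agent.R2.Spec.X4.H10
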