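import Mathlib

/-!
# X4, the symplectic and orthogonal rows: the numeric core (helper10)

`H (u ^ (s + m) + e₁) = g A`, `2 A = q³ + d`, `2 B = q³ - d`:

* `coreB` : `k' ∣ u ^ s + e₂` is impossible;
* `core4` : `(q² + 1) / 2 ∣ u ^ s + e₂` is impossible.
-/

set_option autoImplicit false

namespace Cfsg.Agent.R2.Spec.X4.H10

theorem eq_zero_of_dvd_abs {a x : ℤ} (h : a ∣ x) (h1 : |x| < a) : x = 0 := by
  by_contra hne
  have h2 := Int.le_of_dvd (abs_pos.2 hne) ((dvd_abs _ _).2 h)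
  omega

/-- an even multiple of an odd number -/
theorem eq_zero_of_dvd_even {a x : ℤ} (h : a ∣ x) (ha : a % 2 = 1) (hx : x % 2 = 0) (h1 : |x| < 2 * a) : x = 0 := by
  apply eq_zero_of_dvd_abs (a := 2 * a) _ h1
  obtain ⟨c, rfl⟩ := h
  rw [Int.mul_emod, ha, one_mul, Int.emod_emod_of_dvd _ (dvd_refl 2)] at hx
  obtain ⟨b, rfl⟩ := Int.dvd_of_emod_eq_zero hx
  exact ⟨b, by ring⟩

/-- cubes modulo 9 -/
theorem cube_nine (q : ℤ) : q ^ 3 % 9 = 0 ∨ q ^ 3 % 9 = 1 ∨ q ^ 3 % 9 = 8 := by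
  have h : q % 9 = 0 ∨ q % 9 = 1 ∨ q % 9 = 2 ∨ q % 9 = 3 ∨ q % 9 = 4 ∨ q % 9 = 5 ∨ q % 9 = 6 ∨ q % 9 = 7 ∨ q % 9 = 8 := by
    omega
  rcases h with h | h | h | h | h | h | h | h | h <;> simp [pow_succ, Int.mul_emod, h]

theorem cube_seven (q : ℤ) : (q % 7 = 0 ∧ q ^ 3 % 7 = 0) ∨ q ^ 3 % 7 = 1 ∨ q ^ 3 % 7 = 6 := by
  have h : q % 7 = 0 ∨ q % 7 = 1 ∨ q % 7 = 2 ∨ q % 7 = 3 ∨ q % 7 = 4 ∨ q % 7 = 5 ∨ q % 7 = 6 := by
    omega
  rcases h with h | h | h | h | h | h | h <;> simp [pow_succ, Int.mul_emod, h]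

theorem two_pow_seven (j : ℕ) : (2 : ℤ) ^ j % 7 = 1 ∨ (2 : ℤ) ^ j % 7 = 2 ∨ (2 : ℤ) ^ j % 7 = 4 := by
  induction j with
  | zero => simp
  | succ j ih => rw [pow_succ]; omega

theorem sq_four {q : ℤ} (hq : q % 2 = 1) : q ^ 3 % 2 = 1 ∧ (q % 4 = 1 → q ^ 3 % 4 = 1) ∧ (q % 4 = 3 → q ^ 3 % 4 = 3) := by
  have h : q % 4 = 1 ∨ q % 4 = 3 := by omega
  have h2 : (q % 4 = 1 → q ^ 3 % 4 = 1) ∧ (q % 4 = 3 → q ^ 3 % 4 = 3) := by
    constructor <;> intro h <;> simp [pow_succ, Int.mul_emod, h]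
  refine ⟨?_, h2⟩
  rcases h with h | h
  · have := h2.1 h; omega
  · have := h2.2 h; omega

theorem cube_eight {q : ℤ} (h : q ^ 3 % 8 = 3) : q % 8 = 3 := by
  have h1 : q % 8 = 0 ∨ q % 8 = 1 ∨ q % 8 = 2 ∨ q % 8 = 3 ∨ q % 8 = 4 ∨ q % 8 = 5 ∨ q % 8 = 6 ∨ q % 8 = 7 := by
    omega
  rcases h1 with h1 | h1 | h1 | h1 | h1 | h1 | h1 | h1 <;> first | exact h1 | (exfalso; simp [pow_succ, Int.mul_emod, h1] at h)

/-- bounds for `P = H (V + 1)` -/
theorem bound_two {H U V X : ℤ} (hH : 0 < H) (hU : 1 ≤ U) (hV : 2 ≤ V) (h : H * (U * V - 1) ≤ X) :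
    H * (V + 1) * (2 * U - 1) ≤ 3 * X := by
  have h1 : 0 ≤ H * ((U + 1) * (V - 2)) := mul_nonneg hH.le (mul_nonneg (by omega) (by omega))
  nlinarith

theorem bound_three {H U V X : ℤ} (hH : 0 < H) (hU : 1 ≤ U) (hV : 3 ≤ V) (h : H * (U * V - 1) ≤ X) :
    H * (V + 1) * (3 * U - 1) ≤ 4 * X := by
  have h1 : 0 ≤ H * ((U + 1) * (V - 3)) := mul_nonneg hH.le (mul_nonneg (by omega) (by omega))
  nlinarith

theorem odd_pow {u : ℤ} (hu : u % 2 = 1) (m : ℕ) : u ^ m % 2 = 1 := by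
  induction m with
  | zero => simp
  | succ m ih => rw [pow_succ, Int.mul_emod, ih, hu]; rfl

theorem one_le_pow' {u : ℤ} (hu : 2 ≤ u) (m : ℕ) : 1 ≤ u ^ m := one_le_pow₀ (by omega)

/-- `u ^ m` is `1`, or at least `u` -/
theorem pow_cases {u : ℤ} (hu : 2 ≤ u) (m : ℕ) : m = 0 ∨ (1 ≤ m ∧ u ≤ u ^ m) := by
  rcases Nat.eq_zero_or_pos m with h | h
  · exact Or.inl h
  · exact Or.inr ⟨h, le_self_pow₀ (by omega) (by omega)⟩

theorem pow_eq_prime {u : ℤ} (hu : 2 ≤ u) {m : ℕ} {c : ℕ} (hc : c.Prime) (h : u ^ m = c) : m = 1 ∧ u = c := by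
  obtain ⟨w, rfl⟩ : ∃ w : ℕ, u = w := ⟨u.toNat, (Int.toNat_of_nonneg (by omega)).symm⟩
  have h1 : w ^ m = c := by exact_mod_cast h
  have h2 : m ≠ 0 := by rintro rfl; rw [pow_zero] at h1; exact hc.one_lt.ne h1
  have h3 : w ∣ c := by rw [← h1]; exact dvd_pow_self w h2
  rcases (Nat.dvd_prime hc).1 h3 with h4 | h4
  · omega
  · subst h4
    refine ⟨?_, rfl⟩
    exact Nat.pow_right_injective (show 2 ≤ w by omega) (by simpa using h1)

section poly

variable {q : ℤ}

theorem exists_add (hq : 17 ≤ q) : ∃ x : ℕ, q = x + 17 := ⟨(q - 17).toNat, by omega⟩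

theorem poly1 (hq : 17 ≤ q) : 3 * (q ^ 3 + 1) < (q ^ 2 - q - 2) * (q ^ 2 - q - 1) := by
  obtain ⟨x, rfl⟩ := exists_add hq
  have : 0 < (((x : ℤ) + 17) ^ 2 - (x + 17) - 2) * ((x + 17) ^ 2 - (x + 17) - 1) - 3 * ((x + 17) ^ 3 + 1) := by
    ring_nf; positivity
  linarith

theorem poly2 (hq : 17 ≤ q) : 27 * (q ^ 3 + 1) < 2 * (q ^ 2 - q - 2) * (2 * q ^ 2 - 2 * q - 7) := by
  obtain ⟨x, rfl⟩ := exists_add hq
  have : 0 < 2 * (((x : ℤ) + 17) ^ 2 - (x + 17) - 2) * (2 * (x + 17) ^ 2 - 2 * (x + 17) - 7) - 27 * ((x + 17) ^ 3 + 1) := by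
    ring_nf; positivity
  linarith

theorem poly3 (hq : 17 ≤ q) : 12 * (q ^ 3 + 1) < (2 * (q ^ 2 - q + 1) - 12) * (q ^ 2 - q - 1) := by
  obtain ⟨x, rfl⟩ := exists_add hq
  have : 0 < (2 * (((x : ℤ) + 17) ^ 2 - (x + 17) + 1) - 12) * ((x + 17) ^ 2 - (x + 17) - 1) - 12 * ((x + 17) ^ 3 + 1) := by
    ring_nf; positivity
  linarith

theorem poly4 (hq : 17 ≤ q) : 24 * (q ^ 3 + 1) < (2 * (q ^ 2 - q + 1) - 12) * (q ^ 2 - q + 1 - 4) := by
  obtain ⟨x, rfl⟩ := exists_add hq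
  have : 0 < (2 * (((x : ℤ) + 17) ^ 2 - (x + 17) + 1) - 12) * ((x + 17) ^ 2 - (x + 17) + 1 - 4) - 24 * ((x + 17) ^ 3 + 1) := by
    ring_nf; positivity
  linarith

theorem poly5 (hq : 17 ≤ q) : 4 * (q ^ 3 + 1) < (q ^ 2 - q) * (q ^ 2 - 3) := by
  obtain ⟨x, rfl⟩ := exists_add hq
  have : 0 < (((x : ℤ) + 17) ^ 2 - (x + 17)) * ((x + 17) ^ 2 - 3) - 4 * ((x + 17) ^ 3 + 1) := by
    ring_nf; positivity
  linarith

theorem poly6 (hq : 17 ≤ q) : 3 * (q ^ 3 + 1) < (q ^ 2 - q) * (q ^ 2 - 2) := by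
  obtain ⟨x, rfl⟩ := exists_add hq
  have : 0 < (((x : ℤ) + 17) ^ 2 - (x + 17)) * ((x + 17) ^ 2 - 2) - 3 * ((x + 17) ^ 3 + 1) := by
    ring_nf; positivity
  linarith

theorem poly7 (hq : 17 ≤ q) : 8 * (q ^ 3 + 1) < (q ^ 2 - 2 * q - 1) * (q ^ 2 - 3) := by
  obtain ⟨x, rfl⟩ := exists_add hq
  have : 0 < (((x : ℤ) + 17) ^ 2 - 2 * (x + 17) - 1) * ((x + 17) ^ 2 - 3) - 8 * ((x + 17) ^ 3 + 1) := by
    ring_nf; positivity
  linarith

theorem poly8 (hq : 17 ≤ q) : 16 * (q ^ 3 + 1) < (q ^ 2 - 2 * q - 1) * (3 * q ^ 2 - 5) := by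
  obtain ⟨x, rfl⟩ := exists_add hq
  have : 0 < (((x : ℤ) + 17) ^ 2 - 2 * (x + 17) - 1) * (3 * (x + 17) ^ 2 - 5) - 16 * ((x + 17) ^ 3 + 1) := by
    ring_nf; positivity
  linarith

end poly

section

variable {q d A B k' u g H e1 e2 : ℤ} {s m : ℕ}

/-- the end of the `b`-case -/
theorem endB (hd : d = 1 ∨ d = -1) (hqd : q % 4 = d % 4) (hB : 2 * B = q ^ 3 - d) (hu : 2 ≤ u)
    (he1 : e1 = 1 ∨ e1 = -1) (he2 : e2 = 1 ∨ e2 = -1) (hg : g = 1 ∨ g = 2 ∨ g = 4) (hs : 1 ≤ s)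
    (hp1 : e1 = -1 → (s + m) % 2 = 1) (hp2 : e2 = -1 → s % 2 = 1) (hne : u ^ s ≠ q ^ 3)
    (h7 : 7 ∣ q → q % 8 = 7 ∨ q % 8 = 1) (hV : e2 * u ^ m = e1 - g * d) (hU : u ^ m * (u ^ s + e2) = g * B) : False := by
  have hq2 : q % 2 = 1 := by rcases hd with rfl | rfl <;> omega
  obtain ⟨hc1, hc2, hc3⟩ := sq_four hq2
  have hV1 := one_le_pow' hu m
  -- the values of `u ^ m`
  have hu9 : u = 3 → u ^ s % 3 = 0 := by
    rintro rfl
    obtain ⟨j, rfl⟩ : ∃ j, s = j + 1 := ⟨s - 1, by omega⟩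
    rw [pow_succ]
    omega
  have hc9 := cube_nine q
  have p2 : ∀ {c : ℕ}, c.Prime → u ^ m = c → m = 1 ∧ u = c := fun hc h => pow_eq_prime hu hc h
  rcases hg with rfl | rfl | rfl
  · -- `g = 1` : `u ^ m = 2`
    have h2 : u ^ m = 2 ∧ e1 = -d ∧ e2 = -d := by
      rcases hd with rfl | rfl <;> rcases he1 with rfl | rfl <;> rcases he2 with rfl | rfl <;> omega
    obtain ⟨h2, rfl, rfl⟩ := h2
    obtain ⟨rfl, hu2⟩ := p2 Nat.prime_two (by exact_mod_cast h2)
    have hu2' : u = 2 := by exact_mod_cast hu2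
    subst hu2'
    rcases hd with rfl | rfl
    · have := hp1 rfl
      have := hp2 rfl
      omega
    · -- `q³ = 2 ^ (s + 2) + 3`
      have h3 : q ^ 3 = 2 ^ (s + 2) + 3 := by
        rw [pow_add]
        rw [h2] at hU
        linarith
      have h4 := two_pow_seven (s + 2)
      have h5 := cube_seven q
      have h6 : q % 7 = 0 := by omega
      have h8 : (2 : ℤ) ^ (s + 2) % 8 = 0 := by
        obtain ⟨j, rfl⟩ : ∃ j, s = j + 1 := ⟨s - 1, by omega⟩
        rw [show j + 1 + 2 = j + 3 by ring, pow_add]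
        omega
      have h9 := cube_eight (q := q) (by omega)
      have := h7 (Int.dvd_of_emod_eq_zero h6)
      omega
  · -- `g = 2`
    have h2 : (u ^ m = 1 ∧ e1 = d ∧ e2 = -d) ∨ (u ^ m = 3 ∧ e1 = -d ∧ e2 = -d) := by
      rcases hd with rfl | rfl <;> rcases he1 with rfl | rfl <;> rcases he2 with rfl | rfl <;> omega
    rcases h2 with ⟨h2, -, rfl⟩ | ⟨h2, rfl, rfl⟩
    · apply hne
      rw [h2] at hU
      linarith
    · obtain ⟨rfl, hu3⟩ := p2 Nat.prime_three (by exact_mod_cast h2)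
      have hu3' : u = 3 := by exact_mod_cast hu3
      have h4 := hu9 hu3'
      rw [h2] at hU
      rcases hd with rfl | rfl <;> omega
  · -- `g = 4`
    have h2 : (u ^ m = 3 ∧ e1 = d ∧ e2 = -d) ∨ (u ^ m = 5 ∧ e1 = -d ∧ e2 = -d) := by
      rcases hd with rfl | rfl <;> rcases he1 with rfl | rfl <;> rcases he2 with rfl | rfl <;> omega
    rcases h2 with ⟨h2, -, rfl⟩ | ⟨h2, rfl, rfl⟩
    · obtain ⟨rfl, hu3⟩ := p2 Nat.prime_three (by exact_mod_cast h2)
      have hu3' : u = 3 := by exact_mod_cast hu3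
      have h4 := hu9 hu3'
      rw [h2] at hU
      rcases hd with rfl | rfl <;> omega
    · obtain ⟨rfl, hu5⟩ := p2 Nat.prime_five (by exact_mod_cast h2)
      have hu5' : u = 5 := by exact_mod_cast hu5
      subst hu5'
      rcases hd with rfl | rfl
      · have := hp1 rfl
        have := hp2 rfl
        omega
      · -- `2 q³ = 5 U + 3`, modulo 4
        have h6 : (5 : ℤ) ^ s % 4 = 1 := by
          have : ∀ j : ℕ, (5 : ℤ) ^ j % 4 = 1 := by
            intro j
            induction j with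
            | zero => simp
            | succ j ih => rw [pow_succ]; omega
          exact this s
        rw [h2] at hU
        omega

/-- **The `b`-case.** -/
theorem coreB (hd : d = 1 ∨ d = -1) (hq : 17 ≤ q) (hqd : q % 4 = d % 4) (hA : 2 * A = q ^ 3 + d)
    (hB : 2 * B = q ^ 3 - d) (hk3 : q ^ 2 - q + 1 ≤ 3 * k') (hkB : k' ∣ B) (hk2 : k' % 2 = 1) (hu : 2 ≤ u)
    (he1 : e1 = 1 ∨ e1 = -1) (he2 : e2 = 1 ∨ e2 = -1) (hg : g = 1 ∨ g = 2 ∨ g = 4) (hgu : g = 1 ∨ u % 2 = 1)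
    (hH : 0 < H) (hE : H * (u ^ (s + m) + e1) = g * A) (hks : k' ∣ u ^ s + e2) (hs : 1 ≤ s)
    (hm0 : m = 0 → e1 = -e2 ∧ q ^ 2 - q ≤ u ^ s)
    (hp1 : e1 = -1 → (s + m) % 2 = 1) (hp2 : e2 = -1 → s % 2 = 1) (hne : u ^ s ≠ q ^ 3)
    (h7 : 7 ∣ q → q % 8 = 7 ∨ q % 8 = 1) : False := by
  have hV1 := one_le_pow' hu m
  have hU1 := one_le_pow' hu s
  have hk0 : 0 < k' := by nlinarith
  have hUk : k' ≤ u ^ s + e2 := by
    refine Int.le_of_dvd ?_ hks
    have := (le_self_pow₀ (by omega : 1 ≤ u) (by omega) : u ≤ u ^ s)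
    omega
  have hpm : u ^ (s + m) = u ^ s * u ^ m := pow_add u s m
  rw [hpm] at hE
  set U := u ^ s with hUd
  set V := u ^ m with hVd
  -- divisibility
  have h1 : k' ∣ H * (e1 - e2 * V) - g * d := by
    have h2 : H * (e1 - e2 * V) - g * d = g * B - (H * V) * (U + e2) := by
      have : 2 * (H * (e1 - e2 * V) - g * d) = 2 * (g * B - (H * V) * (U + e2)) := by
        linear_combination 2 * hE + g * hA - g * hB
      linarith
    rw [h2]
    exact dvd_sub (Dvd.dvd.mul_left hkB _) (Dvd.dvd.mul_left hks _)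
  -- the bound
  have hgA : 2 * (g * A) ≤ g * (q ^ 3 + 1) := by
    rcases hg with rfl | rfl | rfl <;> rcases hd with rfl | rfl <;> linarith
  have hX : H * (U * V - 1) ≤ g * A := by
    rw [← hE]
    apply mul_le_mul_of_nonneg_left _ hH.le
    rcases he1 with rfl | rfl <;> omega
  have habs : |H * (e1 - e2 * V) - g * d| ≤ H * (V + 1) + g := by
    have e1' : |H * (e1 - e2 * V) - g * d| ≤ |H * (e1 - e2 * V)| + |g * d| := abs_sub _ _
    have e2' : |H * (e1 - e2 * V)| ≤ H * (V + 1) := by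
      rw [abs_mul, abs_of_pos hH]
      apply mul_le_mul_of_nonneg_left _ hH.le
      rw [abs_le]
      rcases he1 with rfl | rfl <;> rcases he2 with rfl | rfl <;> omega
    have e3' : |g * d| ≤ g := by
      rw [abs_le]
      rcases hg with rfl | rfl | rfl <;> rcases hd with rfl | rfl <;> omega
    linarith
  have hmain : H * (e1 - e2 * V) - g * d = 0 := by
    have hp : m = 0 ∨ 1 ≤ m ∧ u ≤ V := pow_cases hu m
    rcases hg with rfl | hg
    · -- `g = 1`
      refine eq_zero_of_dvd_abs h1 (lt_of_le_of_lt habs ?_)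
      by_contra hcon
      rw [not_lt] at hcon
      rcases hp with hm | ⟨-, hm⟩
      · obtain ⟨-, h3⟩ := hm0 hm
        have hV : V = 1 := by rw [hVd, hm, pow_zero]
        rw [hV] at hX hcon
        have h4 : 2 * H * (q ^ 2 - q - 1) ≤ q ^ 3 + 1 := by
          have : H * (q ^ 2 - q - 1) ≤ H * (U * 1 - 1) := mul_le_mul_of_nonneg_left (by linarith) hH.le
          linarith
        have h5 : (3 * k' - 3) * (q ^ 2 - q - 1) ≤ 3 * (q ^ 3 + 1) := by
          have h6 : (3 * k' - 3) * (q ^ 2 - q - 1) ≤ (3 * (2 * H)) * (q ^ 2 - q - 1) :=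
            mul_le_mul_of_nonneg_right (by linarith) (by nlinarith)
          linarith
        have h7 : (q ^ 2 - q - 2) * (q ^ 2 - q - 1) ≤ (3 * k' - 3) * (q ^ 2 - q - 1) :=
          mul_le_mul_of_nonneg_right (by linarith) (by nlinarith)
        linarith [poly1 hq]
      · have h3 := bound_two hH hU1 (by omega : 2 ≤ V) hX
        have h4 : H * (V + 1) * (2 * k' - 3) ≤ H * (V + 1) * (2 * U - 1) :=
          mul_le_mul_of_nonneg_left (by rcases he2 with rfl | rfl <;> omega) (by positivity)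
        have h5 : 2 * (k' - 1) * (2 * k' - 3) ≤ 3 * (q ^ 3 + 1) := by
          have h6 : 2 * (k' - 1) * (2 * k' - 3) ≤ 2 * (H * (V + 1)) * (2 * k' - 3) :=
            mul_le_mul_of_nonneg_right (by linarith) (by nlinarith)
          linarith
        have h6 : 2 * (q ^ 2 - q - 2) * (2 * q ^ 2 - 2 * q - 7) ≤ 2 * (3 * k' - 3) * (6 * k' - 9) := by
          have a1 : 2 * (q ^ 2 - q - 2) ≤ 2 * (3 * k' - 3) := by linarith
          have a2 : 2 * q ^ 2 - 2 * q - 7 ≤ 6 * k' - 9 := by linarith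
          exact mul_le_mul a1 a2 (by nlinarith) (by nlinarith)
        linarith [poly2 hq]
    · -- `g` even
      have hu2 : u % 2 = 1 := by
        rcases hgu with h | h
        · rcases hg with rfl | rfl <;> omega
        · exact h
      have hVo : V % 2 = 1 := odd_pow hu2 m
      have hev : (H * (e1 - e2 * V) - g * d) % 2 = 0 := by
        have a1 : (e1 - e2 * V) % 2 = 0 := by rcases he1 with rfl | rfl <;> rcases he2 with rfl | rfl <;> omega
        obtain ⟨b, hb⟩ := Int.dvd_of_emod_eq_zero a1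
        have a2 : (g * d) % 2 = 0 := by
          rcases hg with rfl | rfl <;> rcases hd with rfl | rfl <;> omega
        rw [hb, show H * (2 * b) = 2 * (H * b) by ring]
        omega
      refine eq_zero_of_dvd_even h1 hk2 hev (lt_of_le_of_lt habs ?_)
      by_contra hcon
      rw [not_lt] at hcon
      have hg4 : g ≤ 4 := by omega
      have hg0 : 0 ≤ g := by omega
      have hq3 : 0 ≤ q ^ 3 + 1 := by positivity
      have hg8 : g * (q ^ 3 + 1) ≤ 4 * (q ^ 3 + 1) := mul_le_mul_of_nonneg_right hg4 hq3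
      rcases hp with hm | ⟨-, hm⟩
      · obtain ⟨-, h3⟩ := hm0 hm
        have hV : V = 1 := by rw [hVd, hm, pow_zero]
        rw [hV] at hX hcon
        have h4 : 2 * H * (q ^ 2 - q - 1) ≤ 4 * (q ^ 3 + 1) := by
          have : H * (q ^ 2 - q - 1) ≤ H * (U * 1 - 1) := mul_le_mul_of_nonneg_left (by linarith) hH.le
          linarith
        have h5 : (2 * (3 * k') - 12) * (q ^ 2 - q - 1) ≤ 12 * (q ^ 3 + 1) := by
          have h6 : (2 * (3 * k') - 12) * (q ^ 2 - q - 1) ≤ (3 * (2 * H)) * (q ^ 2 - q - 1) :=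
            mul_le_mul_of_nonneg_right (by linarith) (by nlinarith)
          linarith
        have h7 : (2 * (q ^ 2 - q + 1) - 12) * (q ^ 2 - q - 1) ≤ (2 * (3 * k') - 12) * (q ^ 2 - q - 1) :=
          mul_le_mul_of_nonneg_right (by linarith) (by nlinarith)
        linarith [poly3 hq]
      · have hV3 : 3 ≤ V := by omega
        have h3 := bound_three hH hU1 hV3 hX
        have h4 : H * (V + 1) * (3 * k' - 4) ≤ H * (V + 1) * (3 * U - 1) :=
          mul_le_mul_of_nonneg_left (by rcases he2 with rfl | rfl <;> omega) (by positivity)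
        have h5 : (2 * k' - 4) * (3 * k' - 4) ≤ 8 * (q ^ 3 + 1) := by
          have h6 : (2 * k' - 4) * (3 * k' - 4) ≤ (H * (V + 1)) * (3 * k' - 4) :=
            mul_le_mul_of_nonneg_right (by linarith) (by nlinarith)
          linarith
        have h6 : (2 * (q ^ 2 - q + 1) - 12) * (q ^ 2 - q + 1 - 4) ≤ (2 * (3 * k') - 12) * (3 * k' - 4) := by
          have a1 : 2 * (q ^ 2 - q + 1) - 12 ≤ 2 * (3 * k') - 12 := by linarith
          have a2 : q ^ 2 - q + 1 - 4 ≤ 3 * k' - 4 := by linarith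
          exact mul_le_mul a1 a2 (by nlinarith) (by nlinarith)
        linarith [poly4 hq]
  -- the end
  have hHg : H ∣ g := by
    have : H ∣ g * d := ⟨e1 - e2 * V, by linarith⟩
    rcases hd with rfl | rfl
    · simpa using this
    · simpa using this
  obtain ⟨g', hg'⟩ := hHg
  have hg'c : g' = 1 ∨ g' = 2 ∨ g' = 4 := by
    have hg'0 : 0 < g' := by
      rcases hg with rfl | rfl | rfl <;> nlinarith
    have : g' ∣ g := Dvd.intro_left H hg'.symm
    have hle := Int.le_of_dvd (by omega) this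
    rcases hg with rfl | rfl | rfl
    · omega
    · omega
    · interval_cases g' <;> omega
  have hV' : e2 * V = e1 - g' * d := by
    have : H * (e2 * V) = H * (e1 - g' * d) := by
      rw [hg'] at hmain
      linarith
    exact mul_left_cancel₀ hH.ne' this
  have hU' : V * (U + e2) = g' * B := by
    have : H * (V * (U + e2)) = H * (g' * B) := by
      have a1 : 2 * (H * (V * (U + e2))) = 2 * (g * B) := by
        linear_combination 2 * hE + g * hA - g * hB - 2 * hmain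
      rw [hg'] at a1
      linarith
    exact mul_left_cancel₀ hH.ne' this
  exact endB hd hqd hB hu he1 he2 hg'c hs hp1 hp2 hne h7 hV' hU'

/-- **The `4`-case.** -/
theorem core4 {z : ℤ} (hd : d = 1 ∨ d = -1) (hq : 17 ≤ q) (hqd : q % 4 = d % 4) (hA : 2 * A = q ^ 3 + d)
    (hz : 2 * z = q ^ 2 + 1) (hu : 2 ≤ u)
    (he1 : e1 = 1 ∨ e1 = -1) (he2 : e2 = 1 ∨ e2 = -1) (hg : g = 1 ∨ g = 2 ∨ g = 4) (hgu : g = 1 ∨ u % 2 = 1)
    (hH : 0 < H) (hE : H * (u ^ (s + m) + e1) = g * A) (hzs : z ∣ u ^ s + e2) (hs : 1 ≤ s)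
    (hm0 : m = 0 → e1 = -e2) (hco : IsCoprime u q) : False := by
  have hV1 := one_le_pow' hu m
  have hU1 := one_le_pow' hu s
  have hz0 : 0 < z := by nlinarith
  have hUz : z ≤ u ^ s + e2 := by
    refine Int.le_of_dvd ?_ hzs
    have := (le_self_pow₀ (by omega : 1 ≤ u) (by omega) : u ≤ u ^ s)
    omega
  obtain ⟨t, ht⟩ : ∃ t, q - d = 4 * t := by
    obtain ⟨t, ht⟩ : (4 : ℤ) ∣ q - d := Int.dvd_of_emod_eq_zero (by omega)
    exact ⟨t, ht⟩
  have hz2 : z % 2 = 1 := by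
    have h4 : q ^ 2 % 4 = 1 := by
      have : q % 4 = 1 ∨ q % 4 = 3 := by rcases hd with rfl | rfl <;> omega
      rcases this with h | h <;> simp [pow_succ, Int.mul_emod, h]
    omega
  have hcoV : IsCoprime (u ^ m) q := hco.pow_left
  have hpm : u ^ (s + m) = u ^ s * u ^ m := pow_add u s m
  rw [hpm] at hE
  have hp : m = 0 ∨ 1 ≤ m ∧ u ≤ u ^ m := pow_cases hu m
  have hVo : u % 2 = 1 → u ^ m % 2 = 1 := fun h => odd_pow h m
  set U := u ^ s with hUd
  set V := u ^ m with hVd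
  have hA' : A = q * z - 2 * t := by
    have : 2 * A = 2 * (q * z - 2 * t) := by linear_combination hA - q * hz - ht
    linarith
  -- divisibility
  have hkey : H * (e1 - e2 * V) + 2 * (g * t) = g * q * z - (H * V) * (U + e2) := by
    rw [hA'] at hE
    linear_combination hE
  have h1 : z ∣ H * (e1 - e2 * V) + 2 * (g * t) := by
    rw [hkey]
    exact dvd_sub (Dvd.intro_left _ rfl) (Dvd.dvd.mul_left hzs _)
  have hgA : 2 * (g * A) ≤ g * (q ^ 3 + 1) := by
    rcases hg with rfl | rfl | rfl <;> rcases hd with rfl | rfl <;> linarith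
  have hX : H * (U * V - 1) ≤ g * A := by
    rw [← hE]
    apply mul_le_mul_of_nonneg_left _ hH.le
    rcases he1 with rfl | rfl <;> omega
  have ht0 : 0 < t := by rcases hd with rfl | rfl <;> omega
  have htq : 4 * t ≤ q + 1 := by rcases hd with rfl | rfl <;> omega
  have hg0 : 0 < g := by omega
  have habs : |H * (e1 - e2 * V) + 2 * (g * t)| ≤ H * (V + 1) + 2 * (g * t) := by
    have e1' : |H * (e1 - e2 * V) + 2 * (g * t)| ≤ |H * (e1 - e2 * V)| + |2 * (g * t)| := abs_add_le _ _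
    have e2' : |H * (e1 - e2 * V)| ≤ H * (V + 1) := by
      rw [abs_mul, abs_of_pos hH]
      apply mul_le_mul_of_nonneg_left _ hH.le
      rw [abs_le]
      rcases he1 with rfl | rfl <;> rcases he2 with rfl | rfl <;> omega
    have e3' : |2 * (g * t)| = 2 * (g * t) := abs_of_pos (by positivity)
    linarith
  have hmain : H * (e1 - e2 * V) + 2 * (g * t) = 0 := by
    rcases hg with rfl | hg
    · -- `g = 1`
      refine eq_zero_of_dvd_abs h1 (lt_of_le_of_lt habs ?_)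
      by_contra hcon
      rw [not_lt] at hcon
      rcases hp with hm | ⟨-, hm⟩
      · have hV : V = 1 := by rw [hVd, hm, pow_zero]
        rw [hV] at hX hcon
        have h3 : q ^ 2 - 3 ≤ 2 * (U - 1) := by rcases he2 with rfl | rfl <;> linarith
        have h4 : H * (q ^ 2 - 3) ≤ q ^ 3 + 1 := by
          have : H * (q ^ 2 - 3) ≤ H * (2 * (U - 1)) := mul_le_mul_of_nonneg_left h3 hH.le
          linarith
        have h5 : (q ^ 2 - q) * (q ^ 2 - 3) ≤ 4 * (q ^ 3 + 1) := by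
          have h6 : (q ^ 2 - q) * (q ^ 2 - 3) ≤ (4 * H) * (q ^ 2 - 3) :=
            mul_le_mul_of_nonneg_right (by linarith) (by nlinarith)
          linarith
        linarith [poly5 hq]
      · have h3 := bound_two hH hU1 (by omega : 2 ≤ V) hX
        have h4 : H * (V + 1) * (q ^ 2 - 2) ≤ H * (V + 1) * (2 * U - 1) :=
          mul_le_mul_of_nonneg_left (by rcases he2 with rfl | rfl <;> linarith) (by positivity)
        have h5 : (q ^ 2 - q) * (q ^ 2 - 2) ≤ 3 * (q ^ 3 + 1) := by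
          have h6 : (q ^ 2 - q) * (q ^ 2 - 2) ≤ (2 * (H * (V + 1))) * (q ^ 2 - 2) :=
            mul_le_mul_of_nonneg_right (by linarith) (by nlinarith)
          linarith
        linarith [poly6 hq]
    · have hu2 : u % 2 = 1 := by
        rcases hgu with h | h
        · rcases hg with rfl | rfl <;> omega
        · exact h
      have hVo' := hVo hu2
      have hev : (H * (e1 - e2 * V) + 2 * (g * t)) % 2 = 0 := by
        have a1 : (e1 - e2 * V) % 2 = 0 := by rcases he1 with rfl | rfl <;> rcases he2 with rfl | rfl <;> omega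
        obtain ⟨b, hb⟩ := Int.dvd_of_emod_eq_zero a1
        rw [hb, show H * (2 * b) = 2 * (H * b) by ring]
        omega
      refine eq_zero_of_dvd_even h1 hz2 hev (lt_of_le_of_lt habs ?_)
      by_contra hcon
      rw [not_lt] at hcon
      have hg4 : g ≤ 4 := by omega
      have hq3 : 0 ≤ q ^ 3 + 1 := by positivity
      have hg8 : g * (q ^ 3 + 1) ≤ 4 * (q ^ 3 + 1) := mul_le_mul_of_nonneg_right hg4 hq3
      have hgt : 2 * (g * t) ≤ 2 * (q + 1) := by
        have : g * t ≤ 4 * t := mul_le_mul_of_nonneg_right hg4 ht0.le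
        linarith
      rcases hp with hm | ⟨-, hm⟩
      · have hV : V = 1 := by rw [hVd, hm, pow_zero]
        rw [hV] at hX hcon
        have h3 : q ^ 2 - 3 ≤ 2 * (U - 1) := by rcases he2 with rfl | rfl <;> linarith
        have h4 : H * (q ^ 2 - 3) ≤ 4 * (q ^ 3 + 1) := by
          have : H * (q ^ 2 - 3) ≤ H * (2 * (U - 1)) := mul_le_mul_of_nonneg_left h3 hH.le
          linarith
        have h5 : (q ^ 2 - 2 * q - 1) * (q ^ 2 - 3) ≤ 8 * (q ^ 3 + 1) := by
          have h6 : (q ^ 2 - 2 * q - 1) * (q ^ 2 - 3) ≤ (2 * H) * (q ^ 2 - 3) :=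
            mul_le_mul_of_nonneg_right (by linarith) (by nlinarith)
          linarith
        linarith [poly7 hq]
      · have hV3 : 3 ≤ V := by omega
        have h3 := bound_three hH hU1 hV3 hX
        have h4 : H * (V + 1) * (3 * q ^ 2 - 5) ≤ H * (V + 1) * (2 * (3 * U - 1)) :=
          mul_le_mul_of_nonneg_left (by rcases he2 with rfl | rfl <;> linarith) (by positivity)
        have h5 : (q ^ 2 - 2 * q - 1) * (3 * q ^ 2 - 5) ≤ 16 * (q ^ 3 + 1) := by
          have h6 : (q ^ 2 - 2 * q - 1) * (3 * q ^ 2 - 5) ≤ (H * (V + 1)) * (3 * q ^ 2 - 5) :=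
            mul_le_mul_of_nonneg_right (by linarith) (by nlinarith)
          linarith
        linarith [poly8 hq]
  -- the end
  rw [hmain] at hkey
  obtain ⟨y, hy⟩ := hzs
  have h2 : g * q = H * V * y := by
    apply mul_right_cancel₀ hz0.ne'
    rw [hy] at hkey
    linarith
  have h3 : V ∣ g := by
    have : V ∣ g * q := ⟨H * y, by rw [h2]; ring⟩
    exact hcoV.dvd_of_dvd_mul_right this
  have hVone : V = 1 := by
    rcases hp with hm | ⟨-, hm⟩
    · rw [hVd, hm, pow_zero]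
    · have h4 := Int.le_of_dvd hg0 h3
      rcases hg with rfl | hg
      · omega
      · have hu2 : u % 2 = 1 := by
          rcases hgu with h | h
          · rcases hg with rfl | rfl <;> omega
          · exact h
        have := hVo hu2
        rcases hg with rfl | rfl
        · omega
        · have h5 : V = 3 := by omega
          rw [h5] at h3
          omega
  have hm : m = 0 := by
    rcases hp with hm | ⟨-, hm⟩
    · exact hm
    · omega
  have he := hm0 hm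
  rw [hVone] at hmain h2
  rw [mul_one] at h2
  -- `H = g t`, `q = t y`
  have h4 : H = g * t := by
    rcases he2 with rfl | rfl
    · rw [he] at hmain
      nlinarith
    · rw [he] at hmain
      nlinarith
  have h5 : q = t * y := by
    apply mul_left_cancel₀ hg0.ne'
    rw [h2, h4]
    ring
  have h6 : t ∣ d := by
    have : d = t * (y - 4) := by linear_combination h5 - ht
    exact ⟨_, this⟩
  have h7 : t ≤ 1 := by
    rcases hd with rfl | rfl
    · exact Int.le_of_dvd (by norm_num) h6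
    · exact Int.le_of_dvd (by norm_num) (by simpa using h6)
  rcases hd with rfl | rfl <;> omega

end

end Cfsg.Agent.R2.Spec.X4.H10
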