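import Cfsg.Agent.R2.Spec.X4.H10.Num

/-!
# X4, the symplectic and orthogonal rows: the numeric core, III (helper10)

* `charB` : `k'` a power of the characteristic;
* `coreP` : the two-factor tori, `b`-case;
* `coreQ` : the two-factor tori, `4`-case.
-/

set_option autoImplicit false

namespace Cfsg.Agent.R2.Spec.X4.H10

/-- **`k'` is a power of the characteristic.** -/
theorem charB {q d A B k k' g H v : ℤ} {a b : ℕ} (hd : d = 1 ∨ d = -1) (hq : 17 ≤ q) (hA : 2 * A = q ^ 3 + d)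
    (hB : 2 * B = q ^ 3 - d) (hk3 : q ^ 2 - q + 1 ≤ 3 * k) (hk3' : q ^ 2 - q + 1 ≤ 3 * k')
    (hful : q ^ 2 - q + 1 ≤ k ∨ q ^ 2 - q + 1 ≤ k') (hk' : k' ≤ q ^ 2 + q + 1)
    (hkB : k' ∣ B) (hB2 : B % 2 = 0) (hv7 : 7 ≤ v) (hv2 : v % 2 = 1) (hka : k' = v ^ a)
    (hg : g = 1 ∨ g = 2 ∨ g = 4) (hH : 0 < H) (hE : H * (v ^ b + 1) = g * A) (hk : k ∣ v ^ b + 1) : False := by
  have hU1 := one_le_pow' (by omega : (2 : ℤ) ≤ v) b
  have hUk := Int.le_of_dvd (by omega) hk
  have hk0 : 0 < k' := by nlinarith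
  have hgA : 2 * (g * A) ≤ g * (q ^ 3 + 1) := by
    rcases hg with rfl | rfl | rfl <;> rcases hd with rfl | rfl <;> linarith
  by_cases hab : a ≤ b
  · have h1 : k' ∣ v ^ b := by rw [hka]; exact pow_dvd_pow v hab
    have h2 := Int.le_of_dvd (by omega) h1
    have h3 : q ^ 2 - q + 1 ≤ v ^ b + 1 := by
      rcases hful with h | h <;> linarith
    have h4 : k' ∣ H - g * d := by
      have : H - g * d = g * B - H * v ^ b := by
        have : 2 * (H - g * d) = 2 * (g * B - H * v ^ b) := by linear_combination 2 * hE + g * hA - g * hB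
        linarith
      rw [this]
      exact dvd_sub (Dvd.dvd.mul_left hkB _) (Dvd.dvd.mul_left h1 _)
    have h5 : 2 * H * (q ^ 2 - q + 1) ≤ 4 * (q ^ 3 + 1) := by
      have a1 : H * (q ^ 2 - q + 1) ≤ H * (v ^ b + 1) := mul_le_mul_of_nonneg_left h3 hH.le
      have a2 : g * (q ^ 3 + 1) ≤ 4 * (q ^ 3 + 1) := mul_le_mul_of_nonneg_right (by omega) (by positivity)
      linarith
    have h6 : H ≤ 2 * (q + 1) := by
      by_contra hcon
      rw [not_le] at hcon
      have a1 : (2 * (q + 1) + 1) * (q ^ 2 - q + 1) ≤ H * (q ^ 2 - q + 1) :=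
        mul_le_mul_of_nonneg_right (by omega) (by nlinarith)
      nlinarith
    have h7 : H - g * d = 0 := by
      apply eq_zero_of_dvd_abs h4
      have a1 : |H - g * d| ≤ H + 4 := by
        rw [abs_le]
        rcases hg with rfl | rfl | rfl <;> rcases hd with rfl | rfl <;> omega
      nlinarith
    have h8 : d = 1 := by
      rcases hd with h | h
      · exact h
      · rw [h] at h7
        omega
    subst h8
    have h9 : H = g := by linarith
    rw [h9] at hE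
    have h10 : v ^ b + 1 = A := mul_left_cancel₀ (by omega) hE
    have h11 := odd_pow hv2 b
    omega
  · -- `7 v ^ b ≤ k'`
    have h1 : 7 * v ^ b ≤ k' := by
      rw [hka]
      have h2 : v ^ (b + 1) ≤ v ^ a := pow_le_pow_right₀ (by omega) (by omega)
      have h3 : 7 * v ^ b ≤ v * v ^ b := mul_le_mul_of_nonneg_right hv7 (by omega)
      rw [pow_succ, mul_comm] at h2
      linarith
    nlinarith

theorem polyP (y : ℕ) : 108 * (((y : ℤ) + 23 + 17) ^ 3 + 1) <
    (((y : ℤ) + 23 + 17) ^ 2 - (y + 23 + 17) + 1) * (5 * ((y + 23 + 17) ^ 2 - (y + 23 + 17) + 1) - 78) := by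
  have : 0 < (((y : ℤ) + 23 + 17) ^ 2 - (y + 23 + 17) + 1) * (5 * ((y + 23 + 17) ^ 2 - (y + 23 + 17) + 1) - 78) -
      108 * ((y + 23 + 17) ^ 3 + 1) := by
    ring_nf; positivity
  linarith

theorem polyR (y : ℕ) : 18 * (((y : ℤ) + 23 + 17) ^ 3 + 1) <
    (((y : ℤ) + 23 + 17) ^ 2 - (y + 23 + 17) + 1) * (((y + 23 + 17) ^ 2 - (y + 23 + 17) + 1) - 15) := by
  have : 0 < (((y : ℤ) + 23 + 17) ^ 2 - (y + 23 + 17) + 1) * (((y + 23 + 17) ^ 2 - (y + 23 + 17) + 1) - 15) -
      18 * ((y + 23 + 17) ^ 3 + 1) := by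
    ring_nf; positivity
  linarith

section P

variable {q d A B k u g h h' e1 e2 e3 σ : ℤ} {N : ℕ}

/-- **The two-factor tori, `b`-case.** -/
theorem coreP (hd : d = 1 ∨ d = -1) (hq : 17 ≤ q) (hA : 2 * A = q ^ 3 + d)
    (hB : 2 * B = q ^ 3 - d) (hk3 : q ^ 2 - q + 1 ≤ 3 * k) (hu : 2 ≤ u) (hN : 3 ≤ N) (hk : k ∣ u ^ N + e1)
    (hh : h % 2 = 1) (hh0 : 0 < h) (hE : h * (u + e3) * (u ^ N + e1) = g * A)
    (hE' : h' * (u * u ^ N + e2) = g * B)
    (hc : (e1 = 1 ∧ e2 = -1 ∧ e3 = 1 ∧ (g = 1 ∨ (g = 4 ∧ 5 ≤ u))) ∨ (e1 = -1 ∧ e2 = 1 ∧ e3 = 1 ∧ g = 1) ∨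
      (e1 = 1 ∧ e2 = 1 ∧ e3 = -1 ∧ (g = 1 ∨ g = 4)))
    (hg1 : g = 1 → u % 2 = 0) (hg4 : g = 4 → u % 2 = 1 ∧ 4 ≤ N) : False := by
  have hg : g = 1 ∨ g = 4 := by tauto
  obtain ⟨σ, hσ, hσw⟩ : ∃ σ : ℤ, (σ = 1 ∨ σ = -1) ∧ e1 * u - e2 = σ * (u + e3) := by
    rcases hc with ⟨rfl, rfl, rfl, -⟩ | ⟨rfl, rfl, rfl, -⟩ | ⟨rfl, rfl, rfl, -⟩
    · exact ⟨1, Or.inl rfl, by ring⟩
    · exact ⟨-1, Or.inr rfl, by ring⟩
    · exact ⟨1, Or.inl rfl, by ring⟩
  have he1 : e1 = 1 ∨ e1 = -1 := by tauto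
  have hY8 : u ^ 3 ≤ u ^ N := pow_le_pow_right₀ (by omega) hN
  have hY8' : 8 ≤ u ^ N := by
    have : (2 : ℤ) ^ 3 ≤ u ^ 3 := pow_le_pow_left₀ (by norm_num) hu 3
    linarith
  have hw1 : 1 ≤ u + e3 := by
    rcases hc with ⟨rfl, rfl, rfl, -⟩ | ⟨rfl, rfl, rfl, -⟩ | ⟨rfl, rfl, rfl, -⟩ <;> omega
  have hw2 : 2 * (u + e3) ≤ 3 * u := by
    rcases hc with ⟨rfl, rfl, rfl, -⟩ | ⟨rfl, rfl, rfl, -⟩ | ⟨rfl, rfl, rfl, -⟩ <;> omega
  set w := u + e3 with hwd
  set Y := u ^ N with hYd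
  have hX0 : 0 < Y + e1 := by rcases he1 with rfl | rfl <;> omega
  have hkX := Int.le_of_dvd hX0 hk
  -- the identity
  have hZ : (u * Y + e2) * (u * h' - h * w) = σ * (h * w ^ 2) - g * (d * u) := by
    have : 2 * ((u * Y + e2) * (u * h' - h * w)) = 2 * (σ * (h * w ^ 2) - g * (d * u)) := by
      linear_combination 2 * u * hE' - 2 * u * hE - u * g * hA + u * g * hB + 2 * h * w * hσw
    linarith
  have hD : u * Y + e2 = u * (Y + e1) - σ * w := by rw [← hσw]; ring
  by_cases hZ0 : u * h' - h * w = 0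
  · rw [hZ0, mul_zero] at hZ
    rcases hg with rfl | rfl
    · -- parity
      have hu2 := hg1 rfl
      have hw' : w % 2 = 1 := by
        rcases hc with ⟨rfl, rfl, rfl, -⟩ | ⟨rfl, rfl, rfl, -⟩ | ⟨rfl, rfl, rfl, -⟩ <;> omega
      have h1 : (h * w ^ 2) % 2 = 1 := by
        rw [Int.mul_emod, hh, pow_two, Int.mul_emod w w, hw']
        rfl
      have h2 : (d * u) % 2 = 0 := by rcases hd with rfl | rfl <;> omega
      rcases hσ with rfl | rfl <;> omega
    · obtain ⟨hu2, hN4⟩ := hg4 rfl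
      obtain ⟨c, hc2⟩ : ∃ c, w = 2 * c := by
        obtain ⟨c, hc⟩ : (2 : ℤ) ∣ w := by
          apply Int.dvd_of_emod_eq_zero
          rcases hc with ⟨rfl, rfl, rfl, -⟩ | ⟨rfl, rfl, rfl, -⟩ | ⟨rfl, rfl, rfl, -⟩ <;> omega
        exact ⟨c, hc⟩
      have h1 : d * u = σ * (h * c ^ 2) := by
        rw [hc2] at hZ
        linarith
      have h2 : c ∣ u := by
        have : c ∣ d * u := by rw [h1]; exact ⟨σ * (h * c), by ring⟩
        rcases hd with rfl | rfl
        · simpa using this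
        · simpa using this
      have h3 : c ∣ 1 := by
        have h4 : c ∣ w - u := dvd_sub (Dvd.intro_left 2 hc2.symm) h2
        rcases hc with ⟨rfl, rfl, rfl, -⟩ | ⟨rfl, rfl, rfl, -⟩ | ⟨rfl, rfl, rfl, -⟩
        · rwa [hwd, add_sub_cancel_left] at h4
        · rwa [hwd, add_sub_cancel_left] at h4
        · rw [hwd, add_sub_cancel_left] at h4
          exact (dvd_neg.1 h4)
      have h4 : c = 1 := by
        have := Int.le_of_dvd one_pos h3
        omega
      rw [h4] at hc2 h1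
      rcases hc with ⟨rfl, rfl, rfl, h5⟩ | ⟨rfl, rfl, rfl, h5⟩ | ⟨rfl, rfl, rfl, -⟩
      · omega
      · omega
      · have hu3 : u = 3 := by omega
        have hσ1 : σ = 1 := by
          rcases hσ with h | h
          · exact h
          · rw [h, hu3, hc2] at hσw
            omega
        rw [hσ1, hu3] at h1
        have h6 : h = 3 := by rcases hd with rfl | rfl <;> omega
        have h7 : d = 1 := by rcases hd with rfl | rfl <;> omega
        rw [hu3, h6, hc2] at hZ0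
        have h8 : h' = 2 := by omega
        rw [h8, hu3] at hE'
        have h9 : Y % 3 = 0 := by
          rw [hYd, hu3]
          obtain ⟨j, rfl⟩ : ∃ j, N = j + 1 := ⟨N - 1, by omega⟩
          rw [pow_succ]
          omega
        have := cube_nine q
        omega
  · -- the inequality
    have h1 : u * Y + e2 ≤ h * w ^ 2 + g * u := by
      have hD0 : 0 < u * Y + e2 := by
        have : 2 * Y ≤ u * Y := mul_le_mul_of_nonneg_right hu (by omega)
        rcases hc with ⟨-, rfl, -⟩ | ⟨-, rfl, -⟩ | ⟨-, rfl, -⟩ <;> omega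
      have a1 : (u * Y + e2) * 1 ≤ (u * Y + e2) * |u * h' - h * w| :=
        mul_le_mul_of_nonneg_left (Int.one_le_abs hZ0) hD0.le
      have a2 : (u * Y + e2) * |u * h' - h * w| = |σ * (h * w ^ 2) - g * (d * u)| := by
        rw [← hZ, abs_mul, abs_of_pos hD0]
      have a3 : |σ * (h * w ^ 2) - g * (d * u)| ≤ h * w ^ 2 + g * u := by
        have b1 : 0 ≤ h * w ^ 2 := by positivity
        have b2 : 0 ≤ g * u := by rcases hg with rfl | rfl <;> omega
        rw [abs_le]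
        rcases hσ with rfl | rfl <;> rcases hd with rfl | rfl <;> constructor <;> linarith
      linarith
    have hgA : 2 * (g * A) ≤ g * (q ^ 3 + 1) := by
      rcases hg with rfl | rfl <;> rcases hd with rfl | rfl <;> linarith
    have h2 : 2 * ((u * (Y + e1) - w) * (Y + e1)) ≤ w * (g * (q ^ 3 + 1)) + 2 * (g * u) * (Y + e1) := by
      have a1 : (u * (Y + e1) - w) * (Y + e1) ≤ (u * Y + e2) * (Y + e1) := by
        apply mul_le_mul_of_nonneg_right _ hX0.le
        rw [hD]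
        rcases hσ with rfl | rfl <;> linarith
      have a2 : (u * Y + e2) * (Y + e1) ≤ (h * w ^ 2 + g * u) * (Y + e1) := mul_le_mul_of_nonneg_right h1 hX0.le
      have a3 : (h * w ^ 2 + g * u) * (Y + e1) = w * (g * A) + (g * u) * (Y + e1) := by
        linear_combination w * hE
      have a4 : w * (2 * (g * A)) ≤ w * (g * (q ^ 3 + 1)) := mul_le_mul_of_nonneg_left hgA (by omega)
      linarith
    set X := Y + e1 with hXd
    have hX3 : q ^ 2 - q + 1 ≤ 3 * X := by linarith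
    have hq3 : 0 ≤ q ^ 3 + 1 := by positivity
    obtain ⟨x, rfl⟩ := exists_add hq
    rcases hg with rfl | rfl
    · -- `4 X² - 10 X ≤ 3 (q³ + 1)`
      have h3 : u * (4 * X ^ 2 - 10 * X) ≤ u * (3 * (((x : ℤ) + 17) ^ 3 + 1)) := by
        have b1 : (2 * w) * ((x + 17) ^ 3 + 1) ≤ (3 * u) * ((x + 17) ^ 3 + 1) := mul_le_mul_of_nonneg_right hw2 hq3
        have b2 : (2 * w) * X ≤ (3 * u) * X := mul_le_mul_of_nonneg_right hw2 hX0.le
        linarith
      have h4 := le_of_mul_le_mul_left h3 (by omega)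
      have h5 : 2 * (((x : ℤ) + 17) ^ 2 - (x + 17) + 1) ^ 2 ≤ 18 * X ^ 2 := by
        have : (((x : ℤ) + 17) ^ 2 - (x + 17) + 1) ^ 2 ≤ (3 * X) ^ 2 := pow_le_pow_left₀ (by nlinarith) hX3 2
        linarith
      have h6 : 91 ≤ X := by nlinarith
      nlinarith
    · obtain ⟨hu2, hN4⟩ := hg4 rfl
      have hY4 : u ^ 4 ≤ Y := pow_le_pow_right₀ (by omega) hN4
      rcases hc with ⟨rfl, rfl, rfl, h5⟩ | ⟨rfl, rfl, rfl, h5⟩ | ⟨rfl, rfl, rfl, -⟩
      · have hu5 : 5 ≤ u := by omega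
        have hX6 : 626 ≤ X := by
          have : (5 : ℤ) ^ 4 ≤ u ^ 4 := pow_le_pow_left₀ (by norm_num) hu5 4
          linarith
        have hw5 : 5 * w ≤ 6 * u := by omega
        have h3 : u * (5 * X ^ 2 - 26 * X) ≤ u * (12 * (((x : ℤ) + 17) ^ 3 + 1)) := by
          have b1 : (5 * w) * ((x + 17) ^ 3 + 1) ≤ (6 * u) * ((x + 17) ^ 3 + 1) := mul_le_mul_of_nonneg_right hw5 hq3
          have b2 : (5 * w) * X ≤ (6 * u) * X := mul_le_mul_of_nonneg_right hw5 hX0.le
          linarith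
        have h4 := le_of_mul_le_mul_left h3 (by omega)
        by_cases hx : x ≤ 22
        · have b1 : ((x : ℤ) + 17) ^ 3 ≤ 39 ^ 3 := pow_le_pow_left₀ (by positivity) (by omega) 3
          nlinarith
        · obtain ⟨y, rfl⟩ : ∃ y, x = y + 23 := ⟨x - 23, by omega⟩
          push_cast at h4 hX3 ⊢
          have b1 : (((y : ℤ) + 23 + 17) ^ 2 - (y + 23 + 17) + 1) * (5 * ((y + 23 + 17) ^ 2 - (y + 23 + 17) + 1) - 78) ≤
              (3 * X) * (5 * (3 * X) - 78) := mul_le_mul hX3 (by linarith) (by nlinarith) (by linarith)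
          linarith [polyP y]
      · omega
      · by_cases hu3 : u = 3
        · subst hu3
          have hw : w = 2 := by omega
          rw [hw] at h2
          have b1 : (((x : ℤ) + 17) ^ 2 - (x + 17) + 1) * (((x + 17) ^ 2 - (x + 17) + 1) - 14) ≤
              (3 * X) * ((3 * X) - 14) := mul_le_mul hX3 (by linarith) (by nlinarith) (by linarith)
          nlinarith
        · have hu5 : 5 ≤ u := by omega
          have hX6 : 626 ≤ X := by
            have : (5 : ℤ) ^ 4 ≤ u ^ 4 := pow_le_pow_left₀ (by norm_num) hu5 4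
            linarith
          have hwu : w ≤ u := by omega
          have h3 : u * (X ^ 2 - 5 * X) ≤ u * (2 * (((x : ℤ) + 17) ^ 3 + 1)) := by
            have b1 : w * ((x + 17) ^ 3 + 1) ≤ u * ((x + 17) ^ 3 + 1) := mul_le_mul_of_nonneg_right hwu hq3
            have b2 : w * X ≤ u * X := mul_le_mul_of_nonneg_right hwu hX0.le
            linarith
          have h4 := le_of_mul_le_mul_left h3 (by omega)
          by_cases hx : x ≤ 22
          · have b1 : ((x : ℤ) + 17) ^ 3 ≤ 39 ^ 3 := pow_le_pow_left₀ (by positivity) (by omega) 3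
            nlinarith
          · obtain ⟨y, rfl⟩ : ∃ y, x = y + 23 := ⟨x - 23, by omega⟩
            push_cast at h4 hX3 ⊢
            have b1 : (((y : ℤ) + 23 + 17) ^ 2 - (y + 23 + 17) + 1) * (((y + 23 + 17) ^ 2 - (y + 23 + 17) + 1) - 15) ≤
                (3 * X) * ((3 * X) - 15) := mul_le_mul hX3 (by linarith) (by nlinarith) (by linarith)
            linarith [polyR y]

end P

end Cfsg.Agent.R2.Spec.X4.H10
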