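import Cfsg.Agent.R2.Spec.X4.H10.Elt2

/-!
# X4, the symplectic and orthogonal rows: the shapes of the isolated tori (helper10)
-/

set_option autoImplicit false
set_option linter.unusedSectionVars false
set_option linter.unusedVariables false

namespace Cfsg.Agent.R2.Spec.X4.H10

open Subgroup Cfsg
open Cfsg.Agent.H426.LieFam Cfsg.Agent.R2.Spec Cfsg.Agent.R2.Spec.P1 Cfsg.Agent.R2.Spec.F1
open Cfsg.Agent.H72 Cfsg.Agent.H377

universe u

/-- a big class `j` : `tnum = u ^ s + e₂` with `s + m = N` -/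
def Low (t : Fam) (u N : ℕ) (e1 : ℤ) (j : ℕ) : Prop :=
  ∃ (s m : ℕ) (e2 : ℤ), 1 ≤ s ∧ s + m = N ∧ (e2 = 1 ∨ e2 = -1) ∧ (tnum t u j : ℤ) = (u : ℤ) ^ s + e2 ∧
    (m = 0 → e1 = -e2) ∧ (e2 = -1 → s % 2 = 1)

/-- one factor -/
def Single (t : Fam) (u i T : ℕ) : Prop :=
  ∃ (N : ℕ) (g e1 : ℤ), 2 ≤ N ∧ (e1 = 1 ∨ e1 = -1) ∧ (g = 1 ∨ g = 2 ∨ g = 4) ∧ (g = 1 ∨ (u : ℤ) % 2 = 1) ∧
    (T : ℤ) * g = (u : ℤ) ^ N + e1 ∧ (tnum t u i : ℤ) = (u : ℤ) ^ N + e1 ∧ (e1 = -1 → N % 2 = 1) ∧
    (An t i → e1 = 1) ∧ ∀ j, Big t j → j ≠ i → Low t u N e1 j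

/-- two factors -/
def Double (t : Fam) (u i T : ℕ) : Prop :=
  ∃ (N : ℕ) (g e1 e2 e3 : ℤ), 3 ≤ N ∧ (T : ℤ) * g = ((u : ℤ) + e3) * ((u : ℤ) ^ N + e1) ∧
    (tnum t u i : ℤ) = (u : ℤ) ^ N + e1 ∧ (e1 = -1 → N % 2 = 1) ∧ (An t i → e1 = 1) ∧
    ((e1 = 1 ∧ e2 = -1 ∧ e3 = 1 ∧ (g = 1 ∨ (g = 4 ∧ 5 ≤ (u : ℤ)))) ∨ (e1 = -1 ∧ e2 = 1 ∧ e3 = 1 ∧ g = 1) ∨
      (e1 = 1 ∧ e2 = 1 ∧ e3 = -1 ∧ (g = 1 ∨ g = 4))) ∧ (g = 1 → (u : ℤ) % 2 = 0) ∧
    (g = 4 → (u : ℤ) % 2 = 1 ∧ 4 ≤ N) ∧ g ∣ (u : ℤ) * (u : ℤ) ^ N + e2 ∧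
    ∀ j, Big t j → j ≠ i → Low t u N e1 j ∨
      ((tnum t u j : ℤ) = (u : ℤ) * (u : ℤ) ^ N + e2 ∧ top t j ∧ ttor t u j * g.toNat = tnum t u j)

section num

variable {u k : ℕ}

theorem cast_pow_sub (hu : 1 ≤ u) (k : ℕ) : ((u ^ k - 1 : ℕ) : ℤ) = (u : ℤ) ^ k + -1 := by
  push_cast [Nat.cast_sub (Nat.one_le_pow k u hu)]
  ring

theorem gcd_two_cases (u : ℕ) (hu : 1 ≤ u) :
    (Nat.gcd 2 (u - 1) = 1 ∧ u % 2 = 0) ∨ (Nat.gcd 2 (u - 1) = 2 ∧ u % 2 = 1) := by
  rcases (Nat.dvd_prime Nat.prime_two).1 (Nat.gcd_dvd_left 2 (u - 1)) with h | h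
  · left
    refine ⟨h, ?_⟩
    by_contra hcon
    have : 2 ∣ Nat.gcd 2 (u - 1) := Nat.dvd_gcd dvd_rfl (by omega)
    rw [h] at this
    omega
  · right
    refine ⟨h, ?_⟩
    have : 2 ∣ u - 1 := by rw [← h]; exact Nat.gcd_dvd_right 2 (u - 1)
    omega

theorem pow_mod_two (hu : u % 2 = 1) (k : ℕ) : u ^ k % 2 = 1 := by
  simp [Nat.pow_mod, hu]

theorem gcd_four_cases (m : ℕ) : Nat.gcd 4 m = 1 ∨ Nat.gcd 4 m = 2 ∨ Nat.gcd 4 m = 4 := by
  have h := Nat.gcd_dvd_left 4 m
  have h1 := Nat.le_of_dvd (by norm_num) h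
  have h2 : 0 < Nat.gcd 4 m := Nat.gcd_pos_of_pos_left _ (by norm_num)
  interval_cases Nat.gcd 4 m <;> omega

/-- `g = (4, m)`, `m` even or odd -/
theorem gcd_four_even {m : ℕ} (hm : m % 2 = 0) : Nat.gcd 4 m ≠ 1 := by
  intro h
  have : 2 ∣ Nat.gcd 4 m := Nat.dvd_gcd (by norm_num) (by omega)
  rw [h] at this
  omega

theorem gcd_four_eq {m : ℕ} (h : Nat.gcd 4 m = 4) : m % 4 = 0 := by
  have : 4 ∣ m := by rw [← h]; exact Nat.gcd_dvd_right 4 m
  omega

theorem tnum_nodd {t : Fam} (h : SpO t) {u s : ℕ} (hs : s % 2 = 1) : tnum t u s = u ^ s - 1 := by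
  have h1 : ¬ Even s := by rw [Nat.even_iff]; omega
  cases t <;> first | exact h.elim | simp only [tnum, if_neg h1]

theorem tnum_neven {t : Fam} (h : SpO t) {u s : ℕ} : tnum t u (2 * s) = u ^ s + 1 := by
  have h1 : (2 * s) / 2 = s := by omega
  cases t <;> first | exact h.elim | simp only [tnum, if_pos (even_two_mul s), h1]

theorem tnum_even {t : Fam} (h : SpO t) {u s : ℕ} (hu : 1 ≤ u) : (tnum t u (2 * s) : ℤ) = (u : ℤ) ^ s + 1 := by
  have h1 : (2 * s) / 2 = s := by omega
  cases t <;> first | exact h.elim | (simp only [tnum, if_pos (even_two_mul s), h1]; push_cast; ring)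

theorem tnum_odd {t : Fam} (h : SpO t) {u s : ℕ} (hu : 1 ≤ u) (hs : s % 2 = 1) :
    (tnum t u s : ℤ) = (u : ℤ) ^ s + -1 := by
  have h1 : ¬ Even s := by rw [Nat.even_iff]; omega
  cases t <;> first | exact h.elim | (simp only [tnum, if_neg h1]; exact cast_pow_sub hu s)

theorem sq_mod_four (hu : u % 2 = 1) (k : ℕ) (hk : k % 2 = 0) : u ^ k % 4 = 1 := by
  obtain ⟨j, rfl⟩ : ∃ j, k = 2 * j := ⟨k / 2, by omega⟩
  rw [pow_mul]
  have h1 : u ^ 2 % 4 = 1 := by
    have : u % 4 = 1 ∨ u % 4 = 3 := by omega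
    rcases this with h | h <;> rw [Nat.pow_mod, h]
  rw [Nat.pow_mod, h1, one_pow]
  rfl

theorem odd_mod_four (hu : u % 2 = 1) (k : ℕ) (hk : k % 2 = 1) : u ^ k % 4 = u % 4 := by
  obtain ⟨j, rfl⟩ : ∃ j, k = j + 1 := ⟨k - 1, by omega⟩
  rw [pow_succ, Nat.mul_mod, sq_mod_four hu j (by omega), one_mul, Nat.mod_mod]

end num

/-- the low big classes -/
theorem low_of {t : Fam} (h : SpO t) {u N j : ℕ} {e1 : ℤ} (hu : 1 ≤ u) (hj3 : 3 ≤ j) (hjN : eta j ≤ N)
    (he : eta j = N → (j = 2 * N ∧ e1 = -1) ∨ (j = N ∧ e1 = 1 ∧ N % 2 = 1)) : Low t u N e1 j := by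
  rcases eta_cases j with ⟨h5, h6⟩ | ⟨h5, h6⟩
  · rw [Nat.odd_iff] at h5
    refine ⟨j, N - j, -1, by omega, by omega, Or.inr rfl, tnum_odd h hu h5, ?_, fun _ => h5⟩
    intro hm
    have h7 := he (by omega)
    rcases h7 with ⟨h7, -⟩ | ⟨-, h7, -⟩
    · omega
    · rw [h7]; ring
  · rw [Nat.even_iff] at h5
    obtain ⟨s, rfl⟩ : ∃ s, j = 2 * s := ⟨j / 2, by omega⟩
    have h8 : eta (2 * s) = s := by omega
    refine ⟨s, N - s, 1, by omega, by omega, Or.inl rfl, tnum_even h hu, ?_, fun h => by norm_num at h⟩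
    intro hm
    have h7 := he (by omega)
    rcases h7 with ⟨-, h7⟩ | ⟨h7, -, -⟩
    · rw [h7]
    · omega

section

variable {t : Fam} {v f : ℕ} {S : Type u} [Group S]

theorem div_cast {X g : ℕ} {Y : ℤ} (hd : g ∣ X) (hX : (X : ℤ) = Y) : ((X / g : ℕ) : ℤ) * (g : ℤ) = Y := by
  rw [← hX]
  exact_mod_cast Nat.div_mul_cancel hd

theorem shape (h : SpO t) (hv : v.Prime) (hI : Fam.Is v f S t) {i : ℕ} (hi : top t i)
    (hodd : ttor t (v ^ f) i % 2 = 1) : Single t (v ^ f) i (ttor t (v ^ f) i) ∨ Double t (v ^ f) i (ttor t (v ^ f) i) := by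
  have hf := H4.is_f_ne h.cla hI
  have hq2 : 2 ≤ v ^ f := hv.two_le.trans (Nat.le_self_pow hf v)
  set u := v ^ f with hu
  have hu1 : 1 ≤ u := by omega
  have hgc := gcd_two_cases u hu1
  have g2 : ((Nat.gcd 2 (u - 1) : ℕ) : ℤ) = 1 ∨ ((Nat.gcd 2 (u - 1) : ℕ) : ℤ) = 2 ∨ ((Nat.gcd 2 (u - 1) : ℕ) : ℤ) = 4 := by
    rcases hgc with ⟨h1, -⟩ | ⟨h1, -⟩ <;> rw [h1] <;> norm_num
  have g2' : ((Nat.gcd 2 (u - 1) : ℕ) : ℤ) = 1 ∨ (u : ℤ) % 2 = 1 := by
    rcases hgc with ⟨h1, -⟩ | ⟨h1, h2⟩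
    · left; rw [h1]; norm_num
    · right; omega
  have hm2 : ∀ k, Nat.gcd 2 (u - 1) ∣ u ^ k - 1 := fun k =>
    (Nat.gcd_dvd_right 2 (u - 1)).trans (by simpa using Nat.sub_dvd_pow_sub_pow u 1 k)
  have hp2 : ∀ k, Nat.gcd 2 (u - 1) ∣ u ^ k + 1 := by
    intro k
    rcases hgc with ⟨h1, h2⟩ | ⟨h1, h2⟩
    · rw [h1]; exact one_dvd _
    · rw [h1]
      have := pow_mod_two h2 k
      omega
  have hm4 : ∀ X : ℕ, ((Nat.gcd 4 X : ℕ) : ℤ) = 1 ∨ ((Nat.gcd 4 X : ℕ) : ℤ) = 2 ∨ ((Nat.gcd 4 X : ℕ) : ℤ) = 4 := by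
    intro X
    rcases gcd_four_cases X with h | h | h <;> rw [h] <;> norm_num
  have hpu : ∀ k, 1 ≤ k → u % 2 = 0 → u ^ k % 2 = 0 := fun k hk h0 => pow_even (Nat.even_iff.2 h0) hk
  have hle : ∀ k : ℕ, 1 ≤ k → u ≤ u ^ k := fun k hk => Nat.le_self_pow (by omega) _
  cases t with
  | psp n =>
    obtain ⟨hn, -⟩ := hI
    change i = 2 * n ∨ (i = n ∧ n % 2 = 1) at hi
    left
    rcases hi with rfl | ⟨rfl, hi⟩
    · refine ⟨n, (Nat.gcd 2 (u - 1) : ℕ), 1, hn, Or.inl rfl, g2, g2', ?_, tnum_even h hu1, fun h => by norm_num at h,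
        fun _ => rfl, ?_⟩
      · rw [ttor, if_pos rfl]
        exact div_cast (hp2 n) (by push_cast; ring)
      · intro j hj hji
        obtain ⟨hj3, hjm, hjb⟩ := hj
        change eta j ≤ n at hjm
        refine low_of h hu1 hj3 hjm fun he => ?_
        rcases eta_cases j with ⟨h5, h6⟩ | ⟨h5, h6⟩
        · rw [Nat.odd_iff] at h5
          right
          refine ⟨by omega, rfl, by omega⟩
        · omega
    · refine ⟨i, (Nat.gcd 2 (u - 1) : ℕ), -1, hn, Or.inr rfl, g2, g2', ?_, tnum_odd h hu1 hi, fun _ => hi, ?_, ?_⟩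
      · rw [ttor, if_neg (by omega)]
        exact div_cast (hm2 i) (cast_pow_sub hu1 i)
      · intro hA
        change i = 2 * i at hA
        omega
      · intro j hj hji
        obtain ⟨hj3, hjm, hjb⟩ := hj
        change eta j ≤ i at hjm
        refine low_of h hu1 hj3 hjm fun he => ?_
        rcases eta_cases j with ⟨h5, h6⟩ | ⟨h5, h6⟩
        · omega
        · left
          refine ⟨by omega, rfl⟩
  | oodd n =>
    obtain ⟨hn, -⟩ := hI
    change i = 2 * n ∨ (i = n ∧ n % 2 = 1) at hi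
    left
    rcases hi with rfl | ⟨rfl, hi⟩
    · refine ⟨n, (Nat.gcd 2 (u - 1) : ℕ), 1, by omega, Or.inl rfl, g2, g2', ?_, tnum_even h hu1,
        fun h => by norm_num at h, fun _ => rfl, ?_⟩
      · rw [ttor, if_pos rfl]
        exact div_cast (hp2 n) (by push_cast; ring)
      · intro j hj hji
        obtain ⟨hj3, hjm, hjb⟩ := hj
        change eta j ≤ n at hjm
        refine low_of h hu1 hj3 hjm fun he => ?_
        rcases eta_cases j with ⟨h5, h6⟩ | ⟨h5, h6⟩
        · rw [Nat.odd_iff] at h5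
          right
          refine ⟨by omega, rfl, by omega⟩
        · omega
    · refine ⟨i, (Nat.gcd 2 (u - 1) : ℕ), -1, by omega, Or.inr rfl, g2, g2', ?_, tnum_odd h hu1 hi, fun _ => hi, ?_, ?_⟩
      · rw [ttor, if_neg (by omega)]
        exact div_cast (hm2 i) (cast_pow_sub hu1 i)
      · intro hA
        change i = 2 * i at hA
        omega
      · intro j hj hji
        obtain ⟨hj3, hjm, hjb⟩ := hj
        change eta j ≤ i at hjm
        refine low_of h hu1 hj3 hjm fun he => ?_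
        rcases eta_cases j with ⟨h5, h6⟩ | ⟨h5, h6⟩
        · omega
        · left
          refine ⟨by omega, rfl⟩
  | oplus n =>
    obtain ⟨hn, -⟩ := hI
    change (i = n ∧ n % 2 = 1) ∨ i = 2 * (n - 1) ∨ (i = n - 1 ∧ n % 2 = 0) at hi
    rcases hi with ⟨rfl, hi⟩ | rfl | ⟨rfl, hi⟩
    · left
      refine ⟨i, (Nat.gcd 4 (u ^ i - 1) : ℕ), -1, by omega, Or.inr rfl, hm4 _, ?_, ?_, tnum_odd h hu1 hi, fun _ => hi,
        ?_, ?_⟩
      · by_cases h0 : u % 2 = 1
        · right; omega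
        · left
          rw [gcd_four_odd (by have := hpu i (by omega) (by omega); have := hle i (by omega); omega)]
          norm_num
      · rw [ttor, if_pos rfl]
        exact div_cast (Nat.gcd_dvd_right _ _) (cast_pow_sub hu1 i)
      · intro hA
        change i + 2 = 2 * i at hA
        omega
      · intro j hj hji
        obtain ⟨hj3, hjm, hjb⟩ := hj
        change eta j + 1 ≤ i ∨ (j = i ∧ i % 2 = 1) at hjm
        exact low_of h hu1 hj3 (by omega) fun he => by omega
    · by_cases hn2 : n % 2 = 0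
      · left
        refine ⟨n - 1, (Nat.gcd 2 (u - 1) : ℕ), 1, by omega, Or.inl rfl, g2, g2', ?_, tnum_even h hu1,
          fun h => by norm_num at h, fun _ => rfl, ?_⟩
        · rw [ttor, if_neg (by omega), if_neg (by omega), if_pos hn2]
          exact div_cast (hp2 (n - 1)) (by push_cast; ring)
        · intro j hj hji
          obtain ⟨hj3, hjm, hjb⟩ := hj
          change eta j + 1 ≤ n ∨ (j = n ∧ n % 2 = 1) at hjm
          refine low_of h hu1 hj3 (by omega) fun he => ?_
          rcases eta_cases j with ⟨h5, h6⟩ | ⟨h5, h6⟩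
          · rw [Nat.odd_iff] at h5
            right
            refine ⟨by omega, rfl, by omega⟩
          · omega
      · right
        have hn2 : n % 2 = 1 := by omega
        have hTdef : ttor (.oplus n) u (2 * (n - 1)) = (u ^ (n - 1) + 1) * (u + 1) / Nat.gcd 4 (u ^ n - 1) := by
          rw [ttor, if_neg (by omega), if_neg (by omega), if_neg (by omega)]
        have hgd : Nat.gcd 4 (u ^ n - 1) ∣ (u ^ (n - 1) + 1) * (u + 1) := by
          by_cases h0 : u % 2 = 1
          · refine (Nat.gcd_dvd_left _ _).trans ?_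
            have h1 := pow_mod_two h0 (n - 1)
            obtain ⟨a, ha⟩ : 2 ∣ u ^ (n - 1) + 1 := by omega
            obtain ⟨b, hb⟩ : 2 ∣ u + 1 := by omega
            exact ⟨a * b, by rw [ha, hb]; ring⟩
          · rw [gcd_four_odd (by have := hpu n (by omega) (by omega); have := hle n (by omega); omega)]
            exact one_dvd _
        have hTg : ttor (.oplus n) u (2 * (n - 1)) * Nat.gcd 4 (u ^ n - 1) = (u ^ (n - 1) + 1) * (u + 1) := by
          rw [hTdef]; exact Nat.div_mul_cancel hgd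
        -- the value of `g`
        have hg : (Nat.gcd 4 (u ^ n - 1) = 1 ∧ u % 2 = 0) ∨ (Nat.gcd 4 (u ^ n - 1) = 4 ∧ u % 4 = 1) := by
          by_cases h0 : u % 2 = 1
          · right
            have h1 := sq_mod_four h0 (n - 1) (by omega)
            have h2 := odd_mod_four h0 n hn2
            have h3 := hle n (by omega)
            rcases gcd_four_cases (u ^ n - 1) with h4 | h4 | h4
            · exact absurd h4 (gcd_four_even (by omega))
            · exfalso
              rw [h4] at hTg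
              obtain ⟨a, ha⟩ : 2 ∣ u + 1 := by omega
              obtain ⟨b, hb⟩ : ∃ b, u ^ (n - 1) + 1 = 2 * b := ⟨(u ^ (n - 1) + 1) / 2, by omega⟩
              -- `T = 2 a b'`
              have h5 : ttor (.oplus n) u (2 * (n - 1)) = 2 * (b * a) := by
                rw [ha, hb] at hTg
                have : ttor (.oplus n) u (2 * (n - 1)) * 2 = (2 * (b * a)) * 2 := by rw [hTg]; ring
                exact Nat.eq_of_mul_eq_mul_right (by norm_num) this
              omega
            · have := gcd_four_eq h4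
              exact ⟨h4, by omega⟩
          · left
            exact ⟨gcd_four_odd (by have := hpu n (by omega) (by omega); have := hle n (by omega); omega), by omega⟩
        refine ⟨n - 1, (Nat.gcd 4 (u ^ n - 1) : ℕ), 1, -1, 1, by omega, ?_, tnum_even h hu1, fun h => by norm_num at h,
          fun _ => rfl, ?_, ?_, ?_, ?_, ?_⟩
        · have := congrArg (Nat.cast : ℕ → ℤ) hTg
          push_cast at this ⊢
          rw [this]
          ring
        · left
          refine ⟨rfl, rfl, rfl, ?_⟩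
          rcases hg with ⟨h1, -⟩ | ⟨h1, h2⟩
          · left; rw [h1]; norm_num
          · right
            rw [h1]
            refine ⟨by norm_num, ?_⟩
            have : u ≠ 1 := by omega
            omega
        · intro h1
          rcases hg with ⟨-, h2⟩ | ⟨h2, -⟩
          · omega
          · rw [h2] at h1; norm_num at h1
        · intro h1
          rcases hg with ⟨h2, -⟩ | ⟨-, h2⟩
          · rw [h2] at h1; norm_num at h1
          · omega
        · have h1 : ((Nat.gcd 4 (u ^ n - 1) : ℕ) : ℤ) ∣ ((u ^ n - 1 : ℕ) : ℤ) := by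
            exact_mod_cast Nat.gcd_dvd_right 4 (u ^ n - 1)
          rw [cast_pow_sub hu1] at h1
          rwa [← pow_succ', show n - 1 + 1 = n by omega]
        · intro j hj hji
          obtain ⟨hj3, hjm, hjb⟩ := hj
          change eta j + 1 ≤ n ∨ (j = n ∧ n % 2 = 1) at hjm
          rcases hjm with hjm | ⟨rfl, -⟩
          · left
            refine low_of h hu1 hj3 (by omega) fun he => ?_
            rcases eta_cases j with ⟨h5, h6⟩ | ⟨h5, h6⟩
            · rw [Nat.odd_iff] at h5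
              omega
            · omega
          · right
            refine ⟨?_, Or.inl ⟨rfl, hn2⟩, ?_⟩
            · rw [tnum_odd h hu1 hn2, ← pow_succ', show j - 1 + 1 = j by omega]
            · rw [ttor, if_pos rfl, Int.toNat_natCast, Nat.div_mul_cancel (Nat.gcd_dvd_right _ _), tnum_nodd h hn2]
    · left
      refine ⟨n - 1, (Nat.gcd 2 (u - 1) : ℕ), -1, by omega, Or.inr rfl, g2, g2', ?_, tnum_odd h hu1 (by omega),
        fun _ => by omega, ?_, ?_⟩
      · rw [ttor, if_neg (by omega), if_pos rfl]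
        exact div_cast (hm2 (n - 1)) (cast_pow_sub hu1 (n - 1))
      · intro hA
        change n - 1 + 2 = 2 * n at hA
        omega
      · intro j hj hji
        obtain ⟨hj3, hjm, hjb⟩ := hj
        change eta j + 1 ≤ n ∨ (j = n ∧ n % 2 = 1) at hjm
        refine low_of h hu1 hj3 (by omega) fun he => ?_
        rcases eta_cases j with ⟨h5, h6⟩ | ⟨h5, h6⟩
        · omega
        · left
          refine ⟨by omega, rfl⟩
  | ominus n =>
    obtain ⟨hn, -⟩ := hI
    change i = 2 * n ∨ i = 2 * (n - 1) ∨ (i = n - 1 ∧ n % 2 = 0) at hi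
    rcases hi with rfl | rfl | ⟨rfl, hi⟩
    · left
      refine ⟨n, (Nat.gcd 4 (u ^ n + 1) : ℕ), 1, by omega, Or.inl rfl, hm4 _, ?_, ?_, tnum_even h hu1,
        fun h => by norm_num at h, fun _ => rfl, ?_⟩
      · by_cases h0 : u % 2 = 1
        · right; omega
        · left
          rw [gcd_four_odd (by have := hpu n (by omega) (by omega); omega)]
          norm_num
      · rw [ttor, if_pos rfl]
        exact div_cast (Nat.gcd_dvd_right _ _) (by push_cast; ring)
      · intro j hj hji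
        obtain ⟨hj3, hjm, hjb⟩ := hj
        change eta j + 1 ≤ n ∨ j = 2 * n at hjm
        exact low_of h hu1 hj3 (by omega) fun he => by omega
    · right
      have hTdef : ttor (.ominus n) u (2 * (n - 1)) = (u ^ (n - 1) + 1) * (u - 1) / Nat.gcd 4 (u ^ n + 1) := by
        rw [ttor, if_neg (by omega), if_neg (by omega)]
      have hgd : Nat.gcd 4 (u ^ n + 1) ∣ (u ^ (n - 1) + 1) * (u - 1) := by
        by_cases h0 : u % 2 = 1
        · refine (Nat.gcd_dvd_left _ _).trans ?_
          have h1 := pow_mod_two h0 (n - 1)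
          obtain ⟨a, ha⟩ : 2 ∣ u ^ (n - 1) + 1 := by omega
          obtain ⟨b, hb⟩ : 2 ∣ u - 1 := by omega
          exact ⟨a * b, by rw [ha, hb]; ring⟩
        · rw [gcd_four_odd (by have := hpu n (by omega) (by omega); omega)]
          exact one_dvd _
      have hTg : ttor (.ominus n) u (2 * (n - 1)) * Nat.gcd 4 (u ^ n + 1) = (u ^ (n - 1) + 1) * (u - 1) := by
        rw [hTdef]; exact Nat.div_mul_cancel hgd
      have hg : (Nat.gcd 4 (u ^ n + 1) = 1 ∧ u % 2 = 0) ∨ (Nat.gcd 4 (u ^ n + 1) = 4 ∧ u % 2 = 1 ∧ n % 2 = 1) := by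
        by_cases h0 : u % 2 = 1
        · right
          have h3 := pow_mod_two h0 n
          have h3' := pow_mod_two h0 (n - 1)
          rcases gcd_four_cases (u ^ n + 1) with h4 | h4 | h4
          · exact absurd h4 (gcd_four_even (by omega))
          · exfalso
            rw [h4] at hTg
            obtain ⟨a, ha⟩ : 2 ∣ u - 1 := by omega
            obtain ⟨b, hb⟩ : ∃ b, u ^ (n - 1) + 1 = 2 * b := ⟨(u ^ (n - 1) + 1) / 2, by omega⟩
            have h5 : ttor (.ominus n) u (2 * (n - 1)) = 2 * (b * a) := by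
              rw [ha, hb] at hTg
              have : ttor (.ominus n) u (2 * (n - 1)) * 2 = (2 * (b * a)) * 2 := by rw [hTg]; ring
              exact Nat.eq_of_mul_eq_mul_right (by norm_num) this
            omega
          · refine ⟨h4, h0, ?_⟩
            by_contra hcon
            have h5 := sq_mod_four h0 n (by omega)
            have := gcd_four_eq h4
            omega
        · left
          exact ⟨gcd_four_odd (by have := hpu n (by omega) (by omega); omega), by omega⟩
      refine ⟨n - 1, (Nat.gcd 4 (u ^ n + 1) : ℕ), 1, 1, -1, by omega, ?_, tnum_even h hu1, fun h => by norm_num at h,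
        fun _ => rfl, ?_, ?_, ?_, ?_, ?_⟩
      · have := congrArg (Nat.cast : ℕ → ℤ) hTg
        push_cast [Nat.cast_sub hu1] at this ⊢
        rw [this]
        ring
      · right; right
        refine ⟨rfl, rfl, rfl, ?_⟩
        rcases hg with ⟨h1, -⟩ | ⟨h1, -⟩
        · left; rw [h1]; norm_num
        · right; rw [h1]; norm_num
      · intro h1
        rcases hg with ⟨-, h2⟩ | ⟨h2, -⟩
        · omega
        · rw [h2] at h1; norm_num at h1
      · intro h1
        rcases hg with ⟨h2, -⟩ | ⟨-, h2, h3⟩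
        · rw [h2] at h1; norm_num at h1
        · omega
      · have h1 : ((Nat.gcd 4 (u ^ n + 1) : ℕ) : ℤ) ∣ ((u ^ n + 1 : ℕ) : ℤ) := by
          exact_mod_cast Nat.gcd_dvd_right 4 (u ^ n + 1)
        push_cast at h1
        rwa [← pow_succ', show n - 1 + 1 = n by omega]
      · intro j hj hji
        obtain ⟨hj3, hjm, hjb⟩ := hj
        change eta j + 1 ≤ n ∨ j = 2 * n at hjm
        rcases hjm with hjm | rfl
        · left
          refine low_of h hu1 hj3 (by omega) fun he => ?_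
          rcases eta_cases j with ⟨h5, h6⟩ | ⟨h5, h6⟩
          · rw [Nat.odd_iff] at h5
            right
            refine ⟨by omega, rfl, by omega⟩
          · omega
        · right
          refine ⟨?_, Or.inl rfl, ?_⟩
          · rw [tnum_even h hu1, ← pow_succ', show n - 1 + 1 = n by omega]
          · rw [ttor, if_pos rfl, Int.toNat_natCast, Nat.div_mul_cancel (Nat.gcd_dvd_right _ _), tnum_neven h]
    · right
      have hTdef : ttor (.ominus n) u (n - 1) = (u ^ (n - 1) - 1) * (u + 1) / Nat.gcd 4 (u ^ n + 1) := by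
        rw [ttor, if_neg (by omega), if_pos rfl]
      have hgd : Nat.gcd 4 (u ^ n + 1) ∣ (u ^ (n - 1) - 1) * (u + 1) := by
        by_cases h0 : u % 2 = 1
        · refine (Nat.gcd_dvd_left _ _).trans ?_
          have h1 := pow_mod_two h0 (n - 1)
          obtain ⟨a, ha⟩ : 2 ∣ u ^ (n - 1) - 1 := by omega
          obtain ⟨b, hb⟩ : 2 ∣ u + 1 := by omega
          exact ⟨a * b, by rw [ha, hb]; ring⟩
        · rw [gcd_four_odd (by have := hpu n (by omega) (by omega); omega)]
          exact one_dvd _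
      have hTg : ttor (.ominus n) u (n - 1) * Nat.gcd 4 (u ^ n + 1) = (u ^ (n - 1) - 1) * (u + 1) := by
        rw [hTdef]; exact Nat.div_mul_cancel hgd
      have hg : Nat.gcd 4 (u ^ n + 1) = 1 ∧ u % 2 = 0 := by
        by_cases h0 : u % 2 = 1
        · exfalso
          have h3 := sq_mod_four h0 n hi
          have h3' := pow_mod_two h0 (n - 1)
          rcases gcd_four_cases (u ^ n + 1) with h4 | h4 | h4
          · exact absurd h4 (gcd_four_even (by omega))
          · rw [h4] at hTg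
            obtain ⟨a, ha⟩ : 2 ∣ u + 1 := by omega
            obtain ⟨b, hb⟩ : ∃ b, u ^ (n - 1) - 1 = 2 * b := ⟨(u ^ (n - 1) - 1) / 2, by omega⟩
            have h5 : ttor (.ominus n) u (n - 1) = 2 * (b * a) := by
              rw [ha, hb] at hTg
              have : ttor (.ominus n) u (n - 1) * 2 = (2 * (b * a)) * 2 := by rw [hTg]; ring
              exact Nat.eq_of_mul_eq_mul_right (by norm_num) this
            omega
          · have := gcd_four_eq h4
            omega
        · exact ⟨gcd_four_odd (by have := hpu n (by omega) (by omega); omega), by omega⟩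
      refine ⟨n - 1, (Nat.gcd 4 (u ^ n + 1) : ℕ), -1, 1, 1, by omega, ?_, tnum_odd h hu1 (by omega),
        fun _ => by omega, ?_, ?_, ?_, ?_, ?_, ?_⟩
      · have := congrArg (Nat.cast : ℕ → ℤ) hTg
        push_cast [Nat.cast_sub (Nat.one_le_pow (n - 1) u hu1)] at this ⊢
        rw [this]
        ring
      · intro hA
        change n - 1 = 2 * n at hA
        omega
      · right; left
        refine ⟨rfl, rfl, rfl, ?_⟩
        rw [hg.1]; norm_num
      · intro h1
        have := hg.2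
        omega
      · intro h1
        rw [hg.1] at h1; norm_num at h1
      · rw [hg.1]
        exact one_dvd _
      · intro j hj hji
        obtain ⟨hj3, hjm, hjb⟩ := hj
        change eta j + 1 ≤ n ∨ j = 2 * n at hjm
        rcases hjm with hjm | rfl
        · left
          refine low_of h hu1 hj3 (by omega) fun he => ?_
          rcases eta_cases j with ⟨h5, h6⟩ | ⟨h5, h6⟩
          · omega
          · left
            refine ⟨by omega, rfl⟩
        · right
          refine ⟨?_, Or.inl rfl, ?_⟩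
          · rw [tnum_even h hu1, ← pow_succ', show n - 1 + 1 = n by omega]
          · rw [ttor, if_pos rfl, Int.toNat_natCast, Nat.div_mul_cancel (Nat.gcd_dvd_right _ _), tnum_neven h]
  | _ => exact h.elim

end

end Cfsg.Agent.R2.Spec.X4.H10
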