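import Cfsg.Agent.R2.Spec.X4.H10.SO
import Cfsg.Agent.R2.Spec.X4.H10.Shape
import Cfsg.Agent.R2.Spec.X4.H10.Nums
import Cfsg.Agent.R2.Spec.X4.H10.Num
import Cfsg.Agent.R2.Spec.X4.H10.Num2
import Cfsg.Agent.R2.Spec.X4.H10.Num3
import Cfsg.Agent.R2.Spec.X4.H10.Num4
import Cfsg.Agent.R2.Spec.P1.TopTwo
import Cfsg.Agent.R2.Spec.F1.KPr

/-!
# X4: `S` symplectic or orthogonal is impossible (helper10)
-/

set_option autoImplicit false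
set_option linter.unusedSectionVars false
set_option linter.unusedVariables false

namespace Cfsg.Agent.R2.Spec.X4.H10

open Subgroup Cfsg
open Cfsg.Agent.H426.LieFam Cfsg.Agent.R2.Spec Cfsg.Agent.R2.Spec.P1 Cfsg.Agent.R2.Spec.F1
open Cfsg.Agent.H72 Cfsg.Agent.H377

universe u

variable {p q k A k' B m i : ℕ} {W : ℕ → Prop} {S : Type u} [Group S] {t : Fam} {v f : ℕ}

/-- the context of the row -/
structure Cx (p q k A k' B m i : ℕ) (W : ℕ → Prop) (S : Type u) [Group S] (t : Fam) (v f : ℕ) : Prop where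
  h : SX p q k A k' B m i W S
  hg : Good W m i
  hv : v.Prime
  hvp : v ≠ p
  ht : SpO t
  hI : Fam.Is v f S t

theorem Cx.two_le (C : Cx p q k A k' B m i W S t v f) : 2 ≤ v ^ f :=
  C.hv.two_le.trans (Nat.le_self_pow (H4.is_f_ne C.ht.cla C.hI) v)

theorem Cx.k_big (C : Cx p q k A k' B m i W S t v f) {r : ℕ} (hr : r.Prime) (hrk : r ∣ k) :
    BG t v f r ∧ top t (cls t (v ^ f) r) ∧ r ∣ Nat.card S ∧ 7 ≤ r := by
  have := C.h.fin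
  have h1 := C.h.lw.side.prime C.h.lw.q2 hr (Or.inl hrk)
  have h2 := C.h.good_k C.hg hr hrk
  have h3 := C.h.dvd_card hr (C.h.W_prime hr (Or.inl hrk)) h2.1 h2.2
  obtain ⟨h4, h5, h6⟩ := topc C.ht C.hv C.hI hr (by omega) h3 (C.h.twoS hr hrk)
  exact ⟨⟨h4, big_of_top C.ht C.hI h6⟩, h6, h3, h1.1⟩

theorem Cx.dvd_v (C : Cx p q k A k' B m i W S t v f) {r : ℕ} (hr : r.Prime) (hrv : r ≠ v) : ¬ r ∣ v := fun hd =>
  hrv ((Nat.prime_dvd_prime_iff_eq hr C.hv).1 hd)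

/-- the isolated class of `k` -/
theorem Cx.iso (C : Cx p q k A k' B m i W S t v f) : ∃ i0 : ℕ, top t i0 ∧
    (∀ r : ℕ, r.Prime → r ∣ k → cls t (v ^ f) r = i0) ∧ k ∣ tnum t (v ^ f) i0 ∧ ttor t (v ^ f) i0 ∣ A := by
  have := C.h.fin
  have hk1 := C.h.lw.k_pos.1
  obtain ⟨d, n⟩ := LW.ns C.h.lw
  obtain ⟨j, hj, hs, hd⟩ := dvd_tnum C.ht C.hv C.hI hk1 (by have := n.k2; omega) (C.h.kS C.hg)
    (fun r hr hrk => (C.k_big hr hrk).1)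
  obtain ⟨r, hr, hrk⟩ := Nat.exists_prime_and_dvd hk1.ne'
  have h1 := C.k_big hr hrk
  have h2 := h1.2.1
  rw [hs r hr hrk] at h2
  have hT := top_facts_all C.ht.cla C.hv C.hI
  obtain ⟨x, hx⟩ := C.h.kS C.hg
  have h3 := hT.ub r hr (C.dvd_v hr h1.1.1) h1.2.1 x (by rw [hx]; exact hrk)
  rw [hx, hs r hr hrk] at h3
  obtain ⟨y, hy⟩ := hT.elt j h2
  have h4 := C.h.uk hr hrk y (by rw [hy]; exact hrk.trans h3)
  rw [hy] at h4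
  exact ⟨j, h2, hs, hd, h4⟩

/-- the second factor -/
def Dbl (t : Fam) (v f : ℕ) (N : ℕ) (g e1 A : ℤ) (j : ℕ) : Prop :=
  ∃ h e2 e3 : ℤ, 3 ≤ N ∧ h % 2 = 1 ∧ 0 < h ∧
    h * (((v ^ f : ℕ) : ℤ) + e3) * (((v ^ f : ℕ) : ℤ) ^ N + e1) = g * A ∧
    ((e1 = 1 ∧ e2 = -1 ∧ e3 = 1 ∧ (g = 1 ∨ (g = 4 ∧ 5 ≤ ((v ^ f : ℕ) : ℤ)))) ∨ (e1 = -1 ∧ e2 = 1 ∧ e3 = 1 ∧ g = 1) ∨
      (e1 = 1 ∧ e2 = 1 ∧ e3 = -1 ∧ (g = 1 ∨ g = 4))) ∧ (g = 1 → ((v ^ f : ℕ) : ℤ) % 2 = 0) ∧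
    (g = 4 → ((v ^ f : ℕ) : ℤ) % 2 = 1 ∧ 4 ≤ N) ∧ g ∣ ((v ^ f : ℕ) : ℤ) * ((v ^ f : ℕ) : ℤ) ^ N + e2 ∧
    (tnum t (v ^ f) j : ℤ) = ((v ^ f : ℕ) : ℤ) * ((v ^ f : ℕ) : ℤ) ^ N + e2 ∧ top t j ∧
    ttor t (v ^ f) j * g.toNat = tnum t (v ^ f) j

/-- the numbers of the isolated class -/
theorem Cx.data (C : Cx p q k A k' B m i W S t v f) {i0 : ℕ} (hi : top t i0) (hk : k ∣ tnum t (v ^ f) i0)
    (hTA : ttor t (v ^ f) i0 ∣ A) : ∃ (N : ℕ) (g e1 H : ℤ), 17 ≤ (q : ℤ) ∧ 2 ≤ N ∧ (e1 = 1 ∨ e1 = -1) ∧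
      (g = 1 ∨ g = 2 ∨ g = 4) ∧ (g = 1 ∨ ((v ^ f : ℕ) : ℤ) % 2 = 1) ∧ 0 < H ∧
      H * (((v ^ f : ℕ) : ℤ) ^ N + e1) = g * A ∧ (k : ℤ) ∣ ((v ^ f : ℕ) : ℤ) ^ N + e1 ∧ (e1 = -1 → N % 2 = 1) ∧
      (An t i0 → e1 = 1) ∧ ∀ j, Big t j → j ≠ i0 → Low t (v ^ f) N e1 j ∨ Dbl t v f N g e1 A j := by
  have hf := H4.is_f_ne C.ht.cla C.hI
  have hu2 := C.two_le
  obtain ⟨h, hh⟩ := hTA
  have hAo := C.h.lw.side.A_odd
  have hTo : ttor t (v ^ f) i0 % 2 = 1 := by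
    by_contra hcon
    have : 2 ∣ A := by rw [hh]; exact Dvd.dvd.mul_right (Nat.dvd_of_mod_eq_zero (by omega)) h
    omega
  have hho : h % 2 = 1 := by
    by_contra hcon
    have : 2 ∣ A := by rw [hh]; exact Dvd.dvd.mul_left (Nat.dvd_of_mod_eq_zero (by omega)) _
    omega
  have hAz : (A : ℤ) = (ttor t (v ^ f) i0 : ℤ) * (h : ℤ) := by rw [hh]; push_cast; ring
  have hkz : (k : ℤ) ∣ (tnum t (v ^ f) i0 : ℤ) := by exact_mod_cast hk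
  have h4 : ∀ g : ℤ, (g = 1 ∨ g = 2 ∨ g = 4) → g ∣ 4 := by
    intro g hg
    rcases hg with rfl | rfl | rfl <;> norm_num
  rcases shape C.ht C.hv C.hI hi hTo with hs | hs
  · obtain ⟨N, g, e1, hN, he1, hg, hgu, hTg, htn, hp1, hAn, hlow⟩ := hs
    rw [htn] at hkz
    have hE : (h : ℤ) * (((v ^ f : ℕ) : ℤ) ^ N + e1) = g * A := by
      rw [← hTg, hAz]; ring
    have hq : ¬ q < 17 := fun hq => small C.h.lw hq C.hv C.hvp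
      (le_trans hN (Nat.le_mul_of_pos_left N (Nat.pos_of_ne_zero hf))) he1 (h4 g hg) (by omega) hkz hE
    exact ⟨N, g, e1, h, by omega, hN, he1, hg, hgu, by omega, hE, hkz, hp1, hAn, fun j hj hji => Or.inl (hlow j hj hji)⟩
  · obtain ⟨N, g, e1, e2, e3, hN, hTg, htn, hp1, hAn, hc, hg1, hg4, hgD, hlow⟩ := hs
    rw [htn] at hkz
    have hE : (h : ℤ) * (((v ^ f : ℕ) : ℤ) + e3) * (((v ^ f : ℕ) : ℤ) ^ N + e1) = g * A := by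
      rw [hAz]
      linear_combination (-(h : ℤ)) * hTg
    have he1 : e1 = 1 ∨ e1 = -1 := by
      rcases hc with ⟨a, -⟩ | ⟨a, -⟩ | ⟨a, -⟩
      · exact Or.inl a
      · exact Or.inr a
      · exact Or.inl a
    have hg : g = 1 ∨ g = 4 := by
      rcases hc with ⟨-, -, -, a⟩ | ⟨-, -, -, a⟩ | ⟨-, -, -, a⟩
      · rcases a with a | ⟨a, -⟩
        · exact Or.inl a
        · exact Or.inr a
      · exact Or.inl a
      · exact a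
    have he3 : -1 ≤ e3 := by rcases hc with ⟨-, -, a, -⟩ | ⟨-, -, a, -⟩ | ⟨-, -, a, -⟩ <;> omega
    have hg' : g = 1 ∨ g = 2 ∨ g = 4 := by
      rcases hg with a | a
      · exact Or.inl a
      · exact Or.inr (Or.inr a)
    have hu2' : (2 : ℤ) ≤ ((v ^ f : ℕ) : ℤ) := by exact_mod_cast hu2
    have hH : 0 < (h : ℤ) * (((v ^ f : ℕ) : ℤ) + e3) := mul_pos (by omega) (by omega)
    have hq : ¬ q < 17 := fun hq => small C.h.lw hq C.hv C.hvp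
      (le_trans (by omega) (Nat.le_mul_of_pos_left N (Nat.pos_of_ne_zero hf))) he1 (h4 g hg') hH hkz hE
    refine ⟨N, g, e1, _, by omega, by omega, he1, hg', ?_, hH, hE, hkz, hp1, hAn, fun j hj hji => ?_⟩
    · rcases hg with a | a
      · exact Or.inl a
      · exact Or.inr (hg4 a).1
    · rcases hlow j hj hji with a | ⟨a, b, c⟩
      · exact Or.inl a
      · exact Or.inr ⟨h, e2, e3, hN, by omega, by omega, hE, hc, hg1, hg4, hgD, a, b, c⟩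

theorem Cx.zkill (C : Cx p q k A k' B m i W S t v f) {i0 j : ℕ} (hi : top t i0) (hk : k ∣ tnum t (v ^ f) i0)
    (hTA : ttor t (v ^ f) i0 ∣ A) (hj : Big t j) (hji : j ≠ i0) (hz : (q ^ 2 + 1) / 2 ∣ tnum t (v ^ f) j) : False := by
  obtain ⟨N, g, e1, H, hq, hN, he1, hg, hgu, hH, hE, hkz, hp1, hAn, hlow⟩ := C.data hi hk hTA
  obtain ⟨d, n⟩ := LW.ns C.h.lw
  have hf := H4.is_f_ne C.ht.cla C.hI
  have hu2' : (2 : ℤ) ≤ ((v ^ f : ℕ) : ℤ) := by exact_mod_cast C.two_le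
  have hzz : (((q ^ 2 + 1) / 2 : ℕ) : ℤ) ∣ (tnum t (v ^ f) j : ℤ) := Int.natCast_dvd_natCast.2 hz
  rcases hlow j hj hji with ⟨s, m', e2, hs1, rfl, he2, htj, hm0, hp2⟩ |
    ⟨h, e2, e3, hN3, hh2, hh0, hE', hc, hg1, hg4, hgD, htj, htop, htt⟩
  · rw [htj] at hzz
    exact core4 n.hd hq n.hqd n.hA n.hz hu2' he1 he2 hg hgu hH hE hzz hs1 hm0 (LW.cop C.h.lw C.hv C.hvp)
  · rw [htj] at hzz
    exact coreQ n.hd hq n.hqd n.hA n.hz n.hk3 hu2' hN3 hkz hh2 hh0 hE' hzz hgD hc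
      (fun h1 => ⟨hg1 h1, even_field C.hv hf (hg1 h1)⟩) hg4

theorem Cx.bkill (C : Cx p q k A k' B m i W S t v f) {i0 j : ℕ} (hi : top t i0) (hk : k ∣ tnum t (v ^ f) i0)
    (hTA : ttor t (v ^ f) i0 ∣ A) (hj : Big t j) (hji : j ≠ i0) (hk' : k' ∣ tnum t (v ^ f) j)
    (hB : top t j → ttor t (v ^ f) j ∣ B) : False := by
  obtain ⟨N, g, e1, H, hq, hN, he1, hg, hgu, hH, hE, hkz, hp1, hAn, hlow⟩ := C.data hi hk hTA
  obtain ⟨d, n⟩ := LW.ns C.h.lw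
  have hf := H4.is_f_ne C.ht.cla C.hI
  have hu2' : (2 : ℤ) ≤ ((v ^ f : ℕ) : ℤ) := by exact_mod_cast C.two_le
  have hzz : (k' : ℤ) ∣ (tnum t (v ^ f) j : ℤ) := Int.natCast_dvd_natCast.2 hk'
  rcases hlow j hj hji with ⟨s, m', e2, hs1, rfl, he2, htj, hm0, hp2⟩ |
    ⟨h, e2, e3, hN3, hh2, hh0, hE', hc, hg1, hg4, hgD, htj, htop, htt⟩
  · rw [htj] at hzz
    refine coreB n.hd hq n.hqd n.hA n.hB n.hk3' n.hkB n.k2' hu2' he1 he2 hg hgu hH hE hzz hs1 (fun h0 => ⟨hm0 h0, ?_⟩)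
      hp1 hp2 (LW.ne_cube C.h.lw C.hv C.hvp hf hs1) (LW.seven C.h.lw)
    subst h0
    rw [Nat.add_zero] at hkz
    have h1 : (1 : ℤ) ≤ ((v ^ f : ℕ) : ℤ) ^ s := one_le_pow₀ (by omega)
    have h3 : (2 : ℤ) ≤ ((v ^ f : ℕ) : ℤ) ^ s := hu2'.trans (le_self_pow₀ (by omega) (by omega))
    rcases n.hful with h2 | h2
    · have h4 := Int.le_of_dvd (by rcases he1 with rfl | rfl <;> omega) hkz
      rcases he1 with rfl | rfl <;> omega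
    · have h4 := Int.le_of_dvd (by rcases he2 with rfl | rfl <;> omega) hzz
      rcases he2 with rfl | rfl <;> omega
  · obtain ⟨h', hh'⟩ := hB htop
    have hgt : (g.toNat : ℤ) = g := Int.toNat_of_nonneg (by rcases hg with rfl | rfl | rfl <;> norm_num)
    have hE2 : (h' : ℤ) * (((v ^ f : ℕ) : ℤ) * ((v ^ f : ℕ) : ℤ) ^ N + e2) = g * B := by
      rw [← htj, ← htt, hh']
      push_cast
      rw [hgt]
      ring
    exact coreP n.hd hq n.hA n.hB n.hk3 hu2' hN3 hkz hh2 hh0 hE' hE2 hc hg1 hg4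

end Cfsg.Agent.R2.Spec.X4.H10
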