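import Cfsg.Agent.R2.Spec.X4.H4.Bad
import Cfsg.Agent.R2.Spec.F1.Comb
import Cfsg.Agent.R2.Spec.P1.TopDef
import Cfsg.Agent.H377.OddThree

/-!
# X4, the symplectic and orthogonal rows: primes not adjacent to 2, big classes (helper10)

`SpO t` : `t` is one of the families `psp`, `oodd`, `oplus`, `ominus`.

* `topc` : an odd prime which is not adjacent to `2` is prime to the characteristic and of an isolated class;
* `big_or` : of two non-adjacent odd primes at least one is of a big class;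
* `dvd_tnum` : an odd element order all of whose prime divisors are of big classes.
-/

set_option autoImplicit false
set_option linter.unusedSectionVars false
set_option linter.unusedVariables false

namespace Cfsg.Agent.R2.Spec.X4.H10

open Subgroup Cfsg
open Cfsg.Agent.H426.LieFam Cfsg.Agent.R2.Spec Cfsg.Agent.R2.Spec.P1 Cfsg.Agent.R2.Spec.F1
open Cfsg.Agent.H72 Cfsg.Agent.H377

universe u

/-- the symplectic and orthogonal families -/
def SpO : Fam → Prop
  | .psp _ => True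
  | .oodd _ => True
  | .oplus _ => True
  | .ominus _ => True
  | _ => False

theorem SpO.cla {t : Fam} (h : SpO t) : Classical t := by
  cases t <;> first | trivial | exact h

theorem SpO.ne {t : Fam} (h : SpO t) : (∀ n, t ≠ .psl n) ∧ (∀ n, t ≠ .psu n) := by
  constructor
  · rintro n rfl
    exact h
  · rintro n rfl
    exact h

theorem SpO.cls_eq {t : Fam} (h : SpO t) (q r : ℕ) : cls t q r = co q r := cls_eq_co h.ne.2 q r

theorem SpO.wt_eq {t : Fam} (h : SpO t) (i : ℕ) : wt t i = eta i := by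
  cases t <;> first | rfl | exact h.elim

theorem SpO.dg_eq {t : Fam} (h : SpO t) (q : ℕ) : dg t q = 1 := by
  cases t <;> first | rfl | exact h.elim

theorem exists_of_adj {G : Type*} [Group G] {r s : ℕ} (h : Cfsg.Agent.H94.PG.Adj G r s) :
    ∃ g : G, orderOf g = r * s := AdjSp.orderOf_of_adj h

section

variable {t : Fam} {v f : ℕ} {S : Type u} [Group S]

theorem not_dvd_q (hv : v.Prime) {x : ℕ} (hx : x.Prime) (hxv : x ≠ v) : ¬ x ∣ v ^ f := fun hd =>
  hxv ((Nat.prime_dvd_prime_iff_eq hx hv).1 (hx.dvd_of_dvd_pow hd))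

theorem dvd_of_small_eta {x q i : ℕ} (hq : 1 ≤ q) (hx : x.Prime) (hxq : ¬ x ∣ q) (hi : eta (co q x) = i) :
    x ∣ q ^ (2 * i) - 1 := by
  have h1 : co q x ∣ 2 * i := by
    rw [← hi]
    rcases eta_cases (co q x) with ⟨-, h⟩ | ⟨-, h⟩
    · rw [h]; exact dvd_mul_left _ _
    · rw [h]
  exact dvd_sub_one_of_co hq h1

theorem eta_co_pos {x q : ℕ} (hx : x.Prime) (hxq : ¬ x ∣ q) : 1 ≤ eta (co q x) := by
  apply one_le_eta
  have := AdjOrth.ee_pos (q := q) hx hxq
  rwa [ee_eq] at this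

/-- the classes of the primes of the order -/
theorem mem_of_dvd (h : SpO t) (hv : v.Prime) (hI : Fam.Is v f S t) [Finite S] {x : ℕ} (hx : x.Prime) (hx2 : x ≠ 2)
    (hxv : x ≠ v) (h3 : 3 ≤ cls t (v ^ f) x) (hxS : x ∣ Nat.card S) : mem t (cls t (v ^ f) x) :=
  ((adjFacts h.cla hv hI).dvd x hx hx2 (fun hd => hxv ((Nat.prime_dvd_prime_iff_eq hx hv).1 hd)) h3).1 hxS

/-- the elements of order `2 x` -/
theorem adj_two (h : SpO t) (hv : v.Prime) (hI : Fam.Is v f S t) [Finite S] {x : ℕ} (hx : x.Prime) (hx2 : x ≠ 2)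
    (hv2 : v ≠ 2) (hxc : x ≠ v → match t with
      | .psp n => eta (co (v ^ f) x) + 1 ≤ n
      | .oodd n => eta (co (v ^ f) x) + 1 ≤ n
      | .oplus n => eta (co (v ^ f) x) + 2 ≤ n
      | .ominus n => eta (co (v ^ f) x) + 2 ≤ n
      | _ => False) : ∃ g : S, orderOf g = 2 * x := by
  have hf := H4.is_f_ne h.cla hI
  have hvf : v ∣ v ^ f := dvd_pow_self v hf
  have hq1 : 1 ≤ v ^ f := Nat.one_le_pow _ _ hv.pos
  have hq2 : 2 ≤ v ^ f := hv.two_le.trans (Nat.le_self_pow hf v)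
  cases t with
  | psp n =>
    obtain ⟨hn, h4, F, _, _, hch, hF, ⟨e⟩⟩ := hI
    refine exists_congr_order e ?_
    rw [mul_comm]
    apply exists_of_adj
    by_cases hxv : x = v
    · subst hxv
      exact psp_adj_two_of_char hn hx hx2 (by rw [Nat.card_eq_fintype_card, hF]; exact hvf)
    · have hnd := not_dvd_q (f := f) hv hx hxv
      exact psp_adj_two_of_dvd (eta_co_pos hx hnd) (hxc hxv) hx hx2
        (by rw [Nat.card_eq_fintype_card, hF]; exact dvd_of_small_eta hq1 hx hnd rfl)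
  | oodd n =>
    obtain ⟨hn, ho, F, _, _, hch, hF, ⟨e⟩⟩ := hI
    have ho' : Odd (Nat.card F) := by rw [Nat.card_eq_fintype_card, hF]; exact ho
    refine exists_congr_order e ?_
    rw [mul_comm]
    apply exists_of_adj
    by_cases hxv : x = v
    · subst hxv
      exact OOdd.adj_two_of_char ho' hn hx hx2 (by rw [Nat.card_eq_fintype_card, hF]; exact hvf)
    · have hnd := not_dvd_q (f := f) hv hx hxv
      exact OOdd.adj_two_of_dvd ho' hn (eta_co_pos hx hnd) (hxc hxv) hx hx2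
        (by rw [Nat.card_eq_fintype_card, hF]; exact dvd_of_small_eta hq1 hx hnd rfl)
  | oplus n =>
    obtain ⟨hn, F, _, _, hch, hF, ⟨e⟩⟩ := hI
    have hod := od_plus hn e
    have ho : Odd x := hx.odd_of_ne_two hx2
    by_cases hxv : x = v
    · subst hxv
      exact hod.ex _ (AdjOrth.elt2_two ho (elt_two_char (F := F) hx) (by norm_num) (Or.inl rfl) hod.hδ (by omega))
    · have hnd : ¬ x ∣ Nat.card F := by rw [Nat.card_eq_fintype_card, hF]; exact not_dvd_q hv hx hxv
      have h1 := AdjOrth.elt_of_prime (F := F) hx hnd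
      rw [← eta_eq, ee_eq] at h1
      refine hod.ex _ (AdjOrth.elt2_two ho h1 (eta_co_pos hx hnd) (AdjOrth.sg_pm _) hod.hδ ?_)
      rw [Nat.card_eq_fintype_card, hF]
      exact hxc hxv
  | ominus n =>
    obtain ⟨hn, F, _, _, hch, a, b, hF, hab, ⟨e⟩⟩ := hI
    have hod := od_minus hn hab e
    have ho : Odd x := hx.odd_of_ne_two hx2
    by_cases hxv : x = v
    · subst hxv
      exact hod.ex _ (AdjOrth.elt2_two ho (elt_two_char (F := F) hx) (by norm_num) (Or.inl rfl) hod.hδ (by omega))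
    · have hnd : ¬ x ∣ Nat.card F := by rw [Nat.card_eq_fintype_card, hF]; exact not_dvd_q hv hx hxv
      have h1 := AdjOrth.elt_of_prime (F := F) hx hnd
      rw [← eta_eq, ee_eq] at h1
      refine hod.ex _ (AdjOrth.elt2_two ho h1 (eta_co_pos hx hnd) (AdjOrth.sg_pm _) hod.hδ ?_)
      rw [Nat.card_eq_fintype_card, hF]
      exact hxc hxv
  | _ => exact h.elim

/-- **An odd prime not adjacent to `2`.** -/
theorem topc (h : SpO t) (hv : v.Prime) (hI : Fam.Is v f S t) [Finite S] {x : ℕ} (hx : x.Prime) (hx2 : x ≠ 2)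
    (hxS : x ∣ Nat.card S) (hna : ¬ ∃ g : S, orderOf g = 2 * x) :
    x ≠ v ∧ 3 ≤ cls t (v ^ f) x ∧ top t (cls t (v ^ f) x) := by
  have hcl := h.cls_eq (v ^ f) x
  by_cases hv2 : v = 2
  · subst hv2
    have hxv : x ≠ 2 := hx2
    have h1 := H4.vcase h.cla hv hI hx hx2 hxv hxS hna
    rcases h1 with ⟨h3, h4⟩ | ⟨-, -, n, h5 | h5⟩
    · refine ⟨hxv, h3, ?_⟩
      have hm := mem_of_dvd h hv hI hx hx2 hxv h3 hxS
      cases t with
      | psp n =>
        change n < eta _ + 1 at h4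
        change eta _ ≤ n at hm
        change _ = 2 * n ∨ (_ = n ∧ n % 2 = 1)
        rcases eta_cases (cls (.psp n) (2 ^ f) x) with ⟨h5, h6⟩ | ⟨h5, h6⟩
        · rw [Nat.odd_iff] at h5
          right
          constructor <;> omega
        · left
          omega
      | oodd n =>
        change n < eta _ + 1 at h4
        change eta _ ≤ n at hm
        change _ = 2 * n ∨ (_ = n ∧ n % 2 = 1)
        rcases eta_cases (cls (.oodd n) (2 ^ f) x) with ⟨h5, h6⟩ | ⟨h5, h6⟩
        · rw [Nat.odd_iff] at h5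
          right
          constructor <;> omega
        · left
          omega
      | oplus n =>
        change n < eta _ + 2 at h4
        change eta _ + 1 ≤ n ∨ (_ = n ∧ n % 2 = 1) at hm
        change (_ = n ∧ n % 2 = 1) ∨ _ = 2 * (n - 1) ∨ (_ = n - 1 ∧ n % 2 = 0)
        rcases hm with hm | hm
        · rcases eta_cases (cls (.oplus n) (2 ^ f) x) with ⟨h5, h6⟩ | ⟨h5, h6⟩
          · rw [Nat.odd_iff] at h5
            right; right
            constructor <;> omega
          · right; left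
            omega
        · exact Or.inl hm
      | ominus n =>
        change n < eta _ + 2 at h4
        change eta _ + 1 ≤ n ∨ _ = 2 * n at hm
        change _ = 2 * n ∨ _ = 2 * (n - 1) ∨ (_ = n - 1 ∧ n % 2 = 0)
        rcases hm with hm | hm
        · rcases eta_cases (cls (.ominus n) (2 ^ f) x) with ⟨h5, h6⟩ | ⟨h5, h6⟩
          · rw [Nat.odd_iff] at h5
            right; right
            constructor <;> omega
          · right; left
            omega
        · exact Or.inl hm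
      | _ => exact h.elim
    · exact absurd h5 (h.ne.1 n)
    · exact absurd h5 (h.ne.2 n)
  · have h1 := adj_two h hv hI hx hx2 hv2
    have hxv : x ≠ v := by
      intro hxv
      exact hna (h1 fun hne => absurd hxv hne)
    have hnd := not_dvd_q (f := f) hv hx hxv
    have hq1 : 1 ≤ v ^ f := Nat.one_le_pow _ _ hv.pos
    have h3 : 3 ≤ cls t (v ^ f) x := by
      by_contra hcon
      apply hna
      apply h1
      intro _
      rw [hcl] at hcon
      have h4 : eta (co (v ^ f) x) ≤ 1 := by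
        rcases eta_cases (co (v ^ f) x) with ⟨h5, h6⟩ | ⟨h5, h6⟩
        · rw [Nat.odd_iff] at h5
          omega
        · omega
      cases t with
      | psp n => obtain ⟨hn, -⟩ := hI; change _ + 1 ≤ n; omega
      | oodd n => obtain ⟨hn, -⟩ := hI; change _ + 1 ≤ n; omega
      | oplus n => obtain ⟨hn, -⟩ := hI; change _ + 2 ≤ n; omega
      | ominus n => obtain ⟨hn, -⟩ := hI; change _ + 2 ≤ n; omega
      | _ => exact h.elim
    refine ⟨hxv, h3, ?_⟩
    have hm := mem_of_dvd h hv hI hx hx2 hxv h3 hxS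
    by_contra hcon
    apply hna
    apply h1
    intro _
    rw [hcl] at hcon hm h3
    cases t with
    | psp n =>
      change eta _ ≤ n at hm
      change ¬ (_ = 2 * n ∨ (_ = n ∧ n % 2 = 1)) at hcon
      change _ + 1 ≤ n
      rcases eta_cases (co (v ^ f) x) with ⟨h5, h6⟩ | ⟨h5, h6⟩
      · rw [Nat.odd_iff] at h5
        omega
      · omega
    | oodd n =>
      change eta _ ≤ n at hm
      change ¬ (_ = 2 * n ∨ (_ = n ∧ n % 2 = 1)) at hcon
      change _ + 1 ≤ n
      rcases eta_cases (co (v ^ f) x) with ⟨h5, h6⟩ | ⟨h5, h6⟩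
      · rw [Nat.odd_iff] at h5
        omega
      · omega
    | oplus n =>
      change eta _ + 1 ≤ n ∨ (_ = n ∧ n % 2 = 1) at hm
      change ¬ ((_ = n ∧ n % 2 = 1) ∨ _ = 2 * (n - 1) ∨ (_ = n - 1 ∧ n % 2 = 0)) at hcon
      change _ + 2 ≤ n
      rcases eta_cases (co (v ^ f) x) with ⟨h5, h6⟩ | ⟨h5, h6⟩
      · rw [Nat.odd_iff] at h5
        omega
      · omega
    | ominus n =>
      change eta _ + 1 ≤ n ∨ _ = 2 * n at hm
      change ¬ (_ = 2 * n ∨ _ = 2 * (n - 1) ∨ (_ = n - 1 ∧ n % 2 = 0)) at hcon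
      change _ + 2 ≤ n
      rcases eta_cases (co (v ^ f) x) with ⟨h5, h6⟩ | ⟨h5, h6⟩
      · rw [Nat.odd_iff] at h5
        omega
      · omega
    | _ => exact h.elim

/-- the isolated classes are big -/
theorem big_of_top (h : SpO t) (hI : Fam.Is v f S t) {i : ℕ} (hi : top t i) : Big t i := by
  have he := eta_cases i
  cases t with
  | psp n =>
    obtain ⟨hn, -⟩ := hI
    change i = 2 * n ∨ (i = n ∧ n % 2 = 1) at hi
    refine ⟨by omega, ?_, ?_⟩
    · change eta i ≤ n
      rcases he with ⟨h5, h6⟩ | ⟨h5, h6⟩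
      · rw [Nat.odd_iff] at h5
        omega
      · omega
    · change n < 2 * eta i
      rcases he with ⟨h5, h6⟩ | ⟨h5, h6⟩
      · omega
      · rw [Nat.even_iff] at h5
        omega
  | oodd n =>
    obtain ⟨hn, -⟩ := hI
    change i = 2 * n ∨ (i = n ∧ n % 2 = 1) at hi
    refine ⟨by omega, ?_, ?_⟩
    · change eta i ≤ n
      rcases he with ⟨h5, h6⟩ | ⟨h5, h6⟩
      · rw [Nat.odd_iff] at h5
        omega
      · omega
    · change n < 2 * eta i
      rcases he with ⟨h5, h6⟩ | ⟨h5, h6⟩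
      · omega
      · rw [Nat.even_iff] at h5
        omega
  | oplus n =>
    obtain ⟨hn, -⟩ := hI
    change (i = n ∧ n % 2 = 1) ∨ i = 2 * (n - 1) ∨ (i = n - 1 ∧ n % 2 = 0) at hi
    refine ⟨by omega, ?_, ?_⟩
    · change eta i + 1 ≤ n ∨ (i = n ∧ n % 2 = 1)
      rcases he with ⟨h5, h6⟩ | ⟨h5, h6⟩
      · rw [Nat.odd_iff] at h5
        omega
      · rw [Nat.even_iff] at h5
        omega
    · change n < 2 * eta i
      rcases he with ⟨h5, h6⟩ | ⟨h5, h6⟩
      · omega
      · rw [Nat.even_iff] at h5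
        omega
  | ominus n =>
    obtain ⟨hn, -⟩ := hI
    change i = 2 * n ∨ i = 2 * (n - 1) ∨ (i = n - 1 ∧ n % 2 = 0) at hi
    refine ⟨by omega, ?_, ?_⟩
    · change eta i + 1 ≤ n ∨ i = 2 * n
      rcases he with ⟨h5, h6⟩ | ⟨h5, h6⟩
      · rw [Nat.odd_iff] at h5
        omega
      · rw [Nat.even_iff] at h5
        omega
    · change n < 2 * eta i
      rcases he with ⟨h5, h6⟩ | ⟨h5, h6⟩
      · omega
      · rw [Nat.even_iff] at h5
        omega
  | _ => exact h.elim

/-- a prime of a big class, prime to the characteristic -/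
def BG (t : Fam) (v f x : ℕ) : Prop := x ≠ v ∧ Big t (cls t (v ^ f) x)

/-- not adjacent to the characteristic: big -/
theorem big_of_nap (h : SpO t) (hI : Fam.Is v f S t) {i : ℕ} (h3 : 3 ≤ i) (hm : mem t i) (hi : nap t i) : Big t i := by
  refine ⟨h3, hm, ?_⟩
  cases t with
  | psp n =>
    obtain ⟨hn, -⟩ := hI
    change n < eta i + 1 at hi
    change n < 2 * eta i
    omega
  | oodd n =>
    obtain ⟨hn, -⟩ := hI
    change n < eta i + 1 at hi
    change n < 2 * eta i
    omega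
  | oplus n =>
    obtain ⟨hn, -⟩ := hI
    change n < eta i + 2 at hi
    change n < 2 * eta i
    omega
  | ominus n =>
    obtain ⟨hn, -⟩ := hI
    change n < eta i + 2 at hi
    change n < 2 * eta i
    omega
  | _ => exact h.elim

/-- two non-adjacent regular classes: one is big -/
theorem big_of_na (h : SpO t) {i j : ℕ} (hi3 : 3 ≤ i) (hj3 : 3 ≤ j) (hi : mem t i) (hj : mem t j) (hn : na t i j) :
    Big t i ∨ Big t j := by
  have hei := eta_cases i
  have hej := eta_cases j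
  rw [Nat.odd_iff, Nat.even_iff] at hei hej
  by_contra hcon
  rw [not_or] at hcon
  have h1 : ¬ rk t < 2 * wt t i := fun h1 => hcon.1 ⟨hi3, hi, h1⟩
  have h2 : ¬ rk t < 2 * wt t j := fun h2 => hcon.2 ⟨hj3, hj, h2⟩
  cases t with
  | psp n =>
    change ¬ n < 2 * eta i at h1
    change ¬ n < 2 * eta j at h2
    obtain ⟨hn, -⟩ := hn
    change n < eta i + eta j at hn
    omega
  | oodd n =>
    change ¬ n < 2 * eta i at h1
    change ¬ n < 2 * eta j at h2
    obtain ⟨hn, -⟩ := hn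
    change n < eta i + eta j at hn
    omega
  | oplus n =>
    change ¬ n < 2 * eta i at h1
    change ¬ n < 2 * eta j at h2
    obtain ⟨hn, -, -, h5, h6⟩ := hn
    omega
  | ominus n =>
    change ¬ n < 2 * eta i at h1
    change ¬ n < 2 * eta j at h2
    obtain ⟨hn, h5, h6⟩ := hn
    have h7 : i ≠ j := by
      rintro rfl
      exact h5 ⟨1, rfl, (mul_one i).symm⟩
    omega
  | _ => exact h.elim

/-- **Of two non-adjacent odd primes one is of a big class.** -/
theorem big_or (h : SpO t) (hv : v.Prime) (hI : Fam.Is v f S t) [Finite S] {x y : ℕ} (hx : x.Prime) (hy : y.Prime)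
    (hx2 : x ≠ 2) (hy2 : y ≠ 2) (hxy : x ≠ y) (hxS : x ∣ Nat.card S) (hyS : y ∣ Nat.card S)
    (hna : ¬ ∃ g : S, orderOf g = x * y) : BG t v f x ∨ BG t v f y := by
  have hF := adjFacts h.cla hv hI
  have hnv : ∀ {w : ℕ}, w.Prime → w ≠ v → ¬ w ∣ v := fun hw hwv hd =>
    hwv ((Nat.prime_dvd_prime_iff_eq hw hv).1 hd)
  have key : ∀ {x y : ℕ}, x.Prime → y.Prime → y ≠ 2 → x ≠ y → y ∣ Nat.card S → x = v →
      (¬ ∃ g : S, orderOf g = x * y) → BG t v f y := by
    intro x y hx hy hy2 hxy hyS hxv hna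
    subst hxv
    rcases H4.vcase h.cla hv hI hy hy2 hxy.symm hyS hna with ⟨h3, h4⟩ | ⟨-, -, n, h5 | h5⟩
    · exact ⟨hxy.symm, big_of_nap h hI h3 (mem_of_dvd h hv hI hy hy2 hxy.symm h3 hyS) h4⟩
    · exact absurd h5 (h.ne.1 n)
    · exact absurd h5 (h.ne.2 n)
  have key2 : ∀ {x y : ℕ}, x.Prime → y.Prime → x ≠ 2 → y ≠ 2 → x ≠ y → x ≠ v → y ≠ v → y ∣ Nat.card S →
      cls t (v ^ f) x ≤ 2 → (¬ ∃ g : S, orderOf g = x * y) → BG t v f y := by
    intro x y hx hy hx2 hy2 hxy hxv hyv hyS h2 hna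
    have hq : 1 ≤ v ^ f := Nat.one_le_pow _ _ hv.pos
    have h4 := wS_le_one h.cla h.ne.1 h.ne.2 hx2 (not_dvd_q (f := f) hv hx hxv) h2
    have h5 : ¬ wS t (v ^ f) x + wS t (v ^ f) y + cS t ≤ rk t := fun h5 => hna (adj_wS h.cla hI hx hy hxy h5)
    by_cases h3 : 3 ≤ cls t (v ^ f) y
    · have h6 := wS_reg h.cla hq hy h3
      refine ⟨hyv, h3, mem_of_dvd h hv hI hy hy2 hyv h3 hyS, ?_⟩
      rw [← h6]
      cases t with
      | psp n => obtain ⟨hn, -⟩ := hI; change ¬ _ + 0 ≤ n at h5; change n < _; omega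
      | oodd n => obtain ⟨hn, -⟩ := hI; change ¬ _ + 0 ≤ n at h5; change n < _; omega
      | oplus n => obtain ⟨hn, -⟩ := hI; change ¬ _ + 1 ≤ n at h5; change n < _; omega
      | ominus n => obtain ⟨hn, -⟩ := hI; change ¬ _ + 1 ≤ n at h5; change n < _; omega
      | _ => exact h.elim
    · exfalso
      have h6 := wS_le_one h.cla h.ne.1 h.ne.2 hy2 (not_dvd_q (f := f) hv hy hyv) (by omega)
      cases t with
      | psp n => obtain ⟨hn, -⟩ := hI; change ¬ _ + 0 ≤ n at h5; omega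
      | oodd n => obtain ⟨hn, -⟩ := hI; change ¬ _ + 0 ≤ n at h5; omega
      | oplus n => obtain ⟨hn, -⟩ := hI; change ¬ _ + 1 ≤ n at h5; omega
      | ominus n => obtain ⟨hn, -⟩ := hI; change ¬ _ + 1 ≤ n at h5; omega
      | _ => exact h.elim
  have hna' : ¬ ∃ g : S, orderOf g = y * x := by rwa [mul_comm]
  by_cases hxv : x = v
  · exact Or.inr (key hx hy hy2 hxy hyS hxv hna)
  · by_cases hyv : y = v
    · exact Or.inl (key hy hx hx2 hxy.symm hxS hyv hna')
    · by_cases h3 : 3 ≤ cls t (v ^ f) x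
      · by_cases h4 : 3 ≤ cls t (v ^ f) y
        · have hmx := mem_of_dvd h hv hI hx hx2 hxv h3 hxS
          have hmy := mem_of_dvd h hv hI hy hy2 hyv h4 hyS
          have h5 := hF.adj x y hx hy hx2 hy2 hxy (hnv hx hxv) (hnv hy hyv) h3 h4 hmx hmy
          have h6 : na t (cls t (v ^ f) x) (cls t (v ^ f) y) := by
            by_contra hcon
            exact hna (h5.2 hcon)
          rcases big_of_na h h3 h4 hmx hmy h6 with h7 | h7
          · exact Or.inl ⟨hxv, h7⟩
          · exact Or.inr ⟨hyv, h7⟩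
        · exact Or.inl (key2 hy hx hy2 hx2 hxy.symm hyv hxv hxS (by omega) hna')
      · exact Or.inr (key2 hx hy hx2 hy2 hxy hxv hyv hyS (by omega) hna)

/-- two adjacent primes of big classes are of the same class -/
theorem same_of_big (h : SpO t) (hv : v.Prime) (hI : Fam.Is v f S t) [Finite S] {x y : ℕ} (hx : x.Prime)
    (hy : y.Prime) (hx2 : x ≠ 2) (hy2 : y ≠ 2) (hxy : x ≠ y) (hbx : BG t v f x) (hby : BG t v f y)
    (ha : ∃ g : S, orderOf g = x * y) : cls t (v ^ f) x = cls t (v ^ f) y := by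
  by_contra hne
  have hF := adjFacts h.cla hv hI
  have hnv : ∀ {w : ℕ}, w.Prime → w ≠ v → ¬ w ∣ v := fun hw hwv hd =>
    hwv ((Nat.prime_dvd_prime_iff_eq hw hv).1 hd)
  exact (hF.adj x y hx hy hx2 hy2 hxy (hnv hx hbx.1) (hnv hy hby.1) hbx.2.1 hby.2.1 hbx.2.2.1 hby.2.2.1).1 ha
    (na_of_big h.cla hbx.2 hby.2 hne)

theorem exists_dvd {M N : ℕ} [Finite S] (h : ∃ g : S, orderOf g = M) (hd : N ∣ M) : ∃ g : S, orderOf g = N := by
  obtain ⟨g, rfl⟩ := h
  obtain ⟨c, hc⟩ := hd
  have h0 : 0 < orderOf g := orderOf_pos g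
  have hc0 : c ≠ 0 := by rintro rfl; omega
  refine ⟨g ^ c, ?_⟩
  rw [orderOf_pow_of_dvd hc0 (by rw [hc]; exact dvd_mul_left _ _), hc]
  exact Nat.mul_div_cancel _ (Nat.pos_of_ne_zero hc0)

/-- **An element order with all primes of big classes.** -/
theorem dvd_tnum (h : SpO t) (hv : v.Prime) (hI : Fam.Is v f S t) [Finite S] {M : ℕ} (hM1 : 1 < M) (hM2 : M % 2 = 1)
    (hM : ∃ g : S, orderOf g = M) (hb : ∀ r : ℕ, r.Prime → r ∣ M → BG t v f r) :
    ∃ j : ℕ, Big t j ∧ (∀ r : ℕ, r.Prime → r ∣ M → cls t (v ^ f) r = j) ∧ M ∣ tnum t (v ^ f) j := by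
  obtain ⟨r₀, hr₀, hrM⟩ := Nat.exists_prime_and_dvd hM1.ne'
  have hodd : ∀ r : ℕ, r ∣ M → r ≠ 2 := by
    rintro r hr rfl
    omega
  have hsame : ∀ r : ℕ, r.Prime → r ∣ M → cls t (v ^ f) r = cls t (v ^ f) r₀ := by
    intro r hr hrM'
    by_cases hne : r = r₀
    · rw [hne]
    · exact same_of_big h hv hI hr hr₀ (hodd r hrM') (hodd r₀ hrM) hne (hb r hr hrM') (hb r₀ hr₀ hrM)
        (exists_dvd hM (((Nat.coprime_primes hr hr₀).2 hne).mul_dvd_of_dvd_of_dvd hrM' hrM))
  refine ⟨_, (hb r₀ hr₀ hrM).2, hsame, ?_⟩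
  have hT := torFacts h.cla hv hI
  rw [Nat.dvd_iff_prime_pow_dvd_dvd]
  intro r a hr hra
  rcases Nat.eq_zero_or_pos a with rfl | ha
  · rw [pow_zero]; exact one_dvd _
  · have hrM' : r ∣ M := (dvd_pow_self r (by omega)).trans hra
    obtain ⟨h1, h3, h4, h5⟩ := hb r hr hrM'
    rw [← hsame r hr hrM']
    exact hT.big r a hr (hodd r hrM') (fun hd => h1 ((Nat.prime_dvd_prime_iff_eq hr hv).1 hd)) h3 h4 h5
      (exists_dvd hM hra)

end

end Cfsg.Agent.R2.Spec.X4.H10
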